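import Cfsg.Agent.H881.CompG

/-!
**Component theorem**: every `g ∈ M` is a tensor or `g 𝔄 g⁻¹` commutes with `𝔄 = 1 ⊗ End(F^b)`.
-/

set_option autoImplicit false
set_option linter.unusedSectionVars false

namespace Cfsg.Agent.H881

open Module Cfsg.Agent.ClassicalGeometry Cfsg.Agent.H880 Matrix

section

variable {F : Type*} [Field F] {σ : F →+* F} [Finite F] {a b : ℕ} {M : Subgroup (Mat a b F ≃ₗ[F] Mat a b F)}

/-- A linear map on `End(F^b)` vanishing at `φ_x`, `x` non-isotropic, is zero. -/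
theorem span_noniso (hσ : σ ≠ RingHom.id F) (hσ2 : ∀ x : F, σ (σ x) = x) (hb : 3 ≤ b) {E : Type*} [AddCommGroup E]
    [Module F E] (ψ : ((Fin b → F) →ₗ[F] (Fin b → F)) →ₗ[F] E)
    (h : ∀ x : Fin b → F, stB σ b x x ≠ 0 → ψ (phi σ x) = 0) (T : (Fin b → F) →ₗ[F] (Fin b → F)) : ψ T = 0 := by
  have hS := stB_symm hσ2 b
  -- all `φ_x`
  have h1 : ∀ x : Fin b → F, ψ (phi σ x) = 0 := by
    intro w
    by_cases hw : stB σ b w w = 0
    · obtain ⟨e, hwe, hee⟩ := exists_unit_perp_of_ne (B := stB σ b) hσ hσ2 hS (stB_sepLeft b) (by simpa using hb) w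
      have hew := symm_zero hS hwe
      obtain ⟨ζ, hζ, hζ1, _⟩ := exists_norm_one hσ hσ2
      have hn : ∀ l : F, σ l * l = 1 → ψ (phi σ (w + l • e)) = 0 := by
        intro l hl
        apply h
        have : stB σ b (w + l • e) (w + l • e) = 1 := by
          simp only [map_add, LinearMap.add_apply, LinearMap.map_smulₛₗ₂, map_smul, smul_eq_mul, hw, hwe, hew, hee]
          linear_combination hl
        rw [this]
        exact one_ne_zero
      have e0 := h e (by rw [hee]; exact one_ne_zero)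
      have e1 := hn 1 (by rw [map_one, mul_one])
      have e2 := hn ζ hζ
      have e3 := hn (σ ζ) (by rw [hσ2, mul_comm, hζ])
      have e4 : (2 - ζ - σ ζ) • phi σ w = phi σ (w + ζ • e) + phi σ (w + σ ζ • e) - (ζ + σ ζ) • phi σ (w + (1 : F) • e) -
          (2 - ζ - σ ζ) • phi σ e := by
        refine LinearMap.ext fun v => ?_
        simp only [LinearMap.add_apply, LinearMap.sub_apply, LinearMap.smul_apply, phi_apply, map_add,
          LinearMap.map_smulₛₗ₂, smul_eq_mul, hσ2, map_one]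
        have hζ' : ζ * σ ζ = 1 := by rw [mul_comm]; exact hζ
        match_scalars
        · ring
        · linear_combination (-2 * stB σ b e v) * hζ
      have e5 : (2 - ζ - σ ζ) ≠ 0 := by
        have h2 : (2 - ζ - σ ζ) = (1 - ζ) * (1 - σ ζ) := by linear_combination -hζ
        rw [h2]
        apply mul_ne_zero (sub_ne_zero.mpr (Ne.symm hζ1))
        intro h3
        apply hζ1
        have h4 : σ ζ = 1 := (sub_eq_zero.mp h3).symm
        rw [← hσ2 ζ, h4, map_one]
      have e6 : (2 - ζ - σ ζ) • ψ (phi σ w) = 0 := by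
        rw [← map_smul, e4, map_sub, map_sub, map_add, map_smul, map_smul, e0, e1, e2, e3]
        simp
      exact (smul_eq_zero.mp e6).resolve_left e5
    · exact h w hw
  -- polarisation
  obtain ⟨p, hp⟩ := exists_fix_ne hσ
  have h2 : ∀ x y : Fin b → F, ψ ((stB σ b x).smulRight y) = 0 := by
    intro x y
    have e1 : (p - σ p) • (stB σ b x).smulRight y = (phi σ (x + p • y) - phi σ x - (p * σ p) • phi σ y) -
        σ p • (phi σ (x + y) - phi σ x - phi σ y) := by
      refine LinearMap.ext fun v => ?_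
      simp only [LinearMap.sub_apply, LinearMap.smul_apply, phi_apply, map_add,
          LinearMap.map_smulₛₗ₂, smul_eq_mul, LinearMap.smulRight_apply, LinearMap.add_apply]
      module
    have e2 : (p - σ p) • ψ ((stB σ b x).smulRight y) = 0 := by
      rw [← map_smul, e1]
      simp only [map_sub, map_smul, h1, smul_zero, sub_zero]
    exact (smul_eq_zero.mp e2).resolve_left (sub_ne_zero.mpr (Ne.symm hp))
  have h3 : T = ∑ j, (stB σ b (Pi.single j 1)).smulRight (T (Pi.single j 1)) := by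
    refine LinearMap.ext fun v => ?_
    rw [LinearMap.sum_apply]
    simp only [LinearMap.smulRight_apply, stB_single_left]
    conv_lhs => rw [pi_eq_sum_univ' v, map_sum]
    refine Finset.sum_congr rfl fun j _ => ?_
    rw [map_smul]
  rw [h3, map_sum]
  exact Finset.sum_eq_zero fun j _ => h2 _ _

theorem e_zero (hσ : σ ≠ RingHom.id F) (hσ2 : ∀ x : F, σ (σ x) = x) (ha : 1 ≤ a) (hb : 3 ≤ b)
    (hqb : 4 ≤ b ∨ ∃ c : F, c ≠ 0 ∧ σ c * c ≠ 1) {S : Set ((Fin a → F) ≃ₗ[F] (Fin a → F))} (hM : OverC σ M S)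
    (z : Mat a b F →ₗ[F] Mat a b F) : ∑ q ∈ Sset M, TQ q z = 0 := by
  let EE : (Mat a b F →ₗ[F] Mat a b F) →ₗ[F] (Mat a b F →ₗ[F] Mat a b F) := ∑ q ∈ Sset M, TQ q
  have hEE : ∀ z, EE z = ∑ q ∈ Sset M, TQ q z := fun z => LinearMap.sum_apply _ _ _
  have h1 : ∀ β T, EE (colL b β ∘ₗ rowL a T) = 0 := by
    intro β T
    let ψ : ((Fin b → F) →ₗ[F] (Fin b → F)) →ₗ[F] (Mat a b F →ₗ[F] Mat a b F) :=
      { toFun := fun T => EE (colL b β ∘ₗ rowL a T)
        map_add' := fun T T' => by
          rw [← map_add]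
          congr 1
          refine LinearMap.ext fun X => ?_
          exact map_add (colL b β) (rowL a T X) (rowL a T' X)
        map_smul' := fun c T => by
          rw [RingHom.id_apply, ← map_smul]
          congr 1
          refine LinearMap.ext fun X => ?_
          exact map_smul (colL b β) c (rowL a T X) }
    exact span_noniso hσ hσ2 hb ψ (fun x hx => by
      show EE (colL b β ∘ₗ rowL a (phi σ x)) = 0
      rw [hEE]
      exact e_zero_noniso hσ hσ2 ha hb hqb hM β hx) T
  rw [← hEE]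
  -- every `z` is a sum of tensors
  let Tik : Fin a → Fin a → (Fin b → F) →ₗ[F] (Fin b → F) := fun i k =>
    { toFun := fun v => z (vecMulVec (Pi.single i 1) v) k
      map_add' := fun v v' => by
        rw [Matrix.vecMulVec_add, map_add]; rfl
      map_smul' := fun c v => by
        rw [Matrix.vecMulVec_smul, map_smul]; rfl }
  have h2 : z = ∑ i, ∑ k, colL b ((LinearMap.proj i).smulRight (Pi.single k 1)) ∘ₗ rowL a (Tik i k) := by
    apply ext_pure
    intro u v
    rw [LinearMap.sum_apply]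
    have h3 : (vecMulVec u v : Mat a b F) = ∑ i, u i • vecMulVec (Pi.single i 1 : Fin a → F) v := by
      ext i' j'
      rw [Matrix.sum_apply, vecMulVec_apply]
      simp only [Matrix.smul_apply, vecMulVec_apply, smul_eq_mul, Pi.single_apply]
      rw [Finset.sum_eq_single i']
      · rw [if_pos rfl]; ring
      · intro k _ hk
        rw [if_neg (fun h => hk h.symm)]; ring
      · intro h; exact absurd (Finset.mem_univ _) h
    conv_lhs => rw [h3, map_sum]
    refine Finset.sum_congr rfl fun i _ => ?_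
    rw [map_smul, LinearMap.sum_apply, sum_rows (z (vecMulVec (Pi.single i 1) v)), Finset.smul_sum]
    refine Finset.sum_congr rfl fun k _ => ?_
    rw [LinearMap.comp_apply, rowL_pure, colL_pure, LinearMap.smulRight_apply, Matrix.smul_vecMulVec]
    rfl
  rw [h2, map_sum]
  refine Finset.sum_eq_zero fun i _ => ?_
  rw [map_sum]
  exact Finset.sum_eq_zero fun k _ => h1 _ _

theorem colL_add (Y Y' : (Fin a → F) →ₗ[F] (Fin a → F)) : colL b (Y + Y') = colL b Y + colL b Y' := by
  apply ext_pure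
  intro u v
  rw [LinearMap.add_apply, colL_pure, colL_pure, colL_pure, LinearMap.add_apply, Matrix.add_vecMulVec]

/-- **Component theorem.** -/
theorem component (hσ : σ ≠ RingHom.id F) (hσ2 : ∀ x : F, σ (σ x) = x) (ha : 1 ≤ a) (hb : 3 ≤ b)
    (hqb : 4 ≤ b ∨ ∃ c : F, c ≠ 0 ∧ σ c * c ≠ 1) {S : Set ((Fin a → F) ≃ₗ[F] (Fin a → F))} (hM : OverC σ M S)
    {g : Mat a b F ≃ₗ[F] Mat a b F} (hg : g ∈ M) : IsTens g ∨ Com g := by
  classical
  have hS := stB_symm hσ2 b
  have : Fintype (M ⧸ NN M) := Fintype.ofFinite _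
  let i0 : Fin a := ⟨0, ha⟩
  obtain ⟨w, _, hw0, hw⟩ := exists_isotropic (B := stB σ b) hσ hσ2 hS ⊤ (by rw [finrank_top]; simp; omega)
  obtain ⟨x, hx⟩ := exists_one_std (σ := σ) hw0
  -- the set of commuting cosets
  let C : Finset (M ⧸ NN M) := Finset.univ.filter (fun q => q ≠ ((1 : M) : M ⧸ NN M) ∧
    Com ((Quotient.out q : M) : Mat a b F ≃ₗ[F] Mat a b F))
  have hsplit : ∀ z : Mat a b F →ₗ[F] Mat a b F, ∑ q : M ⧸ NN M, TQ q z = rowL a (ptr z) + ∑ q ∈ C, TQ q z := by
    intro z
    have h1 : ∑ q : M ⧸ NN M, TQ q z = TQ ((1 : M) : M ⧸ NN M) z +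
        ∑ q ∈ Finset.univ.erase ((1 : M) : M ⧸ NN M), TQ q z :=
      (Finset.add_sum_erase _ _ (Finset.mem_univ _)).symm
    have h2 : Finset.univ.erase ((1 : M) : M ⧸ NN M) = C ∪ Sset M := by
      ext q
      simp only [C, Finset.mem_erase, Finset.mem_univ, and_true, Finset.mem_union, Finset.mem_filter, true_and, mem_Sset]
      tauto
    have h3 : Disjoint C (Sset M) := by
      rw [Finset.disjoint_left]
      intro q hq hq'
      exact (mem_Sset.mp hq').2 (Finset.mem_filter.mp hq).2.2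
    rw [h1, h2, Finset.sum_union h3, e_zero hσ hσ2 ha hb hqb hM, add_zero, TQ_mk]
    rfl
  -- equivariance
  have hequi : ∀ (h : M) (z : Mat a b F →ₗ[F] Mat a b F), ∑ q : M ⧸ NN M, TQ q (cj (h : Mat a b F ≃ₗ[F] Mat a b F) z) =
      cj (h : Mat a b F ≃ₗ[F] Mat a b F) (∑ q : M ⧸ NN M, TQ q z) := by
    intro h z
    rw [← Equiv.sum_comp (MulAction.toPerm h) (fun q => TQ q (cj (h : Mat a b F ≃ₗ[F] Mat a b F) z)), map_sum]
    refine Finset.sum_congr rfl fun q _ => ?_
    show TQ (h • q) (cj (h : Mat a b F ≃ₗ[F] Mat a b F) z) = _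
    rw [TQ_smul, cj_inv_cj]
  -- the values at commuting cosets
  have hC : ∀ z : Mat a b F →ₗ[F] Mat a b F, ∃ Y, ∑ q ∈ C, TQ q z = colL b Y := by
    intro z
    have h1 : ∀ D ⊆ C, ∃ Y, ∑ q ∈ D, TQ q z = colL b Y := by
      intro D
      induction D using Finset.induction_on with
      | empty =>
        intro _
        refine ⟨0, ?_⟩
        rw [Finset.sum_empty]
        apply ext_pure
        intro u v
        rw [colL_pure, LinearMap.zero_apply, LinearMap.zero_apply, zero_pure]
      | insert q D hq ih =>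
        intro hD
        obtain ⟨Y, hY⟩ := ih (fun r hr => hD (Finset.mem_insert_of_mem hr))
        obtain ⟨Y', hY'⟩ := (Finset.mem_filter.mp (hD (Finset.mem_insert_self q D))).2.2
          (ptr (cj ((Quotient.out q : M) : Mat a b F ≃ₗ[F] Mat a b F)⁻¹ z))
        refine ⟨Y' + Y, ?_⟩
        rw [Finset.sum_insert hq, hY, colL_add]
        congr 1
        exact LinearMap.ext hY'
    exact h1 C (Finset.Subset.refl _)
  -- the value at `β ⊗ φ_w`
  let β : (Fin a → F) →ₗ[F] (Fin a → F) := (LinearMap.proj i0).smulRight (Pi.single i0 1)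
  set z₀ : Mat a b F →ₗ[F] Mat a b F := colL b β ∘ₗ rowL a (phi σ w) with hz₀
  have hz₀C : ∀ q ∈ C, TQ q z₀ = 0 := by
    intro q hq
    have hcom := (Finset.mem_filter.mp hq).2.2
    set g₁ : Mat a b F ≃ₗ[F] Mat a b F := ((Quotient.out q : M) : Mat a b F ≃ₗ[F] Mat a b F) with hg₁
    let T₁ : (Fin b → F) →ₗ[F] (Fin b → F) := (stB σ b w).smulRight w
    obtain ⟨y, hy⟩ : ∃ y, stB σ b x y = 1 ∧ True := by
      have hx0 : x ≠ 0 := by
        rintro rfl
        rw [map_zero] at hx
        exact zero_ne_one hx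
      obtain ⟨y, hy⟩ := exists_one_std (σ := σ) hx0
      exact ⟨y, hy, trivial⟩
    -- `φ_w = T₁ T₂`, `T₂ T₁ = 0`
    let A₁ : (Fin b → F) →ₗ[F] (Fin b → F) := (stB σ b x).smulRight w
    let A₂ : (Fin b → F) →ₗ[F] (Fin b → F) := (stB σ b w).smulRight y
    have hA : A₁ ∘ₗ A₂ = phi σ w := by
      refine LinearMap.ext fun v => ?_
      show stB σ b x (stB σ b w v • y) • w = stB σ b w v • w
      rw [map_smul, hy.1, smul_eq_mul, mul_one]
    have hA' : A₂ ∘ₗ A₁ = 0 := by
      refine LinearMap.ext fun v => ?_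
      show stB σ b w (stB σ b x v • w) • y = 0
      rw [map_smul, hw, smul_zero, zero_smul]
    obtain ⟨Y, hY⟩ := hcom.inv (by omega) A₂
    have hY' : cj g₁⁻¹ (rowL a A₂) = colL b Y := LinearMap.ext hY
    have hz1 : z₀ = (colL b β ∘ₗ rowL a A₁) ∘ₗ rowL a A₂ := by
      rw [hz₀, ← hA]
      rfl
    have hz2 : rowL a A₂ ∘ₗ (colL b β ∘ₗ rowL a A₁) = 0 := by
      refine LinearMap.ext fun X => ?_
      show rowL a A₂ (colL b β (rowL a A₁ X)) = 0
      rw [row_col_comm, rowL_comp, hA']
      have : rowL a (0 : (Fin b → F) →ₗ[F] (Fin b → F)) X = 0 := rfl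
      rw [this, map_zero]
    have hp : ptr (cj g₁⁻¹ z₀) = 0 := by
      rw [hz1, cj_comp, hY', ← ptr_col_comm, ← hY', ← cj_comp, hz2, map_zero, map_zero]
    show TT g₁ z₀ = 0
    rw [TT_apply, hp]
    have : rowL a (0 : (Fin b → F) →ₗ[F] (Fin b → F)) = 0 := rfl
    rw [this, map_zero]
  have hptr : ptr z₀ = phi σ w := by
    rw [ptr_pure z₀ β (phi σ w) (fun u v => by rw [hz₀, LinearMap.comp_apply, rowL_pure, colL_pure])]
    have : ∑ i, β (Pi.single i 1) i = 1 := by
      rw [Finset.sum_eq_single i0]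
      · show (Pi.single i0 1 : Fin a → F) i0 • (Pi.single i0 1 : Fin a → F) i0 = 1
        rw [Pi.single_eq_same, smul_eq_mul, mul_one]
      · intro j _ hj
        show (Pi.single j 1 : Fin a → F) i0 • (Pi.single i0 1 : Fin a → F) j = 0
        rw [Pi.single_eq_of_ne (Ne.symm hj), zero_smul]
      · intro h; exact absurd (Finset.mem_univ _) h
    rw [this, one_smul]
  have hF : ∑ q : M ⧸ NN M, TQ q z₀ = rowL a (phi σ w) := by
    rw [hsplit, hptr, Finset.sum_eq_zero hz₀C, add_zero]
  have hconj : cj g (rowL a (phi σ w)) = rowL a (ptr (cj g z₀)) + ∑ q ∈ C, TQ q (cj g z₀) := by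
    rw [← hF, ← hsplit]
    exact (hequi ⟨g, hg⟩ z₀).symm
  obtain ⟨B₂, hB₂⟩ := hC (cj g z₀)
  set A := ptr (cj g z₀) with hAdef
  rw [hB₂] at hconj
  rcases two_term_rank hb (cj g (rowL a (phi σ w))) (LinearEquiv.refl F _) B₂ A (by
    intro u v
    rw [hconj, LinearMap.add_apply, rowL_pure, colL_pure]
    rfl) (by
    have h1 : cj g (rowL a (phi σ w)) = (g : Mat a b F →ₗ[F] Mat a b F) ∘ₗ rowL a (phi σ w) ∘ₗ
        (g.symm : Mat a b F →ₗ[F] Mat a b F) := rfl
    rw [h1, finrank_range_conj]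
    exact finrank_range_phi) with ⟨c, hc⟩ | ⟨c, hc⟩
  · -- column type
    apply com_of_col hσ hσ2 ha hb hqb hM hg hw0 hw (Y := c • LinearMap.id + B₂)
    intro X
    have h1 : cj g (rowL a (phi σ w)) = colL b (c • LinearMap.id + B₂) := by
      rw [hconj]
      apply ext_pure
      intro u v
      rw [LinearMap.add_apply, rowL_pure, colL_pure, colL_pure, hc, Matrix.vecMulVec_smul]
      show _ = vecMulVec (c • u + B₂ u) v
      rw [Matrix.add_vecMulVec, Matrix.smul_vecMulVec]
    exact LinearMap.congr_fun h1 X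
  · left
    have h2 : IsTens g⁻¹ := by
      apply tens_of_row hσ hσ2 ha hb hqb hM (M.inv_mem hg) hw0 hw (A := A + c • LinearMap.id)
      intro X
      have h1 : cj g (rowL a (phi σ w)) = rowL a (A + c • LinearMap.id) := by
        rw [hconj]
        apply ext_pure
        intro u v
        have h3 : B₂ u = c • u := hc u
        rw [LinearMap.add_apply, rowL_pure, rowL_pure, colL_pure, h3, Matrix.smul_vecMulVec]
        show _ = vecMulVec u (A v + c • v)
        rw [Matrix.vecMulVec_add, Matrix.vecMulVec_smul]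
      exact LinearMap.congr_fun h1 X
    have := h2.inv
    rwa [inv_inv] at this

end

end Cfsg.Agent.H881
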