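import Cfsg.Agent.H881.Slots
import Cfsg.Agent.H881.CompH
import Cfsg.Agent.H880.UFinal

/-!
Dictionary between the `t`-slot setting and the two-factor setting `F^{k^s} ⊗ F^k`, `t = s + 1`, for a slot `i`.
-/

set_option autoImplicit false
set_option linter.unusedSectionVars false

namespace Cfsg.Agent.H881

open Module Cfsg.Agent.ClassicalGeometry Cfsg.Agent.H880 Matrix Cfsg.Agent.H919

section Index

/-- Index equivalence singling out the slot `i`. -/
def sE (k : ℕ) {s : ℕ} (i : Fin (s + 1)) : Fin (k ^ s) × Fin k ≃ (Fin (s + 1) → Fin k) :=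
  ((Equiv.prodComm _ _).trans (Equiv.prodCongr (Equiv.refl _) finFunctionFinEquiv.symm)).trans
    (Fin.insertNthEquiv (fun _ => Fin k) i)

theorem sE_same {k s : ℕ} (i : Fin (s + 1)) (p : Fin (k ^ s)) (c : Fin k) : sE k i (p, c) i = c :=
  Fin.insertNth_apply_same (α := fun _ => Fin k) i c (finFunctionFinEquiv.symm p)

theorem sE_other {k s : ℕ} (i : Fin (s + 1)) (p : Fin (k ^ s)) (c : Fin k) (j : Fin s) :
    sE k i (p, c) (i.succAbove j) = finFunctionFinEquiv.symm p j :=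
  Fin.insertNth_apply_succAbove (α := fun _ => Fin k) i c (finFunctionFinEquiv.symm p) j

end Index

section Dict

variable {F : Type*} [Field F] {k s : ℕ}

/-- `F^{k^s} ⊗ F^k ≃ (F^k)^{⊗(s+1)}` with slot `i` as the last factor. -/
def Psi (F : Type*) [Field F] (k : ℕ) {s : ℕ} (i : Fin (s + 1)) :
    Mat (k ^ s) k F ≃ₗ[F] ((Fin (s + 1) → Fin k) → F) where
  toFun X := fun f => X ((sE k i).symm f).1 ((sE k i).symm f).2
  map_add' _ _ := rfl
  map_smul' _ _ := rfl
  invFun Z := fun p c => Z (sE k i (p, c))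
  left_inv X := by
    funext p c
    show X ((sE k i).symm (sE k i (p, c))).1 ((sE k i).symm (sE k i (p, c))).2 = X p c
    rw [Equiv.symm_apply_apply]
  right_inv Z := by
    funext f
    show Z (sE k i (((sE k i).symm f).1, ((sE k i).symm f).2)) = Z f
    rw [Prod.mk.eta, Equiv.apply_symm_apply]

theorem Psi_apply (i : Fin (s + 1)) (X : Mat (k ^ s) k F) (p : Fin (k ^ s)) (c : Fin k) :
    Psi F k i X (sE k i (p, c)) = X p c := by
  show X ((sE k i).symm (sE k i (p, c))).1 ((sE k i).symm (sE k i (p, c))).2 = X p c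
  rw [Equiv.symm_apply_apply]

theorem slotMat_sE (i : Fin (s + 1)) (x : Matrix (Fin k) (Fin k) F) (p p' : Fin (k ^ s)) (c c' : Fin k) :
    slotMat i x (sE k i (p, c)) (sE k i (p', c')) = if p = p' then x c c' else 0 := by
  rw [slotMat, pureMat_apply, Fin.prod_univ_succAbove _ i, sE_same, sE_same, Function.update_self]
  have h1 : ∀ j : Fin s, Function.update (fun _ : Fin (s + 1) => (1 : Matrix (Fin k) (Fin k) F)) i x (i.succAbove j)
      (sE k i (p, c) (i.succAbove j)) (sE k i (p', c') (i.succAbove j)) =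
      if finFunctionFinEquiv.symm p j = finFunctionFinEquiv.symm p' j then 1 else 0 := by
    intro j
    rw [Function.update_of_ne (Fin.succAbove_ne i j), sE_other, sE_other, Matrix.one_apply]
  rw [Finset.prod_congr rfl (fun j _ => h1 j)]
  by_cases hp : p = p'
  · subst hp
    simp
  · rw [if_neg hp]
    obtain ⟨j, hj⟩ : ∃ j, finFunctionFinEquiv.symm p j ≠ finFunctionFinEquiv.symm p' j := by
      by_contra hcon
      push Not at hcon
      exact hp (finFunctionFinEquiv.symm.injective (funext hcon))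
    rw [Finset.prod_eq_zero (Finset.mem_univ j) (if_neg hj), mul_zero]

theorem slotMat_Psi (i : Fin (s + 1)) (x : Matrix (Fin k) (Fin k) F) (X : Mat (k ^ s) k F) :
    slotMat i x *ᵥ Psi F k i X = Psi F k i (rowL (k ^ s) x.mulVecLin X) := by
  funext f
  obtain ⟨⟨p, c⟩, rfl⟩ := (sE k i).surjective f
  rw [Psi_apply, rowL_apply, Matrix.mulVecLin_apply]
  show ∑ g, slotMat i x (sE k i (p, c)) g * Psi F k i X g = ∑ c', x c c' * X p c'
  rw [← (sE k i).sum_comp, Fintype.sum_prod_type, Finset.sum_eq_single p]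
  · refine Finset.sum_congr rfl fun c' _ => ?_
    rw [slotMat_sE, if_pos rfl, Psi_apply]
  · intro p' _ hp'
    refine Finset.sum_eq_zero fun c' _ => ?_
    rw [slotMat_sE, if_neg (Ne.symm hp'), zero_mul]
  · intro h; exact absurd (Finset.mem_univ _) h

/-- A matrix as an operator on `F^{k^s} ⊗ F^k`. -/
def dM (i : Fin (s + 1)) (K : Matrix (Fin (s + 1) → Fin k) (Fin (s + 1) → Fin k) F) :
    Mat (k ^ s) k F →ₗ[F] Mat (k ^ s) k F :=
  ((Psi F k i).symm : ((Fin (s + 1) → Fin k) → F) →ₗ[F] Mat (k ^ s) k F) ∘ₗ K.mulVecLin ∘ₗ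
    (Psi F k i : Mat (k ^ s) k F →ₗ[F] ((Fin (s + 1) → Fin k) → F))

theorem Psi_dM (i : Fin (s + 1)) (K : Matrix (Fin (s + 1) → Fin k) (Fin (s + 1) → Fin k) F) (X : Mat (k ^ s) k F) :
    Psi F k i (dM i K X) = K *ᵥ Psi F k i X := (Psi F k i).apply_symm_apply _

theorem dM_slot (i : Fin (s + 1)) (x : Matrix (Fin k) (Fin k) F) : dM i (slotMat i x) = rowL (k ^ s) x.mulVecLin := by
  refine LinearMap.ext fun X => ?_
  apply (Psi F k i).injective
  rw [Psi_dM, slotMat_Psi]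

theorem dM_mul (i : Fin (s + 1)) (K L : Matrix (Fin (s + 1) → Fin k) (Fin (s + 1) → Fin k) F) :
    dM i (K * L) = dM i K ∘ₗ dM i L := by
  refine LinearMap.ext fun X => ?_
  apply (Psi F k i).injective
  rw [Psi_dM, LinearMap.comp_apply, Psi_dM, Psi_dM, Matrix.mulVec_mulVec]

theorem dM_inj (i : Fin (s + 1)) {K L : Matrix (Fin (s + 1) → Fin k) (Fin (s + 1) → Fin k) F}
    (h : dM i K = dM i L) : K = L := by
  apply Matrix.mulVec_injective
  funext Z
  obtain ⟨X, rfl⟩ := (Psi F k i).surjective Z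
  rw [← Psi_dM, ← Psi_dM, h]

theorem dM_surj (i : Fin (s + 1)) (f : Mat (k ^ s) k F →ₗ[F] Mat (k ^ s) k F) :
    ∃ K : Matrix (Fin (s + 1) → Fin k) (Fin (s + 1) → Fin k) F, dM i K = f := by
  refine ⟨LinearMap.toMatrix' ((Psi F k i : Mat (k ^ s) k F →ₗ[F] ((Fin (s + 1) → Fin k) → F)) ∘ₗ f ∘ₗ
    ((Psi F k i).symm : ((Fin (s + 1) → Fin k) → F) →ₗ[F] Mat (k ^ s) k F)), LinearMap.ext fun X => ?_⟩
  apply (Psi F k i).injective
  rw [Psi_dM, LinearMap.toMatrix'_mulVec]
  show Psi F k i (f ((Psi F k i).symm (Psi F k i X))) = _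
  rw [LinearEquiv.symm_apply_apply]

theorem dM_one (i : Fin (s + 1)) : dM i (1 : Matrix (Fin (s + 1) → Fin k) (Fin (s + 1) → Fin k) F) = LinearMap.id := by
  refine LinearMap.ext fun X => ?_
  apply (Psi F k i).injective
  rw [Psi_dM, Matrix.one_mulVec]
  rfl

theorem dM_smul (i : Fin (s + 1)) (c : F) (K : Matrix (Fin (s + 1) → Fin k) (Fin (s + 1) → Fin k) F) :
    dM i (c • K) = c • dM i K := by
  refine LinearMap.ext fun X => ?_
  apply (Psi F k i).injective
  rw [Psi_dM, Matrix.smul_mulVec, LinearMap.smul_apply, map_smul, Psi_dM]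

theorem dM_add (i : Fin (s + 1)) (K L : Matrix (Fin (s + 1) → Fin k) (Fin (s + 1) → Fin k) F) :
    dM i (K + L) = dM i K + dM i L := by
  refine LinearMap.ext fun X => ?_
  apply (Psi F k i).injective
  rw [Psi_dM, Matrix.add_mulVec, LinearMap.add_apply, map_add, Psi_dM, Psi_dM]

theorem row_eq_dM (i : Fin (s + 1)) (T : (Fin k → F) →ₗ[F] (Fin k → F)) :
    rowL (k ^ s) T = dM i (slotMat i (LinearMap.toMatrix' T)) := by
  rw [dM_slot]
  congr 1
  exact (Matrix.toLin'_toMatrix' T).symm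

theorem comm_slot (hk : 1 ≤ k) (i : Fin (s + 1)) {K : Matrix (Fin (s + 1) → Fin k) (Fin (s + 1) → Fin k) F}
    (h : ∀ x, K * slotMat i x = slotMat i x * K) : ∃ Y, dM i K = colL k Y := by
  apply eq_colL_of_comm hk
  intro T X
  rw [row_eq_dM i T]
  have h1 := h (LinearMap.toMatrix' T)
  have h2 : dM i K ∘ₗ dM i (slotMat i (LinearMap.toMatrix' T)) = dM i (slotMat i (LinearMap.toMatrix' T)) ∘ₗ dM i K := by
    rw [← dM_mul, ← dM_mul, h1]
  exact LinearMap.congr_fun h2 X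

theorem slot_comm (i : Fin (s + 1)) {K : Matrix (Fin (s + 1) → Fin k) (Fin (s + 1) → Fin k) F}
    {Y : (Fin (k ^ s) → F) →ₗ[F] (Fin (k ^ s) → F)} (h : dM i K = colL k Y) (x : Matrix (Fin k) (Fin k) F) :
    K * slotMat i x = slotMat i x * K := by
  apply dM_inj i
  rw [dM_mul, dM_mul, h, dM_slot]
  refine LinearMap.ext fun X => ?_
  exact (row_col_comm _ _ X).symm

/-- The group elements. -/
theorem ofMat_dM (i : Fin (s + 1)) (g : Mat (k ^ s) k F ≃ₗ[F] Mat (k ^ s) k F) :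
    dM i ((ofMat (Psi F k i) g : Matrix.GeneralLinearGroup (Fin (s + 1) → Fin k) F) :
      Matrix (Fin (s + 1) → Fin k) (Fin (s + 1) → Fin k) F) = (g : Mat (k ^ s) k F →ₗ[F] Mat (k ^ s) k F) := by
  refine LinearMap.ext fun X => ?_
  apply (Psi F k i).injective
  rw [Psi_dM, ofMat_mulVec]
  rfl

theorem ofMat_eq (i : Fin (s + 1)) (g : Mat (k ^ s) k F ≃ₗ[F] Mat (k ^ s) k F)
    {G : Matrix.GeneralLinearGroup (Fin (s + 1) → Fin k) F}
    (h : dM i (G : Matrix (Fin (s + 1) → Fin k) (Fin (s + 1) → Fin k) F) = (g : Mat (k ^ s) k F →ₗ[F] Mat (k ^ s) k F)) :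
    ofMat (Psi F k i) g = G := by
  apply Units.ext
  apply dM_inj i
  rw [ofMat_dM, h]

variable {σ : F →+* F}

theorem BV_Psi (i : Fin (s + 1)) (X Y : Mat (k ^ s) k F) :
    BV σ (k ^ s) k X Y = ∑ f, σ (Psi F k i X f) * Psi F k i Y f := by
  rw [← (sE k i).sum_comp, Fintype.sum_prod_type, BV_apply]
  refine Finset.sum_congr rfl fun p _ => ?_
  rw [stB_apply]
  refine Finset.sum_congr rfl fun c _ => ?_
  rw [Psi_apply, Psi_apply]

/-- Unitary matrices preserve the standard Hermitian form. -/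
theorem unit_iso {ι : Type*} [Fintype ι] [DecidableEq ι] {A : Matrix ι ι F} (hA : (A.map σ)ᵀ * A = 1) (Z W : ι → F) :
    ∑ f, σ ((A *ᵥ Z) f) * (A *ᵥ W) f = ∑ f, σ (Z f) * W f := by
  have h1 : ∀ Z : ι → F, (fun f => σ ((A *ᵥ Z) f)) = (A.map σ) *ᵥ (fun f => σ (Z f)) := by
    intro Z
    funext f
    simp only [Matrix.mulVec, dotProduct, map_sum, map_mul, Matrix.map_apply]
  show (fun f => σ ((A *ᵥ Z) f)) ⬝ᵥ (A *ᵥ W) = (fun f => σ (Z f)) ⬝ᵥ W
  rw [h1, Matrix.dotProduct_mulVec, ← Matrix.mulVec_transpose, Matrix.mulVec_mulVec, dotProduct_comm]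
  have h2 : Aᵀ * A.map σ = 1 := by
    have h3 := congrArg Matrix.transpose hA
    rw [Matrix.transpose_mul, Matrix.transpose_transpose, Matrix.transpose_one] at h3
    exact h3
  rw [h2, Matrix.one_mulVec, dotProduct_comm]

/-- Isometries have unitary matrices. -/
theorem iso_unit {m : ℕ} {A : Matrix (Fin m) (Fin m) F} (h : ∀ x y, stB σ m (A *ᵥ x) (A *ᵥ y) = stB σ m x y) :
    (A.map σ)ᵀ * A = 1 := by
  ext i j
  have h1 := h (Pi.single i 1) (Pi.single j 1)
  rw [stB_single_left, stB_apply] at h1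
  rw [Matrix.mul_apply, Matrix.one_apply]
  simp only [Matrix.mulVec_single_one, Matrix.transpose_apply, Matrix.map_apply, Matrix.col_apply] at h1 ⊢
  rw [h1, Pi.single_apply]

end Dict

end Cfsg.Agent.H881
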