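import Cfsg.Agent.H880.UStab

/-!
Isometry groups `M` of `F^a ⊗ F^b` containing `1 ⊗ SU_b`. If the layer `M ∩ {X ↦ X + κ(con w X) ⊗ w}` is scalar,
the elements of `M` trivial on `F^a ⊗ w`, `w^⊥/w`, `V/w^⊥` are of the form `1 ⊗ z` (`layer_row`); an element
commuting with the Siegel group of `w` is `α ⊗ 1 + β ⊗ φ_w` (`comm_siegel`).
-/

set_option autoImplicit false
set_option linter.unusedSectionVars false

namespace Cfsg.Agent.H881

open Module Cfsg.Agent.ClassicalGeometry Cfsg.Agent.H880 Matrix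

section

variable {F : Type*} [Field F] {σ : F →+* F} [Finite F] {a b : ℕ} {M : Subgroup (Mat a b F ≃ₗ[F] Mat a b F)}

/-- `M` is a group of isometries of `F^a ⊗ F^b` containing `1 ⊗ SU_b`. -/
structure RowG (σ : F →+* F) (M : Subgroup (Mat a b F ≃ₗ[F] Mat a b F)) : Prop where
  iso : ∀ g ∈ M, ∀ X Y, BV σ a b (g X) (g Y) = BV σ a b X Y
  row : ∀ z : (Fin b → F) ≃ₗ[F] (Fin b → F), (∀ x y, stB σ b (z x) (z y) = stB σ b x y) →
    LinearMap.det (z : (Fin b → F) →ₗ[F] (Fin b → F)) = 1 → rowE a z ∈ M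

theorem layer_row (hσ : σ ≠ RingHom.id F) (hσ2 : ∀ x : F, σ (σ x) = x) (ha : 1 ≤ a) (hM : RowG σ M)
    {w : Fin b → F} (hw0 : w ≠ 0) (hw : stB σ b w w = 0)
    (hK : ∀ κ : (Fin a → F) →ₗ[F] (Fin a → F), InK σ M w κ → ∃ c : F, ∀ x, κ x = c • x)
    {g : Mat a b F ≃ₗ[F] Mat a b F} (hg : g ∈ M) (hgw : ∀ u, g (vecMulVec u w) = vecMulVec u w)
    (hgp : ∀ Y, con σ w Y = 0 → ∃ u, g Y = Y + vecMulVec u w) :
    ∃ z : (Fin b → F) ≃ₗ[F] (Fin b → F), g = rowE a z := by
  have hSb := stB_symm hσ2 b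
  obtain ⟨w', hww'⟩ := exists_one_std (σ := σ) hw0
  have hw'w : stB σ b w' w = 1 := by rw [← hSb.eq, hww', map_one]
  have hgiso := hM.iso g hg
  have hgcon := con_of_fix hgiso hgw
  let i0 : Fin a := ⟨0, ha⟩
  let E : (Fin b → F) → (Fin a → F) →ₗ[F] (Fin a → F) := fun x =>
    con σ w' ∘ₗ ((g : Mat a b F →ₗ[F] Mat a b F) - LinearMap.id) ∘ₗ pureL x
  have hE : ∀ x u, E x u = con σ w' (g (vecMulVec u x) - vecMulVec u x) := fun x u => rfl
  have hEx : ∀ x, stB σ b w x = 0 → ∀ u, g (vecMulVec u x) = vecMulVec u x + vecMulVec (E x u) w := by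
    intro x hx u
    obtain ⟨u', hu'⟩ := hgp (vecMulVec u x) (by rw [con_pure, hx, zero_smul])
    rw [hE, hu', add_sub_cancel_left, con_pure, hw'w, one_smul]
  -- the commutators
  have hcomm : ∀ x, stB σ b w x = 0 → InK σ M w (E x + con σ x ∘ₗ ((g : Mat a b F →ₗ[F] Mat a b F) - LinearMap.id) ∘ₗ
      pureL w') := by
    intro x hx
    have hxw := symm_zero hSb hx
    obtain ⟨ν, hν⟩ := HermWitt.trace_surj σ hσ hσ2 (stB σ b x x) (hSb.eq _ _)
    obtain ⟨q, hq, hqi, hqd⟩ := exists_siegel (B := stB σ b) hSb hw hx hν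
    have hQ := hM.row q hqi hqd
    refine ⟨g * rowE a q * g⁻¹ * (rowE a q)⁻¹, M.mul_mem (M.mul_mem (M.mul_mem hg hQ) (M.inv_mem hg)) (M.inv_mem hQ),
      fun X => ?_⟩
    obtain ⟨Y', rfl⟩ := (rowE a q).surjective X
    obtain ⟨Y, rfl⟩ := g.surjective Y'
    show g (rowE a q (g.symm ((rowE a q).symm (rowE a q (g Y))))) = _
    rw [LinearEquiv.symm_apply_apply, LinearEquiv.symm_apply_apply]
    have hqw : q w = w := by rw [hq, hw, hxw]; simp
    have e1 : con σ w (rowE a q (g Y)) = con σ w Y := by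
      have := con_rowE hqi w (g Y)
      rw [hqw] at this
      rw [this, hgcon]
    rw [e1, rowE_siegel hq Y, rowE_siegel hq (g Y), map_sub, map_add, hgw, hEx x hx, hgcon]
    show _ = _ + vecMulVec (E x (con σ w Y) + con σ x (g (vecMulVec (con σ w Y) w') - vecMulVec (con σ w Y) w')) w
    have e2 : con σ x (g Y) = con σ x Y + con σ x (g (vecMulVec (con σ w Y) w') - vecMulVec (con σ w Y) w') := by
      obtain ⟨u', hu'⟩ := hgp (Y - vecMulVec (con σ w Y) w') (by rw [map_sub, con_pure, hww', one_smul, sub_self])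
      rw [map_sub] at hu'
      have h3 : g Y = Y + (g (vecMulVec (con σ w Y) w') - vecMulVec (con σ w Y) w') + vecMulVec u' w := by
        rw [sub_eq_iff_eq_add] at hu'
        rw [hu']; abel
      conv_lhs => rw [h3]
      rw [map_add, map_add, con_pure, hxw, zero_smul, add_zero]
    rw [e2]
    simp only [Matrix.add_vecMulVec]
    abel
  -- `E x` is scalar
  have hEscal : ∀ x, stB σ b w x = 0 → ∃ c : F, ∀ u, E x u = c • u := by
    intro x hx
    obtain ⟨p, hp⟩ := exists_fix_ne hσ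
    obtain ⟨c1, hc1⟩ := hK _ (hcomm x hx)
    obtain ⟨c2, hc2⟩ := hK _ (hcomm (p • x) (by rw [map_smul, hx, smul_zero]))
    have hp' : σ p - p ≠ 0 := sub_ne_zero.mpr hp
    refine ⟨(σ p * c1 - c2) / (σ p - p), fun u => ?_⟩
    have h1 : E x u + con σ x (g (vecMulVec u w') - vecMulVec u w') = c1 • u := hc1 u
    have h2 : E (p • x) u + con σ (p • x) (g (vecMulVec u w') - vecMulVec u w') = c2 • u := hc2 u
    have h3 : E (p • x) u = p • E x u := by
      rw [hE, hE, Matrix.vecMulVec_smul, map_smul, ← smul_sub, map_smul]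
    rw [h3, con_smul] at h2
    have h4 : (σ p - p) • E x u = (σ p * c1 - c2) • u := by
      have : (σ p - p) • E x u = σ p • (E x u + con σ x (g (vecMulVec u w') - vecMulVec u w')) -
          (p • E x u + σ p • con σ x (g (vecMulVec u w') - vecMulVec u w')) := by module
      rw [this, h1, h2]; module
    rw [div_eq_inv_mul, mul_smul, ← h4, smul_smul, inv_mul_cancel₀ hp', one_smul]
  let ε : (Fin b → F) →ₗ[F] F := LinearMap.proj i0 ∘ₗ con σ w' ∘ₗ ((g : Mat a b F →ₗ[F] Mat a b F) - LinearMap.id) ∘ₗ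
    pureR (Pi.single i0 1)
  have hε : ∀ x, ε x = E x (Pi.single i0 1) i0 := fun x => rfl
  have hEε : ∀ x, stB σ b w x = 0 → ∀ u, E x u = ε x • u := by
    intro x hx u
    obtain ⟨c, hc⟩ := hEscal x hx
    rw [hε, hc, hc, Pi.smul_apply, Pi.single_eq_same, smul_eq_mul, mul_one]
  have hgε : ∀ x, stB σ b w x = 0 → ∀ u, g (vecMulVec u x) = vecMulVec u (x + ε x • w) := by
    intro x hx u
    rw [hEx x hx, hEε x hx, Matrix.vecMulVec_add, Matrix.smul_vecMulVec, Matrix.vecMulVec_smul]
  have hεw : ε w = 0 := by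
    rw [hε, hE, hgw, sub_self, map_zero]; rfl
  -- Witt extension
  let X := perp (stB σ b) {w}
  have hX : ∀ x : X, stB σ b w (x : Fin b → F) = 0 := fun x => x.2 w rfl
  let f : X →ₗ[F] (Fin b → F) := (LinearMap.id + ε.smulRight w) ∘ₗ X.subtype
  have hf : ∀ x : X, f x = (x : Fin b → F) + ε x • w := fun x => rfl
  obtain ⟨z, hz, hzf⟩ := HermWitt.exists_extension σ (stB σ b) hσ hσ2 hSb (stB_sepLeft b) X f
    (by
      rw [← LinearMap.ker_eq_bot, LinearMap.ker_eq_bot']
      intro x hx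
      rw [hf] at hx
      have h1 : (x : Fin b → F) = (-ε x) • w := by
        rw [neg_smul]; exact eq_neg_of_add_eq_zero_left hx
      have h2 : ε (x : Fin b → F) = 0 := by
        conv_lhs => rw [h1]
        rw [map_smul, hεw, smul_zero]
      apply Subtype.ext
      rw [h1, h2, neg_zero, zero_smul]; rfl)
    (by
      intro x x'
      have h1 := hX x
      have h2 := hX x'
      have h3 := symm_zero hSb h1
      rw [hf, hf]
      simp only [map_add, LinearMap.add_apply, LinearMap.map_smulₛₗ₂, map_smul, hw, h2, h3, smul_zero, add_zero])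
  have hzX : ∀ x, stB σ b w x = 0 → z x = x + ε x • w := by
    intro x hx
    exact hzf ⟨x, by rw [mem_perp]; rintro _ rfl; exact hx⟩
  have hzw : z w = w := by rw [hzX w hw, hεw, zero_smul, add_zero]
  have hzd : LinearMap.det (z : (Fin b → F) →ₗ[F] (Fin b → F)) = 1 := by
    apply det_eq_one_of_nilpotent (k := 3)
    refine LinearMap.ext fun y => ?_
    show z (z (z y - y) - (z y - y)) - (z (z y - y) - (z y - y)) = 0
    have h1 : stB σ b w (z y - y) = 0 := by
      rw [map_sub, sub_eq_zero]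
      conv_lhs => rw [← hzw]
      exact hz w y
    rw [hzX _ h1, add_sub_cancel_left, map_smul, hzw, sub_self]
  set h := rowE a z with hh
  have hhiso := rowE_iso (a := a) hz
  have hgh : ∀ Y, con σ w Y = 0 → g Y = h Y := by
    intro Y hY
    rw [sum_rows Y, map_sum, map_sum]
    refine Finset.sum_congr rfl fun i _ => ?_
    rw [hgε _ (row_perp hY i), hh, rowE_pure, hzX _ (row_perp hY i)]
  set k := h⁻¹ * g with hk_def
  have hkiso : ∀ X Y, BV σ a b (k X) (k Y) = BV σ a b X Y := by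
    intro X Y
    rw [← hhiso (k X), ← hgiso X]
    show BV σ a b (h (h.symm (g X))) (h (h.symm (g Y))) = _
    rw [LinearEquiv.apply_symm_apply, LinearEquiv.apply_symm_apply]
  have hkfix : ∀ Y, con σ w Y = 0 → k Y = Y := by
    intro Y hY
    show h.symm (g Y) = Y
    rw [LinearEquiv.symm_apply_eq, hgh Y hY]
  obtain ⟨κ, hκ⟩ := form_of_fix_perp hσ2 hww' hkiso hkfix
  have hghk : g = h * k := by rw [hk_def, mul_inv_cancel_left]
  have hhM : h ∈ M := hM.row z hz hzd
  have hkM : k ∈ M := M.mul_mem (M.inv_mem hhM) hg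
  obtain ⟨c, hc⟩ := hK κ ⟨k, hkM, hκ⟩
  have hcs : c + σ c = 0 := by
    have h1 := hkiso (vecMulVec (Pi.single i0 1) w') (vecMulVec (Pi.single i0 1) w')
    rw [hκ, hc, con_pure, hww', one_smul] at h1
    simp only [map_add, LinearMap.add_apply, BV_pure, Matrix.smul_vecMulVec, LinearMap.map_smulₛₗ₂, map_smul,
      stB_single_left, Pi.single_eq_same, smul_eq_mul, hw'w, hww', hw, mul_one, mul_zero, add_zero] at h1
    linear_combination h1
  obtain ⟨t, ht, _, _, _⟩ := exists_tv (B := stB σ b) hSb hw hcs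
  have hkt : k = rowE a t := by
    apply ext_pure'
    intro u x
    rw [hκ, hc, con_pure, smul_smul, rowE_pure, ht, Matrix.vecMulVec_add, Matrix.smul_vecMulVec, Matrix.vecMulVec_smul]
  refine ⟨z * t, ?_⟩
  rw [hghk, hkt]
  rfl

/-- An element commuting with the Siegel elements `1 ⊗ q` at `w` is of the form `α ⊗ 1 + β ⊗ φ_w`. -/
theorem comm_siegel (hσ : σ ≠ RingHom.id F) (hσ2 : ∀ x : F, σ (σ x) = x) (hb : 3 ≤ b)
    {w : Fin b → F} (hw0 : w ≠ 0) (hw : stB σ b w w = 0)
    {k : Mat a b F →ₗ[F] Mat a b F}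
    (hk : ∀ q : (Fin b → F) ≃ₗ[F] (Fin b → F), ∀ x ν, stB σ b w x = 0 → ν + σ ν = stB σ b x x →
      (∀ v, q v = v + stB σ b w v • x - (stB σ b x v + ν * stB σ b w v) • w) →
      (∀ u v, stB σ b (q u) (q v) = stB σ b u v) → LinearMap.det (q : (Fin b → F) →ₗ[F] (Fin b → F)) = 1 →
      ∀ Y, k (rowE a q Y) = rowE a q (k Y)) :
    ∃ α β : (Fin a → F) →ₗ[F] (Fin a → F), ∀ u v, k (vecMulVec u v) = vecMulVec (α u) v +
      stB σ b w v • vecMulVec (β u) w := by
  have hSb := stB_symm hσ2 b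
  obtain ⟨w', hww'⟩ := exists_one_std (σ := σ) hw0
  have hw'w : stB σ b w' w = 1 := by rw [← hSb.eq, hww', map_one]
  -- the basic relation
  have hrel : ∀ x, stB σ b w x = 0 → ∃ ν : F, ∀ u v,
      k (vecMulVec u (v + stB σ b w v • x - (stB σ b x v + ν * stB σ b w v) • w)) =
        k (vecMulVec u v) + vecMulVec (con σ w (k (vecMulVec u v))) x -
          vecMulVec (con σ x (k (vecMulVec u v)) + ν • con σ w (k (vecMulVec u v))) w := by
    intro x hx
    obtain ⟨ν, hν⟩ := HermWitt.trace_surj σ hσ hσ2 (stB σ b x x) (hSb.eq _ _)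
    obtain ⟨q, hq, hqi, hqd⟩ := exists_siegel (B := stB σ b) hSb hw hx hν
    refine ⟨ν, fun u v => ?_⟩
    have h1 := hk q x ν hx hν hq hqi hqd (vecMulVec u v)
    rw [rowE_pure, hq, rowE_siegel hq] at h1
    exact h1
  obtain ⟨e, hwe, hee⟩ := exists_unit_perp_of_ne (B := stB σ b) hσ hσ2 hSb (stB_sepLeft b) (by simpa using hb) w
  have hew : stB σ b e w = 0 := symm_zero hSb hwe
  -- a vector killed by `con w` and all `con x`, `x ⟂ w`, is `u ⊗ w`
  have hform : ∀ Y : Mat a b F, con σ w Y = 0 → (∀ x, stB σ b w x = 0 → con σ x Y = 0) →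
      Y = vecMulVec (con σ w' Y) w := by
    intro Y _ hY
    apply eq_pure_of_perp hσ2 hww'
    intro Z hZ
    apply symm_zero (BV_symm hσ2 a b)
    rw [BV_apply]
    apply Finset.sum_eq_zero
    intro i _
    exact congrFun (hY (Z i) (row_perp hZ i)) i
  -- from `A ⊗ e = B ⊗ w` to `A = 0`
  have hAe : ∀ A B : Fin a → F, (vecMulVec A e : Mat a b F) = vecMulVec B w → A = 0 := by
    intro A B h
    have h1 := congrArg (con σ e) h
    rw [con_pure, con_pure, hee, hew, one_smul, zero_smul] at h1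
    exact h1
  -- step 1: `v = w`
  have s1 : ∀ u, k (vecMulVec u w) = vecMulVec (con σ w' (k (vecMulVec u w))) w := by
    intro u
    have h0 : ∀ x, stB σ b w x = 0 → ∃ ν : F, vecMulVec (con σ w (k (vecMulVec u w))) x =
        vecMulVec (con σ x (k (vecMulVec u w)) + ν • con σ w (k (vecMulVec u w))) w := by
      intro x hx
      obtain ⟨ν, h⟩ := hrel x hx
      refine ⟨ν, ?_⟩
      have h1 := h u w
      have e1 : w + stB σ b w w • x - (stB σ b x w + ν * stB σ b w w) • w = w := by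
        rw [hw, symm_zero hSb hx]; simp
      rw [e1] at h1
      have h2 : k (vecMulVec u w) + vecMulVec (con σ w (k (vecMulVec u w))) x -
          vecMulVec (con σ x (k (vecMulVec u w)) + ν • con σ w (k (vecMulVec u w))) w - k (vecMulVec u w) = 0 := by
        rw [← h1, sub_self]
      have h3 : vecMulVec (con σ w (k (vecMulVec u w))) x -
          vecMulVec (con σ x (k (vecMulVec u w)) + ν • con σ w (k (vecMulVec u w))) w = 0 := by
        rw [← h2]; abel
      exact sub_eq_zero.mp h3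
    have hc0 : con σ w (k (vecMulVec u w)) = 0 := by
      obtain ⟨ν, h⟩ := h0 e hwe
      exact hAe _ _ h
    apply hform _ hc0
    intro x hx
    obtain ⟨ν, h⟩ := h0 x hx
    rw [hc0, zero_pure, smul_zero, add_zero] at h
    have h1 := congrArg (con σ w') h
    rw [con_pure, hw'w, one_smul, map_zero] at h1
    exact h1.symm
  let α : (Fin a → F) →ₗ[F] (Fin a → F) := con σ w' ∘ₗ k ∘ₗ pureL w
  have hα : ∀ u, k (vecMulVec u w) = vecMulVec (α u) w := s1
  -- step 2: `v ⟂ w`
  have s2 : ∀ u v, stB σ b w v = 0 → con σ w (k (vecMulVec u v)) = 0 ∧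
      ∀ x, stB σ b w x = 0 → con σ x (k (vecMulVec u v)) = stB σ b x v • α u := by
    intro u v hv
    have h0 : ∀ x, stB σ b w x = 0 → ∃ ν : F, vecMulVec (con σ w (k (vecMulVec u v))) x =
        vecMulVec (con σ x (k (vecMulVec u v)) + ν • con σ w (k (vecMulVec u v)) - stB σ b x v • α u) w := by
      intro x hx
      obtain ⟨ν, h⟩ := hrel x hx
      refine ⟨ν, ?_⟩
      have h1 := h u v
      have e1 : v + stB σ b w v • x - (stB σ b x v + ν * stB σ b w v) • w = v - stB σ b x v • w := by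
        rw [hv]; simp
      rw [e1, Matrix.vecMulVec_sub, Matrix.vecMulVec_smul, map_sub, map_smul, hα] at h1
      rw [Matrix.sub_vecMulVec, Matrix.smul_vecMulVec]
      have h2 := congrArg (fun Z => Z - k (vecMulVec u v) + vecMulVec (con σ x (k (vecMulVec u v)) +
        ν • con σ w (k (vecMulVec u v))) w) h1
      rw [eq_comm] at h2
      calc vecMulVec (con σ w (k (vecMulVec u v))) x
          = k (vecMulVec u v) + vecMulVec (con σ w (k (vecMulVec u v))) x -
            vecMulVec (con σ x (k (vecMulVec u v)) + ν • con σ w (k (vecMulVec u v))) w - k (vecMulVec u v) +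
            vecMulVec (con σ x (k (vecMulVec u v)) + ν • con σ w (k (vecMulVec u v))) w := by abel
        _ = _ := h2
        _ = _ := by abel
    have hc0 : con σ w (k (vecMulVec u v)) = 0 := by
      obtain ⟨ν, h⟩ := h0 e hwe
      exact hAe _ _ h
    refine ⟨hc0, fun x hx => ?_⟩
    obtain ⟨ν, h⟩ := h0 x hx
    rw [hc0, zero_pure, smul_zero, add_zero] at h
    have h1 := congrArg (con σ w') h
    rw [con_pure, hw'w, one_smul, map_zero] at h1
    exact (sub_eq_zero.mp h1.symm)
  let γ : (Fin b → F) → (Fin a → F) → (Fin a → F) := fun v u => con σ w' (k (vecMulVec u v) - vecMulVec (α u) v)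
  have hγ : ∀ u v, stB σ b w v = 0 → k (vecMulVec u v) = vecMulVec (α u) v + vecMulVec (γ v u) w := by
    intro u v hv
    have h1 := hform (k (vecMulVec u v) - vecMulVec (α u) v) (by
      rw [map_sub, (s2 u v hv).1, con_pure, hv, zero_smul, sub_self]) (by
      intro x hx
      rw [map_sub, (s2 u v hv).2 x hx, con_pure, sub_self])
    rw [← sub_eq_iff_eq_add']
    exact h1
  have hγs : ∀ (p : F) v u, γ (p • v) u = p • γ v u := by
    intro p v u
    show con σ w' (k (vecMulVec u (p • v)) - vecMulVec (α u) (p • v)) = p • con σ w' (k (vecMulVec u v) - vecMulVec (α u) v)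
    rw [Matrix.vecMulVec_smul, Matrix.vecMulVec_smul, map_smul, ← smul_sub, map_smul]
  -- step 3: `v = w'`
  have s3 : ∀ u, con σ w (k (vecMulVec u w')) = α u ∧
      ∀ x, stB σ b w x = 0 → con σ x (k (vecMulVec u w')) = stB σ b x w' • α u - γ x u := by
    intro u
    have h0 : ∀ x, stB σ b w x = 0 → ∃ ν : F, vecMulVec (con σ w (k (vecMulVec u w')) - α u) x =
        vecMulVec (con σ x (k (vecMulVec u w')) + ν • con σ w (k (vecMulVec u w')) + γ x u -
          (stB σ b x w' + ν) • α u) w := by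
      intro x hx
      obtain ⟨ν, h⟩ := hrel x hx
      refine ⟨ν, ?_⟩
      have h1 := h u w'
      rw [hww', one_smul, mul_one, Matrix.vecMulVec_sub, Matrix.vecMulVec_add, Matrix.vecMulVec_smul, map_sub,
        map_add, map_smul, hα, hγ u x hx] at h1
      rw [Matrix.sub_vecMulVec, Matrix.sub_vecMulVec, Matrix.add_vecMulVec _ (γ x u), Matrix.smul_vecMulVec]
      have h2 := congrArg (fun Z => Z - k (vecMulVec u w') - vecMulVec (α u) x + vecMulVec (con σ x (k (vecMulVec u w')) +
        ν • con σ w (k (vecMulVec u w'))) w) h1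
      rw [eq_comm] at h2
      calc vecMulVec (con σ w (k (vecMulVec u w'))) x - vecMulVec (α u) x
          = k (vecMulVec u w') + vecMulVec (con σ w (k (vecMulVec u w'))) x -
            vecMulVec (con σ x (k (vecMulVec u w')) + ν • con σ w (k (vecMulVec u w'))) w - k (vecMulVec u w') -
            vecMulVec (α u) x +
            vecMulVec (con σ x (k (vecMulVec u w')) + ν • con σ w (k (vecMulVec u w'))) w := by abel
        _ = _ := h2
        _ = _ := by abel
    have hc0 : con σ w (k (vecMulVec u w')) = α u := by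
      obtain ⟨ν, h⟩ := h0 e hwe
      exact sub_eq_zero.mp (hAe _ _ h)
    refine ⟨hc0, fun x hx => ?_⟩
    obtain ⟨ν, h⟩ := h0 x hx
    rw [hc0, sub_self, zero_pure] at h
    have h1 := congrArg (con σ w') h
    rw [con_pure, hw'w, one_smul, map_zero] at h1
    have h2 : con σ x (k (vecMulVec u w')) = stB σ b x w' • α u - γ x u +
      (con σ x (k (vecMulVec u w')) + ν • α u + γ x u - (stB σ b x w' + ν) • α u) := by
      module
    rw [h2, ← h1, add_zero]
  -- `γ = 0`
  have hγ0 : ∀ u x, stB σ b w x = 0 → γ x u = 0 := by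
    intro u x hx
    obtain ⟨p, hp⟩ := exists_fix_ne hσ
    have h1 := (s3 u).2 x hx
    have h2 := (s3 u).2 (p • x) (by rw [map_smul, hx, smul_zero])
    rw [con_smul, h1, hγs, LinearMap.map_smulₛₗ₂, smul_eq_mul, smul_sub, smul_smul] at h2
    have h3 : (σ p - p) • γ x u = 0 := by
      rw [sub_smul]
      exact sub_eq_zero.mpr (sub_right_inj.mp h2)
    exact (smul_eq_zero.mp h3).resolve_left (sub_ne_zero.mpr hp)
  let β : (Fin a → F) →ₗ[F] (Fin a → F) := con σ w' ∘ₗ (k ∘ₗ pureL w' - pureL w' ∘ₗ α)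
  have hβ : ∀ u, k (vecMulVec u w') = vecMulVec (α u) w' + vecMulVec (β u) w := by
    intro u
    have h1 := hform (k (vecMulVec u w') - vecMulVec (α u) w') (by
      rw [map_sub, (s3 u).1, con_pure, hww', one_smul, sub_self]) (by
      intro x hx
      rw [map_sub, (s3 u).2 x hx, con_pure, hγ0 u x hx, sub_zero, sub_self])
    rw [← sub_eq_iff_eq_add']
    exact h1
  refine ⟨α, β, fun u v => ?_⟩
  have hv : v = stB σ b w v • w' + (v - stB σ b w v • w') := by abel
  have hv0 : stB σ b w (v - stB σ b w v • w') = 0 := by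
    rw [map_sub, map_smul, hww', smul_eq_mul, mul_one, sub_self]
  conv_lhs => rw [hv]
  rw [Matrix.vecMulVec_add, Matrix.vecMulVec_smul, map_add, map_smul, hβ, hγ u _ hv0, hγ0 u _ hv0, zero_pure, add_zero,
    Matrix.vecMulVec_sub, Matrix.vecMulVec_smul, smul_add]
  abel

end

end Cfsg.Agent.H881
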