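import Cfsg.Agent.H881.CompA
import Cfsg.Agent.H880.UTi

/-!
Operators `rowL T = 1 ⊗ T`, `colL Y = Y ⊗ 1` on `F^a ⊗ F^b`, commutants, normalisers, the rank lemma for
`B₁ ⊗ A + B₂ ⊗ 1`.
-/

set_option autoImplicit false
set_option linter.unusedSectionVars false

namespace Cfsg.Agent.H881

open Module Cfsg.Agent.ClassicalGeometry Cfsg.Agent.H880 Matrix

section Ops

variable {F : Type*} [Field F] {a b : ℕ}

/-- `1 ⊗ T`. -/
def rowL (a : ℕ) (T : (Fin b → F) →ₗ[F] (Fin b → F)) : Mat a b F →ₗ[F] Mat a b F where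
  toFun X := fun i => T (X i)
  map_add' X Y := by
    funext i
    exact map_add T (X i) (Y i)
  map_smul' c X := by
    funext i
    exact map_smul T c (X i)

theorem rowL_apply (T : (Fin b → F) →ₗ[F] (Fin b → F)) (X : Mat a b F) (i : Fin a) : rowL a T X i = T (X i) := rfl

theorem rowL_pure (T : (Fin b → F) →ₗ[F] (Fin b → F)) (u : Fin a → F) (v : Fin b → F) :
    rowL a T (vecMulVec u v) = vecMulVec u (T v) := by
  funext i
  rw [rowL_apply, pure_row, pure_row, map_smul]

theorem rowL_comp (T T' : (Fin b → F) →ₗ[F] (Fin b → F)) (X : Mat a b F) :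
    rowL a T (rowL a T' X) = rowL a (T ∘ₗ T') X := rfl

theorem rowE_eq_rowL (z : (Fin b → F) ≃ₗ[F] (Fin b → F)) (X : Mat a b F) :
    rowE a z X = rowL a (z : (Fin b → F) →ₗ[F] (Fin b → F)) X := rfl

/-- `Y ⊗ 1`. -/
def colL (b : ℕ) (Y : (Fin a → F) →ₗ[F] (Fin a → F)) : Mat a b F →ₗ[F] Mat a b F where
  toFun X := (rowL b Y Xᵀ)ᵀ
  map_add' X X' := by rw [Matrix.transpose_add, map_add, Matrix.transpose_add]
  map_smul' c X := by
    rw [Matrix.transpose_smul, map_smul, Matrix.transpose_smul]; rfl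

theorem colL_pure (Y : (Fin a → F) →ₗ[F] (Fin a → F)) (u : Fin a → F) (v : Fin b → F) :
    colL b Y (vecMulVec u v) = vecMulVec (Y u) v := by
  show (rowL b Y (vecMulVec u v)ᵀ)ᵀ = _
  rw [Matrix.transpose_vecMulVec, rowL_pure, Matrix.transpose_vecMulVec]

theorem colE_eq_colL (y : (Fin a → F) ≃ₗ[F] (Fin a → F)) (X : Mat a b F) :
    colE b y X = colL b (y : (Fin a → F) →ₗ[F] (Fin a → F)) X := rfl

theorem row_col_comm (T : (Fin b → F) →ₗ[F] (Fin b → F)) (Y : (Fin a → F) →ₗ[F] (Fin a → F)) (X : Mat a b F) :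
    rowL a T (colL b Y X) = colL b Y (rowL a T X) := by
  have h : (rowL a T ∘ₗ colL b Y : Mat a b F →ₗ[F] Mat a b F) = colL b Y ∘ₗ rowL a T := by
    apply ext_pure
    intro u v
    rw [LinearMap.comp_apply, LinearMap.comp_apply, colL_pure, rowL_pure, rowL_pure, colL_pure]
  exact LinearMap.congr_fun h X

theorem rowL_injective (ha : 1 ≤ a) : Function.Injective (rowL a : ((Fin b → F) →ₗ[F] (Fin b → F)) → _) := by
  intro T T' h
  refine LinearMap.ext fun v => ?_
  have h1 := congrFun (LinearMap.congr_fun h (vecMulVec (Pi.single ⟨0, ha⟩ 1) v)) ⟨0, ha⟩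
  rw [rowL_pure, rowL_pure, pure_row, pure_row, Pi.single_eq_same, one_smul, one_smul] at h1
  exact h1

/-- Left contraction with a linear functional. -/
def lc (f : (Fin a → F) →ₗ[F] F) : Mat a b F →ₗ[F] (Fin b → F) where
  toFun X := fun j => f (fun i => X i j)
  map_add' X Y := by
    funext j
    exact map_add f _ _
  map_smul' c X := by
    funext j
    exact map_smul f _ _

theorem lc_pure (f : (Fin a → F) →ₗ[F] F) (u : Fin a → F) (v : Fin b → F) : lc f (vecMulVec u v) = f u • v := by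
  funext j
  show f (fun i => u i * v j) = f u * v j
  have : (fun i => u i * v j) = v j • u := by
    funext i
    exact mul_comm _ _
  rw [this, map_smul, smul_eq_mul, mul_comm]

/-- An operator commuting with a set `S ⊗ 1` with scalar commutant is `1 ⊗ T`. -/
theorem eq_rowL_of_comm (ha : 1 ≤ a) {S : Set ((Fin a → F) ≃ₗ[F] (Fin a → F))}
    (hirr : ∀ f : (Fin a → F) →ₗ[F] (Fin a → F), (∀ y ∈ S, ∀ x, f (y x) = y (f x)) → ∃ c : F, ∀ x, f x = c • x)
    (k : Mat a b F →ₗ[F] Mat a b F) (hk : ∀ y ∈ S, ∀ X, k (colE b y X) = colE b y (k X)) :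
    ∃ T, k = rowL a T := by
  let i0 : Fin a := ⟨0, ha⟩
  have hcol : ∀ j, ∃ c : (Fin b → F) → F, ∀ u v, ∀ i, k (vecMulVec u v) i j = c v * u i := by
    intro j
    have h1 : ∀ v, ∃ c : F, ∀ u, (fun i => k (vecMulVec u v) i j) = c • u := by
      intro v
      let f : (Fin a → F) →ₗ[F] (Fin a → F) :=
        { toFun := fun u => fun i => k (vecMulVec u v) i j
          map_add' := fun u u' => by
            funext i
            rw [Matrix.add_vecMulVec, map_add]; rfl
          map_smul' := fun c u => by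
            funext i
            rw [Matrix.smul_vecMulVec, map_smul]; rfl }
      obtain ⟨c, hc⟩ := hirr f (by
        intro y hy x
        show (fun i => k (vecMulVec (y x) v) i j) = y (fun i => k (vecMulVec x v) i j)
        rw [← colE_pure, hk y hy]
        rfl)
      exact ⟨c, hc⟩
    choose c hc using h1
    refine ⟨c, fun u v i => ?_⟩
    exact congrFun (hc v u) i
  choose c hc using hcol
  let T : (Fin b → F) →ₗ[F] (Fin b → F) :=
    { toFun := fun v => fun j => c j v
      map_add' := fun v v' => by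
        funext j
        have h1 := hc j (Pi.single i0 1) (v + v') i0
        rw [Matrix.vecMulVec_add, map_add, Matrix.add_apply, hc, hc, Pi.single_eq_same, mul_one, mul_one, mul_one] at h1
        exact h1.symm
      map_smul' := fun r v => by
        funext j
        have h1 := hc j (Pi.single i0 1) (r • v) i0
        rw [Matrix.vecMulVec_smul, map_smul, Matrix.smul_apply, hc, Pi.single_eq_same, mul_one, mul_one] at h1
        exact h1.symm }
  refine ⟨T, ext_pure fun u v => ?_⟩
  ext i j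
  rw [rowL_pure, hc, Matrix.vecMulVec_apply, mul_comm]
  rfl

/-- An operator commuting with all `1 ⊗ T` is `Y ⊗ 1`. -/
theorem eq_colL_of_comm (hb : 1 ≤ b) (k : Mat a b F →ₗ[F] Mat a b F)
    (hk : ∀ (T : (Fin b → F) →ₗ[F] (Fin b → F)) (X : Mat a b F), k (rowL a T X) = rowL a T (k X)) :
    ∃ Y, k = colL b Y := by
  let j0 : Fin b := ⟨0, hb⟩
  have h1 : ∀ u v, k (vecMulVec u v) = vecMulVec (fun i => k (vecMulVec u (Pi.single j0 1)) i j0) v := by
    intro u v
    let T : (Fin b → F) →ₗ[F] (Fin b → F) := (LinearMap.proj j0).smulRight v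
    have hT : T (Pi.single j0 1) = v := by
      show ((Pi.single j0 1 : Fin b → F) j0) • v = v
      rw [Pi.single_eq_same, one_smul]
    conv_lhs => rw [← hT, ← rowL_pure, hk]
    funext i
    rfl
  let Y : (Fin a → F) →ₗ[F] (Fin a → F) :=
    { toFun := fun u => fun i => k (vecMulVec u (Pi.single j0 1)) i j0
      map_add' := fun u u' => by
        funext i
        rw [Matrix.add_vecMulVec, map_add]; rfl
      map_smul' := fun c u => by
        funext i
        rw [Matrix.smul_vecMulVec, map_smul]; rfl }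
  refine ⟨Y, ext_pure fun u v => ?_⟩
  rw [colL_pure]
  exact h1 u v

/-- An invertible operator normalising `1 ⊗ End(F^b)` is a tensor. -/
theorem isTens_of_norm (ha : 1 ≤ a) (hb : 1 ≤ b) (g : Mat a b F ≃ₗ[F] Mat a b F)
    (h : ∀ T : (Fin b → F) →ₗ[F] (Fin b → F), ∃ T' : (Fin b → F) →ₗ[F] (Fin b → F),
      ∀ X, g.symm (rowL a T (g X)) = rowL a T' X) : IsTens g := by
  choose φ hφ using h
  have hinj := rowL_injective (F := F) (b := b) ha
  have hφ' : ∀ T T', (∀ X, g.symm (rowL a T (g X)) = rowL a T' X) → φ T = T' := by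
    intro T T' hT
    apply hinj
    refine LinearMap.ext fun X => ?_
    rw [← hφ, hT]
  let Φ : ((Fin b → F) →ₗ[F] (Fin b → F)) →ₐ[F] ((Fin b → F) →ₗ[F] (Fin b → F)) := AlgHom.ofLinearMap
    { toFun := φ
      map_add' := fun T T' => by
        apply hφ'
        intro X
        show g.symm (rowL a T (g X) + rowL a T' (g X)) = rowL a (φ T) X + rowL a (φ T') X
        rw [map_add, hφ, hφ]
      map_smul' := fun c T => by
        apply hφ'
        intro X
        show g.symm (c • rowL a T (g X)) = c • rowL a (φ T) X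
        rw [map_smul, hφ] }
    (by
      apply hφ'
      intro X
      exact g.symm_apply_apply X)
    (by
      intro T T'
      apply hφ'
      intro X
      show g.symm (rowL a T (rowL a T' (g X))) = rowL a (φ T) (rowL a (φ T') X)
      rw [← hφ T' X, ← hφ T, LinearEquiv.apply_symm_apply])
  have : Nonempty (Fin b) := ⟨⟨0, hb⟩⟩
  have hΦi : Function.Injective Φ := by
    intro T T' hTT
    apply hinj
    refine LinearMap.ext fun X => ?_
    obtain ⟨Y, rfl⟩ := g.surjective X
    apply g.symm.injective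
    have h1 := hφ T Y
    have h2 := hφ T' Y
    have h3 : φ T = φ T' := hTT
    rw [h1, h2, h3]
  have hΦb : Function.Bijective Φ := ⟨hΦi, LinearMap.surjective_of_injective (f := Φ.toLinearMap) hΦi⟩
  obtain ⟨z, hz⟩ := AlgEquiv.eq_linearEquivConjAlgEquiv (AlgEquiv.ofBijective Φ hΦb)
  have hφz : ∀ T v, φ T (z v) = z (T v) := by
    intro T v
    have h1 : φ T = (z.conjAlgEquiv F) T := by rw [← hz]; rfl
    rw [h1, LinearEquiv.conjAlgEquiv_apply_apply, LinearEquiv.symm_apply_apply]
  -- `g ∘ (1 ⊗ z)` commutes with all `1 ⊗ T`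
  obtain ⟨Y, hY⟩ := eq_colL_of_comm hb ((g : Mat a b F →ₗ[F] Mat a b F) ∘ₗ rowL a (z : (Fin b → F) →ₗ[F] (Fin b → F))) (by
    intro T X
    show g (rowL a _ (rowL a T X)) = rowL a T (g (rowL a _ X))
    have h1 := hφ T (rowL a (z : (Fin b → F) →ₗ[F] (Fin b → F)) X)
    rw [LinearEquiv.symm_apply_eq] at h1
    rw [h1]
    congr 1
    funext i
    exact (hφz T (X i)).symm)
  have hgY : ∀ u v, g (vecMulVec u (z v)) = vecMulVec (Y u) v := by
    intro u v
    have h1 := LinearMap.congr_fun hY (vecMulVec u v)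
    rw [colL_pure, LinearMap.comp_apply, rowL_pure] at h1
    exact h1
  have hYi : Function.Injective Y := by
    rw [← LinearMap.ker_eq_bot, LinearMap.ker_eq_bot']
    intro u hu
    have h1 := hgY u (Pi.single ⟨0, hb⟩ 1)
    rw [hu, zero_pure, LinearEquiv.map_eq_zero_iff] at h1
    by_contra hu0
    refine pure_ne_zero hu0 ?_ h1
    intro h2
    have h3 := (LinearEquiv.map_eq_zero_iff z).mp h2
    have h4 := congrFun h3 ⟨0, hb⟩
    rw [Pi.single_eq_same] at h4
    exact one_ne_zero h4
  refine ⟨LinearEquiv.ofInjectiveEndo Y hYi, z.symm, fun u v => ?_⟩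
  have h1 := hgY u (z.symm v)
  rw [LinearEquiv.apply_symm_apply] at h1
  exact h1

end Ops

section Rank

variable {F : Type*} [Field F] {a b : ℕ}

theorem exists_functional {V : Type*} [AddCommGroup V] [Module F V] {x y : V} (hx : x ∉ Submodule.span F {y}) :
    ∃ f : V →ₗ[F] F, f x = 1 ∧ f y = 0 := by
  obtain ⟨f, hf, hfy⟩ := Submodule.exists_le_ker_of_notMem hx
  refine ⟨(f x)⁻¹ • f, ?_, ?_⟩
  · show (f x)⁻¹ * f x = 1
    exact inv_mul_cancel₀ hf
  · show (f x)⁻¹ * f y = 0
    have : f y = 0 := hfy (Submodule.mem_span_singleton_self y)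
    rw [this, mul_zero]

/-- **Rank lemma.** `B₁ ⊗ A + B₂ ⊗ 1` of rank at most `a` with `B₁` invertible, `b ≥ 3`: `A` is scalar or `B₂ ∈ F B₁`. -/
theorem two_term_rank (hb : 3 ≤ b) (Y : Mat a b F →ₗ[F] Mat a b F)
    (B₁ : (Fin a → F) ≃ₗ[F] (Fin a → F)) (B₂ : (Fin a → F) →ₗ[F] (Fin a → F)) (A : (Fin b → F) →ₗ[F] (Fin b → F))
    (hY : ∀ u v, Y (vecMulVec u v) = vecMulVec (B₁ u) (A v) + vecMulVec (B₂ u) v)
    (hr : finrank F (LinearMap.range Y) ≤ a) :
    (∃ c : F, ∀ v, A v = c • v) ∨ ∃ c : F, ∀ u, B₂ u = c • B₁ u := by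
  by_contra hcon
  push Not at hcon
  obtain ⟨hA, hB⟩ := hcon
  obtain ⟨v₀, hv₀⟩ : ∃ v, A v ∉ Submodule.span F {v} := by
    by_contra h
    push Not at h
    obtain ⟨c, hc⟩ := scalar_of_forall A (fun v => by
      obtain ⟨c, hc⟩ := Submodule.mem_span_singleton.mp (h v)
      exact ⟨c, hc.symm⟩)
    obtain ⟨v, hv⟩ := hA c
    exact hv (hc v)
  obtain ⟨u₀, hu₀⟩ : ∃ u, B₁ u ∉ Submodule.span F {B₂ u} ∧ B₂ u ∉ Submodule.span F {B₁ u} := by
    obtain ⟨u, hu⟩ : ∃ u, B₂ u ∉ Submodule.span F {B₁ u} := by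
      by_contra h
      push Not at h
      obtain ⟨c, hc⟩ := scalar_of_forall (B₂ ∘ₗ (B₁.symm : (Fin a → F) →ₗ[F] (Fin a → F))) (fun v => by
        obtain ⟨c, hc⟩ := Submodule.mem_span_singleton.mp (h (B₁.symm v))
        refine ⟨c, ?_⟩
        rw [LinearEquiv.apply_symm_apply] at hc
        exact hc.symm)
      obtain ⟨v, hv⟩ := hB c
      apply hv
      have := hc (B₁ v)
      rw [LinearMap.comp_apply, LinearEquiv.coe_coe, LinearEquiv.symm_apply_apply] at this
      exact this
    refine ⟨u, ?_, hu⟩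
    intro h1
    obtain ⟨c, hc⟩ := Submodule.mem_span_singleton.mp h1
    by_cases hc0 : c = 0
    · subst hc0
      rw [zero_smul] at hc
      have hu0 : u = 0 := (LinearEquiv.map_eq_zero_iff B₁).mp hc.symm
      apply hu
      have h0 : B₂ u = 0 := by rw [hu0, map_zero]
      rw [h0]
      exact (Submodule.span F {B₁ u}).zero_mem
    · apply hu
      rw [Submodule.mem_span_singleton]
      exact ⟨c⁻¹, by rw [← hc, smul_smul, inv_mul_cancel₀ hc0, one_smul]⟩
  -- the range is `Y (F^a ⊗ v)`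
  have hrange : ∀ v, A v ∉ Submodule.span F {v} → ∀ X ∈ LinearMap.range Y, ∃ u, X = Y (vecMulVec u v) := by
    intro v hv X hX
    obtain ⟨f, hf1, hf0⟩ := exists_functional hv
    let r : (Fin a → F) →ₗ[F] Mat a b F := Y ∘ₗ pureL v
    have hri : Function.Injective r := by
      rw [← LinearMap.ker_eq_bot, LinearMap.ker_eq_bot']
      intro u hu
      have h1 : vecMulVec (B₁ u) (A v) + vecMulVec (B₂ u) v = 0 := by rw [← hY]; exact hu
      have h2 : (fun i => f ((vecMulVec (B₁ u) (A v) + vecMulVec (B₂ u) v : Mat a b F) i)) = fun _ => 0 := by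
        rw [h1]
        funext i
        exact map_zero f
      apply (LinearEquiv.map_eq_zero_iff B₁).mp
      funext i
      have h3 := congrFun h2 i
      have h4 : (vecMulVec (B₁ u) (A v) + vecMulVec (B₂ u) v : Mat a b F) i = B₁ u i • A v + B₂ u i • v := rfl
      rw [h4, map_add, map_smul, map_smul, hf1, hf0, smul_zero, add_zero, smul_eq_mul, mul_one] at h3
      exact h3
    have h1 : LinearMap.range r ≤ LinearMap.range Y := LinearMap.range_comp_le_range _ _
    have h2 : finrank F (LinearMap.range r) = a := by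
      rw [LinearMap.finrank_range_of_inj hri, finrank_fin_fun]
    have h3 : LinearMap.range r = LinearMap.range Y :=
      Submodule.eq_of_le_of_finrank_le h1 (by omega)
    rw [← h3] at hX
    obtain ⟨u, hu⟩ := hX
    exact ⟨u, hu.symm⟩
  -- all non-eigenvectors of `A` are in the span of `v₀`, `A v₀`
  have hmem : ∀ v, A v ∉ Submodule.span F {v} → v ∈ Submodule.span F {v₀, A v₀} := by
    intro v hv
    obtain ⟨f, hf1, hf0⟩ := exists_functional hu₀.2
    obtain ⟨u, hu⟩ := hrange v₀ hv₀ (Y (vecMulVec u₀ v)) ⟨_, rfl⟩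
    rw [hY, hY] at hu
    have h1 := congrArg (lc f) hu
    rw [map_add, map_add, lc_pure, lc_pure, lc_pure, lc_pure, hf1, hf0, zero_smul, zero_add, one_smul] at h1
    rw [h1, Submodule.mem_span_pair]
    exact ⟨_, _, add_comm _ _⟩
  obtain ⟨x, hx⟩ : ∃ x, x ∉ Submodule.span F {v₀, A v₀} := by
    classical
    by_contra h
    push Not at h
    have htop : Submodule.span F {v₀, A v₀} = ⊤ := Submodule.eq_top_iff'.mpr h
    have h5 : finrank F (Submodule.span F (({v₀, A v₀} : Finset (Fin b → F)) : Set (Fin b → F))) ≤ 2 :=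
      (finrank_span_finset_le_card _).trans Finset.card_le_two
    rw [Finset.coe_insert, Finset.coe_singleton, htop, finrank_top, finrank_fin_fun] at h5
    omega
  have hv₀P : v₀ ∈ Submodule.span F {v₀, A v₀} := Submodule.subset_span (by simp)
  have hAv₀P : A v₀ ∈ Submodule.span F {v₀, A v₀} := Submodule.subset_span (by simp)
  have hxe : A x ∈ Submodule.span F {x} := by
    by_contra h
    exact hx (hmem x h)
  have hxe' : A (v₀ + x) ∈ Submodule.span F {v₀ + x} := by
    by_contra h
    apply hx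
    have := Submodule.sub_mem _ (hmem _ h) hv₀P
    rwa [add_sub_cancel_left] at this
  obtain ⟨l, hl⟩ := Submodule.mem_span_singleton.mp hxe
  obtain ⟨m, hm⟩ := Submodule.mem_span_singleton.mp hxe'
  have h1 : (m - l) • x = A v₀ - m • v₀ := by
    rw [map_add, ← hl, smul_add] at hm
    rw [sub_smul]
    have : m • x - l • x = (m • v₀ + m • x) - l • x - m • v₀ := by abel
    rw [this, hm]
    abel
  have h2 : (m - l) • x ∈ Submodule.span F {v₀, A v₀} := by
    rw [h1]
    exact Submodule.sub_mem _ hAv₀P (Submodule.smul_mem _ _ hv₀P)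
  by_cases hml : m - l = 0
  · rw [hml, zero_smul] at h1
    apply hv₀
    rw [Submodule.mem_span_singleton]
    exact ⟨m, (sub_eq_zero.mp h1.symm).symm⟩
  · exact hx ((Submodule.smul_mem_iff _ hml).mp h2)

end Rank

end Cfsg.Agent.H881
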