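import Cfsg.Agent.H881.CompB

/-!
The stabiliser of `F^a ⊗ w` (`w` isotropic) in `M` consists of tensors (`stab_tens`), if the layers are scalar.
-/

set_option autoImplicit false
set_option linter.unusedSectionVars false

namespace Cfsg.Agent.H881

open Module Cfsg.Agent.ClassicalGeometry Cfsg.Agent.H880 Matrix

section

variable {F : Type*} [Field F] {σ : F →+* F} [Finite F] {a b : ℕ} {M : Subgroup (Mat a b F ≃ₗ[F] Mat a b F)}

/-- The hypotheses of the component theorem. -/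
structure OverC (σ : F →+* F) (M : Subgroup (Mat a b F ≃ₗ[F] Mat a b F)) (S : Set ((Fin a → F) ≃ₗ[F] (Fin a → F))) :
    Prop extends RowG σ M where
  col : ∀ y ∈ S, colE b y ∈ M
  rk : ∀ y ∈ S, finrank F (LinearMap.range ((colE b y : Mat a b F →ₗ[F] Mat a b F) - LinearMap.id)) ≤ a
  irr : ∀ f : (Fin a → F) →ₗ[F] (Fin a → F), (∀ y ∈ S, ∀ x, f (y x) = y (f x)) → ∃ c : F, ∀ x, f x = c • x
  lay : ∀ w : Fin b → F, w ≠ 0 → stB σ b w w = 0 → ∀ κ : (Fin a → F) →ₗ[F] (Fin a → F), InK σ M w κ →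
    ∃ c : F, ∀ x, κ x = c • x

theorem J_lin (hσ2 : ∀ x : F, σ (σ x) = x) {w w' : Fin b → F} (hw0 : w ≠ 0) (hw'0 : w' ≠ 0)
    {g : Mat a b F ≃ₗ[F] Mat a b F} (hJ : ∀ u, ∃ u', g (vecMulVec u w) = vecMulVec u' w') :
    ∃ γ : (Fin a → F) ≃ₗ[F] (Fin a → F), ∀ u, g (vecMulVec u w) = vecMulVec (γ u) w' := by
  have hSb := stB_symm hσ2 b
  obtain ⟨x', hx'⟩ := exists_one_std (σ := σ) hw'0
  have hx'w : stB σ b x' w' = 1 := by rw [← hSb.eq, hx', map_one]
  let γ : (Fin a → F) →ₗ[F] (Fin a → F) := con σ x' ∘ₗ (g : Mat a b F →ₗ[F] Mat a b F) ∘ₗ pureL w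
  have hγ : ∀ u, g (vecMulVec u w) = vecMulVec (γ u) w' := by
    intro u
    obtain ⟨u', hu'⟩ := hJ u
    show _ = vecMulVec (con σ x' (g (vecMulVec u w))) w'
    rw [hu', con_pure, hx'w, one_smul]
  have hγi : Function.Injective γ := by
    rw [← LinearMap.ker_eq_bot, LinearMap.ker_eq_bot']
    intro u hu
    have h1 := hγ u
    rw [hu, zero_pure, LinearEquiv.map_eq_zero_iff] at h1
    by_contra hu0
    exact pure_ne_zero hu0 hw0 h1
  exact ⟨LinearEquiv.ofInjectiveEndo γ hγi, hγ⟩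

theorem J_inv (hσ2 : ∀ x : F, σ (σ x) = x) {w w' : Fin b → F} (hw0 : w ≠ 0) (hw'0 : w' ≠ 0)
    {g : Mat a b F ≃ₗ[F] Mat a b F} (hJ : ∀ u, ∃ u', g (vecMulVec u w) = vecMulVec u' w') (u' : Fin a → F) :
    ∃ u, g.symm (vecMulVec u' w') = vecMulVec u w := by
  obtain ⟨γ, hγ⟩ := J_lin hσ2 hw0 hw'0 hJ
  refine ⟨γ.symm u', ?_⟩
  rw [LinearEquiv.symm_apply_eq, hγ, LinearEquiv.apply_symm_apply]

theorem J_perp (hσ2 : ∀ x : F, σ (σ x) = x) {w w' : Fin b → F} (hw0 : w ≠ 0) (hw'0 : w' ≠ 0)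
    {g : Mat a b F ≃ₗ[F] Mat a b F} (hg : ∀ X Y, BV σ a b (g X) (g Y) = BV σ a b X Y)
    (hJ : ∀ u, ∃ u', g (vecMulVec u w) = vecMulVec u' w') {Y : Mat a b F} (hY : con σ w Y = 0) :
    con σ w' (g Y) = 0 := by
  obtain ⟨γ, hγ⟩ := J_lin hσ2 hw0 hw'0 hJ
  apply stB_eq_of_forall (σ := σ)
  intro u
  rw [← BV_pure_left, map_zero]
  have h1 : vecMulVec u w' = g (vecMulVec (γ.symm u) w) := by rw [hγ, LinearEquiv.apply_symm_apply]
  rw [h1, hg, BV_pure_left, hY, map_zero]

theorem conj_row (hσ : σ ≠ RingHom.id F) (hσ2 : ∀ x : F, σ (σ x) = x) (ha : 1 ≤ a) (hM : RowG σ M)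
    {w : Fin b → F} (hw0 : w ≠ 0) (hw : stB σ b w w = 0)
    (hK : ∀ κ : (Fin a → F) →ₗ[F] (Fin a → F), InK σ M w κ → ∃ c : F, ∀ x, κ x = c • x)
    {g : Mat a b F ≃ₗ[F] Mat a b F} (hg : g ∈ M) (hJ : ∀ u, ∃ u', g (vecMulVec u w) = vecMulVec u' w)
    {q : (Fin b → F) ≃ₗ[F] (Fin b → F)} {x : Fin b → F} {ν : F} (hx : stB σ b w x = 0)
    (hq : ∀ v, q v = v + stB σ b w v • x - (stB σ b x v + ν * stB σ b w v) • w)
    (hqi : ∀ u v, stB σ b (q u) (q v) = stB σ b u v)
    (hqd : LinearMap.det (q : (Fin b → F) →ₗ[F] (Fin b → F)) = 1) :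
    ∃ z : (Fin b → F) ≃ₗ[F] (Fin b → F), g⁻¹ * rowE a q * g = rowE a z := by
  have hSb := stB_symm hσ2 b
  have hQ := hM.row q hqi hqd
  have hqw : q w = w := by rw [hq, hw, symm_zero hSb hx]; simp
  apply layer_row hσ hσ2 ha hM hw0 hw hK (M.mul_mem (M.mul_mem (M.inv_mem hg) hQ) hg)
  · intro u
    show g.symm (rowE a q (g (vecMulVec u w))) = vecMulVec u w
    obtain ⟨u', hu'⟩ := hJ u
    rw [hu', rowE_pure, hqw, ← hu', LinearEquiv.symm_apply_apply]
  · intro Y hY
    show ∃ u, g.symm (rowE a q (g Y)) = Y + vecMulVec u w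
    have h1 : con σ w (g Y) = 0 := J_perp hσ2 hw0 hw0 (hM.iso g hg) hJ hY
    obtain ⟨u, hu⟩ := J_inv hσ2 hw0 hw0 hJ (-(con σ x (g Y)))
    refine ⟨u, ?_⟩
    rw [rowE_siegel hq, h1, zero_pure, add_zero, smul_zero, add_zero, map_sub, LinearEquiv.symm_apply_apply,
      ← hu, Matrix.neg_vecMulVec, map_neg, sub_eq_add_neg]

theorem inK_of_pure {w : Fin b → F} {m : Mat a b F ≃ₗ[F] Mat a b F} (hm : m ∈ M)
    {κ : (Fin a → F) →ₗ[F] (Fin a → F)}
    (h : ∀ u v, m (vecMulVec u v) = vecMulVec u v + stB σ b w v • vecMulVec (κ u) w) : InK σ M w κ := by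
  refine ⟨m, hm, fun X => ?_⟩
  have h1 : (m : Mat a b F →ₗ[F] Mat a b F) = LinearMap.id + pureL w ∘ₗ κ ∘ₗ con σ w := by
    apply ext_pure
    intro u v
    show m (vecMulVec u v) = vecMulVec u v + vecMulVec (κ (con σ w (vecMulVec u v))) w
    rw [h, con_pure, map_smul, Matrix.smul_vecMulVec]
  exact LinearMap.congr_fun h1 X

theorem gamma_scalar (hσ : σ ≠ RingHom.id F) (hσ2 : ∀ x : F, σ (σ x) = x) (hb : 3 ≤ b)
    (hqb : 4 ≤ b ∨ ∃ c : F, c ≠ 0 ∧ σ c * c ≠ 1) (hM : RowG σ M)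
    {w : Fin b → F} (hw0 : w ≠ 0) (hw : stB σ b w w = 0)
    (hK : ∀ κ : (Fin a → F) →ₗ[F] (Fin a → F), InK σ M w κ → ∃ c : F, ∀ x, κ x = c • x)
    {k : Mat a b F ≃ₗ[F] Mat a b F} (hk : k ∈ M) {α β : (Fin a → F) →ₗ[F] (Fin a → F)}
    (hkα : ∀ u v, k (vecMulVec u v) = vecMulVec (α u) v + stB σ b w v • vecMulVec (β u) w) :
    ∃ (αE : (Fin a → F) ≃ₗ[F] (Fin a → F)) (μ : F), (∀ u, αE u = α u) ∧ ∀ u, β u = μ • α u := by
  have hSb := stB_symm hσ2 b
  obtain ⟨w', hww'⟩ := exists_one_std (σ := σ) hw0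
  have hw'w : stB σ b w' w = 1 := by rw [← hSb.eq, hww', map_one]
  have hkw : ∀ u, k (vecMulVec u w) = vecMulVec (α u) w := by
    intro u
    rw [hkα, hw, zero_smul, add_zero]
  obtain ⟨αE, hαE⟩ := J_lin hσ2 hw0 hw0 (g := k) (fun u => ⟨_, hkw u⟩)
  have hα : ∀ u, αE u = α u := by
    intro u
    have h1 := congrArg (con σ w') ((hαE u).symm.trans (hkw u))
    rwa [con_pure, con_pure, hw'w, one_smul, one_smul] at h1
  let γ : (Fin a → F) →ₗ[F] (Fin a → F) := (αE.symm : (Fin a → F) →ₗ[F] (Fin a → F)) ∘ₗ β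
  have hγ : ∀ u, α (γ u) = β u := by
    intro u
    rw [← hα]
    exact αE.apply_symm_apply _
  suffices h : ∃ μ : F, ∀ u, γ u = μ • u by
    obtain ⟨μ, hμ⟩ := h
    refine ⟨αE, μ, hα, fun u => ?_⟩
    rw [← hγ, hμ, map_smul]
  have hmz : ∀ x : Fin b → F, x ≠ 0 → stB σ b x x = 0 → ∃ m ∈ M, ∀ u v, m (vecMulVec u v) =
      vecMulVec u v - stB σ b w v • vecMulVec (γ u) w + stB σ b x v • (vecMulVec (γ u) x -
        stB σ b w x • vecMulVec (γ (γ u)) w) := by
    intro x hx0 hx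
    obtain ⟨z, hz, hzd, hzw⟩ := exists_su hσ hσ2 hb hw0 hx0 (by rw [hw, hx])
    have hzM := hM.row z hz hzd
    refine ⟨k⁻¹ * rowE a z * k * (rowE a z)⁻¹, M.mul_mem (M.mul_mem (M.mul_mem (M.inv_mem hk) hzM) hk)
      (M.inv_mem hzM), fun u v => ?_⟩
    obtain ⟨v', rfl⟩ := z.surjective v
    show k.symm (rowE a z (k ((rowE a z).symm (vecMulVec u (z v'))))) = _
    rw [← rowE_pure, LinearEquiv.symm_apply_apply, LinearEquiv.symm_apply_eq, ← hzw, hz]
    simp only [map_add, map_sub, map_smul, hkα, rowE_pure, hγ, hw, zero_smul, add_zero]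
    module
  rcases hqb with h4 | ⟨c, hc0, hc1⟩
  · -- four dimensions
    have hdim := finrank_perp_range (B := stB σ b) ![w, w']
    rw [Fintype.card_fin, finrank_fin_fun] at hdim
    obtain ⟨f, hf, hf0, hff⟩ := exists_isotropic (B := stB σ b) hσ hσ2 hSb (perp (stB σ b) (Set.range ![w, w']))
      (by omega)
    have hwf : stB σ b w f = 0 := hf _ ⟨0, rfl⟩
    have hw'f : stB σ b w' f = 0 := hf _ ⟨1, rfl⟩
    have hfw : stB σ b f w = 0 := symm_zero hSb hwf
    let Q : ((Fin b → F) →ₗ[F] (Fin b → F)) → Prop := fun D => D w = 0 ∧ D f = 0 ∧ (∀ v, ∃ p q : F, D v = p • w + q • f) ∧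
      ∃ m ∈ M, ∀ u v, m (vecMulVec u v) = vecMulVec u v + vecMulVec (γ u) (D v)
    have hQadd : ∀ D D', Q D → Q D' → Q (D + D') := by
      rintro D D' ⟨h1, h2, h3, m, hm, hm'⟩ ⟨h1', h2', h3', m', hm1, hm1'⟩
      refine ⟨by rw [LinearMap.add_apply, h1, h1', add_zero], by rw [LinearMap.add_apply, h2, h2', add_zero], fun v => ?_,
        m * m', M.mul_mem hm hm1, fun u v => ?_⟩
      · obtain ⟨p, q, hpq⟩ := h3 v
        obtain ⟨p', q', hpq'⟩ := h3' v
        exact ⟨p + p', q + q', by rw [LinearMap.add_apply, hpq, hpq']; module⟩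
      · show m (m' (vecMulVec u v)) = _
        obtain ⟨p', q', hpq'⟩ := h3' v
        have h0 : D (D' v) = 0 := by rw [hpq', map_add, map_smul, map_smul, h1, h2, smul_zero, smul_zero, add_zero]
        rw [hm1', map_add, hm', hm', h0, pure_zero, add_zero, LinearMap.add_apply, Matrix.vecMulVec_add]
        abel
    have hQneg : ∀ D, Q D → Q (-D) := by
      rintro D ⟨h1, h2, h3, m, hm, hm'⟩
      refine ⟨by rw [LinearMap.neg_apply, h1, neg_zero], by rw [LinearMap.neg_apply, h2, neg_zero], fun v => ?_,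
        m⁻¹, M.inv_mem hm, fun u v => ?_⟩
      · obtain ⟨p, q, hpq⟩ := h3 v
        exact ⟨-p, -q, by rw [LinearMap.neg_apply, hpq]; module⟩
      · show m.symm (vecMulVec u v) = _
        obtain ⟨p', q', hpq'⟩ := h3 v
        have h0 : D (D v) = 0 := by rw [hpq', map_add, map_smul, map_smul, h1, h2, smul_zero, smul_zero, add_zero]
        rw [LinearEquiv.symm_apply_eq, LinearMap.neg_apply, Matrix.vecMulVec_neg, map_add, map_neg, hm', hm', h0,
          pure_zero]
        abel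
    let φ : (Fin b → F) → (Fin b → F) →ₗ[F] (Fin b → F) := fun x => (stB σ b x).smulRight x
    have hφ : ∀ x v, φ x v = stB σ b x v • x := fun x v => rfl
    have hQx : ∀ l : F, Q (φ (f + l • w) - φ w) := by
      intro l
      have hx0 : f + l • w ≠ 0 := by
        intro h0
        have h1 : stB σ b w' (f + l • w) = 0 := by rw [h0, map_zero]
        rw [map_add, hw'f, map_smul, hw'w, zero_add, smul_eq_mul, mul_one] at h1
        rw [h1, zero_smul, add_zero] at h0
        exact hf0 h0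
      have hx : stB σ b (f + l • w) (f + l • w) = 0 := by
        simp only [map_add, LinearMap.add_apply, LinearMap.map_smulₛₗ₂, map_smul, smul_eq_mul, hff, hw, hfw, hwf]
        ring
      have hwx : stB σ b w (f + l • w) = 0 := by
        simp only [map_add, map_smul, smul_eq_mul, hw, hwf]
        ring
      obtain ⟨m, hm, hm'⟩ := hmz _ hx0 hx
      refine ⟨?_, ?_, fun v => ?_, m, hm, fun u v => ?_⟩
      · rw [LinearMap.sub_apply, hφ, hφ, hw, symm_zero hSb hwx]; simp
      · rw [LinearMap.sub_apply, hφ, hφ, hwf]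
        have : stB σ b (f + l • w) f = 0 := by
          simp only [map_add, LinearMap.add_apply, LinearMap.map_smulₛₗ₂, smul_eq_mul, hff, hwf]
          ring
        rw [this]; simp
      · refine ⟨stB σ b (f + l • w) v * l - stB σ b w v, stB σ b (f + l • w) v, ?_⟩
        rw [LinearMap.sub_apply, hφ, hφ]
        module
      · rw [hm', hwx, zero_smul, sub_zero, LinearMap.sub_apply, hφ, hφ, Matrix.vecMulVec_sub, Matrix.vecMulVec_smul,
          Matrix.vecMulVec_smul]
        abel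
    obtain ⟨μ, hμ⟩ := HermWitt.trace_surj σ hσ hσ2 1 (map_one σ)
    obtain ⟨_, _, _, m, hm, hm'⟩ := hQadd _ _ (hQadd _ _ (hQx 1) (hQx μ)) (hQadd _ _ (hQneg _ (hQx (1 + μ))) (hQneg _ (hQx 0)))
    obtain ⟨c, hc⟩ := hK (-γ) (inK_of_pure hm (by
      intro u v
      rw [hm']
      congr 1
      rw [← Matrix.vecMulVec_smul, LinearMap.neg_apply, Matrix.neg_vecMulVec, ← Matrix.vecMulVec_neg]
      congr 1
      simp only [LinearMap.add_apply, LinearMap.neg_apply, LinearMap.sub_apply, hφ, map_add, LinearMap.map_smulₛₗ₂,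
        smul_eq_mul, zero_smul, add_zero, one_smul, smul_add, add_smul]
      have e1 : σ μ = 1 - μ := by linear_combination hμ
      rw [e1]
      module))
    refine ⟨-c, fun u => ?_⟩
    have h1 := hc u
    rw [LinearMap.neg_apply] at h1
    rw [neg_smul, ← h1, neg_neg]
  · obtain ⟨m, hm, hm'⟩ := hmz (c • w) (smul_ne_zero hc0 hw0) (by
      rw [LinearMap.map_smulₛₗ₂, map_smul, hw, smul_zero, smul_zero])
    obtain ⟨d, hd⟩ := hK ((σ c * c - 1) • γ) (inK_of_pure hm (by
      intro u v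
      have e1 : stB σ b w (c • w) = 0 := by rw [map_smul, hw, smul_zero]
      have e2 : stB σ b (c • w) v = σ c * stB σ b w v := by rw [LinearMap.map_smulₛₗ₂, smul_eq_mul]
      rw [hm', e1, e2, zero_smul, sub_zero, LinearMap.smul_apply, Matrix.vecMulVec_smul, Matrix.smul_vecMulVec]
      module))
    have hc1' : σ c * c - 1 ≠ 0 := sub_ne_zero.mpr hc1
    refine ⟨(σ c * c - 1)⁻¹ * d, fun u => ?_⟩
    have h1 := hd u
    rw [LinearMap.smul_apply] at h1
    rw [mul_smul, ← h1, smul_smul, inv_mul_cancel₀ hc1', one_smul]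

theorem finrank_range_conj {V : Type*} [AddCommGroup V] [Module F V] (g : V ≃ₗ[F] V) (f : V →ₗ[F] V) :
    finrank F (LinearMap.range ((g : V →ₗ[F] V) ∘ₗ f ∘ₗ (g.symm : V →ₗ[F] V))) = finrank F (LinearMap.range f) := by
  rw [LinearMap.range_comp, LinearEquiv.finrank_map_eq, LinearMap.range_comp_of_range_eq_top]
  exact LinearEquiv.range _

theorem stab_self (hσ : σ ≠ RingHom.id F) (hσ2 : ∀ x : F, σ (σ x) = x) (ha : 1 ≤ a) (hb : 3 ≤ b)
    (hqb : 4 ≤ b ∨ ∃ c : F, c ≠ 0 ∧ σ c * c ≠ 1) {S : Set ((Fin a → F) ≃ₗ[F] (Fin a → F))} (hM : OverC σ M S)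
    {w : Fin b → F} (hw0 : w ≠ 0) (hw : stB σ b w w = 0)
    {g : Mat a b F ≃ₗ[F] Mat a b F} (hg : g ∈ M) (hJ : ∀ u, ∃ u', g (vecMulVec u w) = vecMulVec u' w) : IsTens g := by
  have hSb := stB_symm hσ2 b
  obtain ⟨w', hww'⟩ := exists_one_std (σ := σ) hw0
  have hw'w : stB σ b w' w = 1 := by rw [← hSb.eq, hww', map_one]
  have hK := hM.lay w hw0 hw
  let i0 : Fin a := ⟨0, ha⟩
  have hi0 : (Pi.single i0 1 : Fin a → F) ≠ 0 := by
    intro h
    have := congrFun h i0
    rw [Pi.single_eq_same] at this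
    exact one_ne_zero this
  have h1 : ∀ y ∈ S, ∃ A : (Fin a → F) →ₗ[F] (Fin a → F), ∀ X, g (colE b y (g.symm X)) = colL b A X := by
    intro y hy
    set k := g * colE b y * g⁻¹ with hkdef
    have hkM : k ∈ M := M.mul_mem (M.mul_mem hg (hM.col y hy)) (M.inv_mem hg)
    have hkg : ∀ X, k (g X) = g (colE b y X) := by
      intro X
      show g (colE b y (g.symm (g X))) = _
      rw [LinearEquiv.symm_apply_apply]
    obtain ⟨α, β, hαβ⟩ := comm_siegel hσ hσ2 hb hw0 hw (k := (k : Mat a b F →ₗ[F] Mat a b F)) (by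
      intro q x ν hx hν hq hqi hqd Y
      obtain ⟨z, hz⟩ := conj_row hσ hσ2 ha hM.toRowG hw0 hw hK hg hJ hx hq hqi hqd
      have hz' : ∀ X, rowE a q (g X) = g (rowE a z X) := by
        intro X
        have h2 : (g⁻¹ * rowE a q * g) X = rowE a z X := by rw [hz]
        rw [← h2]
        exact (g.apply_symm_apply _).symm
      obtain ⟨Y', rfl⟩ := g.surjective Y
      show k (rowE a q (g Y')) = rowE a q (k (g Y'))
      rw [hz', hkg, hkg, hz', rowE_eq_rowL, colE_eq_colL, ← row_col_comm]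
      rfl)
    obtain ⟨αE, μ, hαE, hμ⟩ := gamma_scalar hσ hσ2 hb hqb hM.toRowG hw0 hw hK hkM hαβ
    have hk' : ∀ u v, k (vecMulVec u v) = vecMulVec (αE u) (v + (μ * stB σ b w v) • w) := by
      intro u v
      have h2 := hαβ u v
      rw [hμ, ← hαE] at h2
      refine h2.trans ?_
      rw [Matrix.vecMulVec_add, Matrix.smul_vecMulVec, Matrix.vecMulVec_smul, smul_smul, mul_comm]
    have hμ0 : μ = 0 := by
      rcases two_term_rank hb ((k : Mat a b F →ₗ[F] Mat a b F) - LinearMap.id) αE (-LinearMap.id)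
        (LinearMap.id + μ • (stB σ b w).smulRight w) (by
          intro u v
          show k (vecMulVec u v) - vecMulVec u v = vecMulVec (αE u) (v + μ • stB σ b w v • w) + vecMulVec (-u) v
          rw [hk', smul_smul, Matrix.neg_vecMulVec, sub_eq_add_neg]) (by
          have h2 : ((k : Mat a b F →ₗ[F] Mat a b F) - LinearMap.id) = (g : Mat a b F →ₗ[F] Mat a b F) ∘ₗ
              ((colE b y : Mat a b F →ₗ[F] Mat a b F) - LinearMap.id) ∘ₗ (g.symm : Mat a b F →ₗ[F] Mat a b F) := by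
            refine LinearMap.ext fun X => ?_
            show g (colE b y (g.symm X)) - X = g (colE b y (g.symm X) - g.symm X)
            rw [map_sub, LinearEquiv.apply_symm_apply]
          rw [h2, finrank_range_conj]
          exact hM.rk y hy) with ⟨c, hc⟩ | ⟨c, hc⟩
      · have h2 : w + μ • stB σ b w w • w = c • w := hc w
        rw [hw, zero_smul, smul_zero, add_zero] at h2
        have h3 : c = 1 := by
          have h4 := congrArg (stB σ b w') h2
          rw [map_smul, hw'w, smul_eq_mul, mul_one] at h4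
          exact h4.symm
        have h4 : w' + μ • stB σ b w w' • w = c • w' := hc w'
        rw [h3, one_smul, hww', one_smul, add_eq_left] at h4
        exact (smul_eq_zero.mp h4).resolve_right hw0
      · have hc' : ∀ u : Fin a → F, -u = c • αE u := hc
        have hc0 : c ≠ 0 := by
          rintro rfl
          have h2 := hc' (Pi.single i0 1)
          rw [zero_smul, neg_eq_zero] at h2
          exact hi0 h2
        have hαd : ∀ u, αE u = (-c⁻¹) • u := by
          intro u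
          rw [neg_smul, ← smul_neg, hc', smul_smul, inv_mul_cancel₀ hc0, one_smul]
        set d : F := -c⁻¹ with hd
        have hd0 : d ≠ 0 := neg_ne_zero.mpr (inv_ne_zero hc0)
        have h2 : con σ w ∘ₗ ((colE b y : Mat a b F →ₗ[F] Mat a b F) - d • LinearMap.id) ∘ₗ
            (g.symm : Mat a b F →ₗ[F] Mat a b F) = 0 := by
          apply ext_pure
          intro u v
          show con σ w (colE b y (g.symm (vecMulVec u v)) - d • g.symm (vecMulVec u v)) = 0
          have h3 : colE b y (g.symm (vecMulVec u v)) = g.symm (k (vecMulVec u v)) := by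
            rw [LinearEquiv.eq_symm_apply]
            rfl
          obtain ⟨u', hu'⟩ := J_inv hσ2 hw0 hw0 hJ u
          rw [h3, hk', hαd, Matrix.smul_vecMulVec, map_smul, Matrix.vecMulVec_add, map_add, Matrix.vecMulVec_smul,
            map_smul, hu', ← smul_sub, add_sub_cancel_left, map_smul, map_smul, con_pure, hw, zero_smul, smul_zero,
            smul_zero]
        have h3 : ∀ u, y u = d • u := by
          intro u
          have h4 := LinearMap.congr_fun h2 (g (vecMulVec u w'))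
          have h5 : con σ w (colE b y (g.symm (g (vecMulVec u w'))) - d • g.symm (g (vecMulVec u w'))) = 0 := h4
          rw [LinearEquiv.symm_apply_apply, colE_pure, map_sub, map_smul, con_pure, con_pure, hww', one_smul, one_smul,
            sub_eq_zero] at h5
          exact h5
        have h4 : ∀ X, k X = d • X := by
          intro X
          obtain ⟨X', rfl⟩ := g.surjective X
          have h5 : (colE b y : Mat a b F →ₗ[F] Mat a b F) = d • LinearMap.id := by
            apply ext_pure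
            intro u v
            show colE b y (vecMulVec u v) = d • vecMulVec u v
            rw [colE_pure, h3, Matrix.smul_vecMulVec]
          have h6 : colE b y X' = d • X' := LinearMap.congr_fun h5 X'
          rw [hkg, h6, map_smul]
        have h5 := hk' (Pi.single i0 1) w'
        rw [h4, hαd, hww', mul_one, Matrix.smul_vecMulVec, Matrix.vecMulVec_add, smul_add, left_eq_add,
          Matrix.vecMulVec_smul, smul_smul] at h5
        have h6 := (smul_eq_zero.mp h5).resolve_right (pure_ne_zero hi0 hw0)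
        exact (mul_eq_zero.mp h6).resolve_left hd0
    refine ⟨(αE : (Fin a → F) →ₗ[F] (Fin a → F)), fun X => ?_⟩
    have h2 : (k : Mat a b F →ₗ[F] Mat a b F) = colL b (αE : (Fin a → F) →ₗ[F] (Fin a → F)) := by
      apply ext_pure
      intro u v
      show k (vecMulVec u v) = _
      rw [hk', hμ0, zero_mul, zero_smul, add_zero, colL_pure]
      rfl
    exact LinearMap.congr_fun h2 X
  apply isTens_of_norm ha (by omega)
  intro T
  obtain ⟨T', hT'⟩ := eq_rowL_of_comm ha hM.irr ((g.symm : Mat a b F →ₗ[F] Mat a b F) ∘ₗ rowL a T ∘ₗ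
    (g : Mat a b F →ₗ[F] Mat a b F)) (by
    intro y hy X
    show g.symm (rowL a T (g (colE b y X))) = colE b y (g.symm (rowL a T (g X)))
    obtain ⟨A, hA⟩ := h1 y hy
    have h2 : g (colE b y X) = colL b A (g X) := by
      have := hA (g X)
      rwa [LinearEquiv.symm_apply_apply] at this
    rw [h2, row_col_comm, ← hA, LinearEquiv.symm_apply_apply])
  exact ⟨T', fun X => LinearMap.congr_fun hT' X⟩

/-- **(D)** An element of `M` mapping `F^a ⊗ w` to `F^a ⊗ w'`, `w`, `w'` isotropic, is a tensor. -/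
theorem stab_tens (hσ : σ ≠ RingHom.id F) (hσ2 : ∀ x : F, σ (σ x) = x) (ha : 1 ≤ a) (hb : 3 ≤ b)
    (hqb : 4 ≤ b ∨ ∃ c : F, c ≠ 0 ∧ σ c * c ≠ 1) {S : Set ((Fin a → F) ≃ₗ[F] (Fin a → F))} (hM : OverC σ M S)
    {w w' : Fin b → F} (hw0 : w ≠ 0) (hw : stB σ b w w = 0) (hw'0 : w' ≠ 0) (hw' : stB σ b w' w' = 0)
    {g : Mat a b F ≃ₗ[F] Mat a b F} (hg : g ∈ M) (hJ : ∀ u, ∃ u', g (vecMulVec u w) = vecMulVec u' w') : IsTens g := by
  obtain ⟨z, hz, hzd, hzw⟩ := exists_su hσ hσ2 hb hw'0 hw0 (by rw [hw, hw'])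
  have h1 : IsTens (rowE a z * g) := by
    apply stab_self hσ hσ2 ha hb hqb hM hw0 hw (M.mul_mem (hM.row z hz hzd) hg)
    intro u
    obtain ⟨u', hu'⟩ := hJ u
    refine ⟨u', ?_⟩
    show rowE a z (g (vecMulVec u w)) = _
    rw [hu', rowE_pure, hzw]
  have h2 := (isTens_rowE (a := a) z).inv.mul h1
  rwa [inv_mul_cancel_left] at h2

end

end Cfsg.Agent.H881
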