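import Cfsg.Agent.H881.CompC
import Cfsg.Agent.H880.UScal

/-!
Conjugates of `𝔄 = 1 ⊗ End(F^b)` by `g ∈ M`: if a transvection `1 + l x_w` conjugated by `g` is a tensor then `g` is a
tensor or `g 𝔄 g⁻¹` commutes with `𝔄`.
-/

set_option autoImplicit false
set_option linter.unusedSectionVars false

namespace Cfsg.Agent.H881

open Module Cfsg.Agent.ClassicalGeometry Cfsg.Agent.H880 Matrix

section

variable {F : Type*} [Field F] {σ : F →+* F} [Finite F] {a b : ℕ} {M : Subgroup (Mat a b F ≃ₗ[F] Mat a b F)}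

/-- `g 𝔄 g⁻¹` commutes with `𝔄 = 1 ⊗ End(F^b)`. -/
def Com (g : Mat a b F ≃ₗ[F] Mat a b F) : Prop :=
  ∀ T : (Fin b → F) →ₗ[F] (Fin b → F), ∃ Y : (Fin a → F) →ₗ[F] (Fin a → F), ∀ X,
    g (rowL a T (g.symm X)) = colL b Y X

theorem single_ne_zero' {n : ℕ} (i : Fin n) : (Pi.single i 1 : Fin n → F) ≠ 0 := by
  intro h
  have := congrFun h i
  rw [Pi.single_eq_same] at this
  exact one_ne_zero this

theorem comm_iso (hσ : σ ≠ RingHom.id F) (hσ2 : ∀ x : F, σ (σ x) = x) (hb : 1 ≤ b) (k : Mat a b F →ₗ[F] Mat a b F)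
    (hk : ∀ v, v ≠ 0 → stB σ b v v = 0 → ∀ X, k (rowL a (phi σ v) X) = rowL a (phi σ v) (k X)) :
    ∃ Y, k = colL b Y := by
  apply eq_colL_of_comm hb
  have h1 : ∀ u i, ∃ c : F, ∀ v, (k (vecMulVec u v)) i = c • v := by
    intro u i
    let f : (Fin b → F) →ₗ[F] (Fin b → F) :=
      { toFun := fun v => k (vecMulVec u v) i
        map_add' := fun v v' => by
          rw [Matrix.vecMulVec_add, map_add]; rfl
        map_smul' := fun c v => by
          rw [Matrix.vecMulVec_smul, map_smul]; rfl }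
    have hf : ∀ v, f v = k (vecMulVec u v) i := fun v => rfl
    obtain ⟨c, hc⟩ := scalar_of_isotropic hσ hσ2 f (by
      intro v hv
      by_cases hv0 : v = 0
      · rw [hv0, map_zero, map_zero, LinearMap.zero_apply]
      obtain ⟨x, hx⟩ := exists_one_std (σ := σ) hv0
      have h2 : f v = stB σ b v (f x) • v := by
        have h3 := congrFun (hk v hv0 hv (vecMulVec u x)) i
        rw [rowL_pure, phi_apply, hx, one_smul, rowL_apply, phi_apply] at h3
        exact h3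
      rw [h2, map_smul, hv, smul_zero])
    exact ⟨c, hc⟩
  intro T X
  have h2 : k ∘ₗ rowL a T = rowL a T ∘ₗ k := by
    apply ext_pure
    intro u v
    show k (rowL a T (vecMulVec u v)) = rowL a T (k (vecMulVec u v))
    funext i
    obtain ⟨c, hc⟩ := h1 u i
    rw [rowL_pure, hc, rowL_apply, hc, map_smul]
  exact LinearMap.congr_fun h2 X

theorem Com.inv (hb : 1 ≤ b) {g : Mat a b F ≃ₗ[F] Mat a b F} (h : Com g) : Com g⁻¹ := by
  intro T'
  obtain ⟨Y', hY'⟩ := eq_colL_of_comm hb ((g.symm : Mat a b F →ₗ[F] Mat a b F) ∘ₗ rowL a T' ∘ₗ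
    (g : Mat a b F →ₗ[F] Mat a b F)) (by
    intro T X
    show g.symm (rowL a T' (g (rowL a T X))) = rowL a T (g.symm (rowL a T' (g X)))
    obtain ⟨Y, hY⟩ := h T
    have h1 := hY (g X)
    rw [LinearEquiv.symm_apply_apply] at h1
    rw [h1, row_col_comm, ← hY, LinearEquiv.symm_apply_apply])
  exact ⟨Y', fun X => LinearMap.congr_fun hY' X⟩

/-- A tensor `s` with `s - 1` of rank at most `a` is `1 ⊗ A` or `Y ⊗ 1`. -/
theorem tens_rank (ha : 1 ≤ a) (hb : 3 ≤ b) {s : Mat a b F ≃ₗ[F] Mat a b F} (hs : IsTens s)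
    (hr : finrank F (LinearMap.range ((s : Mat a b F →ₗ[F] Mat a b F) - LinearMap.id)) ≤ a) :
    (∃ A, ∀ X, s X = rowL a A X) ∨ ∃ Y, ∀ X, s X = colL b Y X := by
  obtain ⟨y, z, hyz⟩ := hs
  rcases two_term_rank hb ((s : Mat a b F →ₗ[F] Mat a b F) - LinearMap.id) y (-LinearMap.id)
    (z : (Fin b → F) →ₗ[F] (Fin b → F)) (by
      intro u v
      show s (vecMulVec u v) - vecMulVec u v = vecMulVec (y u) (z v) + vecMulVec (-u) v
      rw [hyz, Matrix.neg_vecMulVec, sub_eq_add_neg]) hr with ⟨c, hc⟩ | ⟨c, hc⟩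
  · right
    refine ⟨c • (y : (Fin a → F) →ₗ[F] (Fin a → F)), fun X => ?_⟩
    have h1 : (s : Mat a b F →ₗ[F] Mat a b F) = colL b (c • (y : (Fin a → F) →ₗ[F] (Fin a → F))) := by
      apply ext_pure
      intro u v
      rw [colL_pure]
      show s (vecMulVec u v) = vecMulVec (c • y u) v
      have h2 : z v = c • v := hc v
      rw [hyz, h2, Matrix.vecMulVec_smul, Matrix.smul_vecMulVec]
    exact LinearMap.congr_fun h1 X
  · left
    have hc' : ∀ u : Fin a → F, -u = c • y u := hc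
    have hc0 : c ≠ 0 := by
      rintro rfl
      have h2 := hc' (Pi.single ⟨0, ha⟩ 1)
      rw [zero_smul, neg_eq_zero] at h2
      exact single_ne_zero' _ h2
    have hyd : ∀ u, y u = (-c⁻¹) • u := by
      intro u
      rw [neg_smul, ← smul_neg, hc', smul_smul, inv_mul_cancel₀ hc0, one_smul]
    refine ⟨(-c⁻¹) • (z : (Fin b → F) →ₗ[F] (Fin b → F)), fun X => ?_⟩
    have h1 : (s : Mat a b F →ₗ[F] Mat a b F) = rowL a ((-c⁻¹) • (z : (Fin b → F) →ₗ[F] (Fin b → F))) := by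
      apply ext_pure
      intro u v
      rw [rowL_pure]
      show s (vecMulVec u v) = vecMulVec u ((-c⁻¹) • z v)
      rw [hyz, hyd, Matrix.vecMulVec_smul, Matrix.smul_vecMulVec]
    exact LinearMap.congr_fun h1 X

/-- The transvections `t = 1 + l x_v` in `M`. -/
theorem exists_t (hσ2 : ∀ x : F, σ (σ x) = x) (hM : RowG σ M) {v : Fin b → F} (hv : stB σ b v v = 0)
    {l : F} (hl : l + σ l = 0) : ∃ t ∈ M, ∀ X, t X = X + l • rowL a (phi σ v) X := by
  obtain ⟨t, ht, _, hti, htd⟩ := exists_tv (B := stB σ b) (stB_symm hσ2 b) hv hl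
  refine ⟨rowE a t, hM.row t hti htd, fun X => ?_⟩
  funext i
  rw [rowE_apply, ht]
  show _ = X i + l • phi σ v (X i)
  rw [phi_apply, smul_smul]

theorem finrank_range_phi {v : Fin b → F} : finrank F (LinearMap.range (rowL a (phi σ v))) ≤ a := by
  have h1 : LinearMap.range (rowL a (phi σ v)) ≤ LinearMap.range (pureL v : (Fin a → F) →ₗ[F] Mat a b F) := by
    rintro _ ⟨X, rfl⟩
    refine ⟨con σ v X, ?_⟩
    rw [pureL_apply]
    funext i
    rw [rowL_apply, phi_apply, pure_row]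
    rfl
  have h2 := LinearMap.finrank_range_le (pureL v : (Fin a → F) →ₗ[F] Mat a b F)
  rw [finrank_fin_fun] at h2
  exact (Submodule.finrank_mono h1).trans h2

/-- A conjugate of a transvection of row type. -/
theorem tens_of_row (hσ : σ ≠ RingHom.id F) (hσ2 : ∀ x : F, σ (σ x) = x) (ha : 1 ≤ a) (hb : 3 ≤ b)
    (hqb : 4 ≤ b ∨ ∃ c : F, c ≠ 0 ∧ σ c * c ≠ 1) {S : Set ((Fin a → F) ≃ₗ[F] (Fin a → F))} (hM : OverC σ M S)
    {g : Mat a b F ≃ₗ[F] Mat a b F} (hg : g ∈ M) {v : Fin b → F} (hv0 : v ≠ 0) (hv : stB σ b v v = 0)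
    {A : (Fin b → F) →ₗ[F] (Fin b → F)} (hA : ∀ X, g.symm (rowL a (phi σ v) (g X)) = rowL a A X) : IsTens g := by
  obtain ⟨x, hx⟩ := exists_one_std (σ := σ) hv0
  let i0 : Fin a := ⟨0, ha⟩
  obtain ⟨y₀, hy₀⟩ : ∃ y, A y ≠ 0 := by
    by_contra hcon
    push Not at hcon
    have hA0 : A = 0 := LinearMap.ext hcon
    have h1 := hA (g.symm (vecMulVec (Pi.single i0 1) x))
    rw [LinearEquiv.apply_symm_apply, rowL_pure, phi_apply, hx, one_smul, hA0] at h1
    have h2 : rowL a (0 : (Fin b → F) →ₗ[F] (Fin b → F)) (g.symm (vecMulVec (Pi.single i0 1) x)) = 0 := by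
      funext i
      rfl
    rw [h2, LinearEquiv.map_eq_zero_iff] at h1
    exact pure_ne_zero (single_ne_zero' i0) hv0 h1
  have hJ : ∀ u, ∃ u', g (vecMulVec u (A y₀)) = vecMulVec u' v := by
    intro u
    refine ⟨con σ v (g (vecMulVec u y₀)), ?_⟩
    have h1 := hA (vecMulVec u y₀)
    rw [rowL_pure, LinearEquiv.symm_apply_eq] at h1
    rw [← h1]
    funext i
    rw [rowL_apply, phi_apply, pure_row]
    rfl
  have hiso : stB σ b (A y₀) (A y₀) = 0 := by
    have h1 := hM.iso g hg (vecMulVec (Pi.single i0 1) (A y₀)) (vecMulVec (Pi.single i0 1) (A y₀))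
    obtain ⟨u', hu'⟩ := hJ (Pi.single i0 1)
    rw [hu', BV_pure, BV_pure, hv, mul_zero, stB_single_left, Pi.single_eq_same, one_mul] at h1
    exact h1.symm
  exact stab_tens hσ hσ2 ha hb hqb hM hy₀ hiso hv0 hv hg hJ

/-- A conjugate of `x_w` of column type. -/
theorem com_of_col (hσ : σ ≠ RingHom.id F) (hσ2 : ∀ x : F, σ (σ x) = x) (ha : 1 ≤ a) (hb : 3 ≤ b)
    (hqb : 4 ≤ b ∨ ∃ c : F, c ≠ 0 ∧ σ c * c ≠ 1) {S : Set ((Fin a → F) ≃ₗ[F] (Fin a → F))} (hM : OverC σ M S)
    {g : Mat a b F ≃ₗ[F] Mat a b F} (hg : g ∈ M) {w : Fin b → F} (hw0 : w ≠ 0) (hw : stB σ b w w = 0)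
    {Y : (Fin a → F) →ₗ[F] (Fin a → F)} (hY : ∀ X, g (rowL a (phi σ w) (g.symm X)) = colL b Y X) :
    IsTens g ∨ Com g := by
  by_cases hgt : IsTens g
  · exact Or.inl hgt
  right
  obtain ⟨x, hx⟩ := exists_one_std (σ := σ) hw0
  obtain ⟨l, hl0, hl⟩ := exists_skew hσ hσ2
  -- the conjugates of the transvections are of column type
  have h1 : ∀ v, v ≠ 0 → stB σ b v v = 0 → ∃ Y' : (Fin a → F) →ₗ[F] (Fin a → F),
      ∀ X, g.symm (rowL a (phi σ v) (g X)) = colL b Y' X := by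
    intro v hv0 hv
    obtain ⟨t, htM, ht⟩ := exists_t (a := a) hσ2 hM.toRowG hv hl
    have hsM : g⁻¹ * t * g ∈ M := M.mul_mem (M.mul_mem (M.inv_mem hg) htM) hg
    have hs : ∀ X, (g⁻¹ * t * g) X = X + l • g.symm (rowL a (phi σ v) (g X)) := by
      intro X
      show g.symm (t (g X)) = _
      rw [ht, map_add, map_smul, LinearEquiv.symm_apply_apply]
    have hst : IsTens (g⁻¹ * t * g) := by
      apply stab_self hσ hσ2 ha hb hqb hM hw0 hw hsM
      intro u
      have h2 : vecMulVec u w = rowL a (phi σ w) (vecMulVec u x) := by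
        rw [rowL_pure, phi_apply, hx, one_smul]
      have h3 : ∀ X, g (rowL a (phi σ w) X) = colL b Y (g X) := by
        intro X
        rw [← hY, LinearEquiv.symm_apply_apply]
      have h4 : ∀ X, g.symm (colL b Y X) = rowL a (phi σ w) (g.symm X) := by
        intro X
        rw [LinearEquiv.symm_apply_eq, h3, LinearEquiv.apply_symm_apply]
      have h5 : (g⁻¹ * t * g) (vecMulVec u w) = rowL a (phi σ w) ((g⁻¹ * t * g) (vecMulVec u x)) := by
        rw [hs, hs, h2, h3, row_col_comm, h4, map_add, map_smul]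
      refine ⟨con σ w ((g⁻¹ * t * g) (vecMulVec u x)), ?_⟩
      rw [h5]
      funext i
      rw [rowL_apply, phi_apply, pure_row]
      rfl
    have hr : finrank F (LinearMap.range (((g⁻¹ * t * g : Mat a b F ≃ₗ[F] Mat a b F) :
        Mat a b F →ₗ[F] Mat a b F) - LinearMap.id)) ≤ a := by
      have h2 : ((g⁻¹ * t * g : Mat a b F ≃ₗ[F] Mat a b F) : Mat a b F →ₗ[F] Mat a b F) - LinearMap.id =
          (g.symm : Mat a b F →ₗ[F] Mat a b F) ∘ₗ (l • rowL a (phi σ v)) ∘ₗ
            (g.symm.symm : Mat a b F →ₗ[F] Mat a b F) := by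
        refine LinearMap.ext fun X => ?_
        show (g⁻¹ * t * g) X - X = g.symm (l • rowL a (phi σ v) (g X))
        rw [hs, add_sub_cancel_left, map_smul]
      rw [h2, finrank_range_conj]
      refine le_trans ?_ (finrank_range_phi (a := a) (σ := σ) (v := v))
      apply Submodule.finrank_mono
      rintro _ ⟨X, rfl⟩
      exact ⟨l • X, map_smul _ _ _⟩
    rcases tens_rank ha hb hst hr with ⟨A, hA⟩ | ⟨Y', hY'⟩
    · exfalso
      apply hgt
      apply tens_of_row hσ hσ2 ha hb hqb hM hg hv0 hv (A := l⁻¹ • (A - LinearMap.id))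
      intro X
      have h2 := hA X
      rw [hs] at h2
      have h3 : l • g.symm (rowL a (phi σ v) (g X)) = rowL a A X - X := by rw [← h2]; abel
      have h4 : g.symm (rowL a (phi σ v) (g X)) = l⁻¹ • (rowL a A X - X) := by
        rw [← h3, smul_smul, inv_mul_cancel₀ hl0, one_smul]
      rw [h4]
      rfl
    · refine ⟨l⁻¹ • (Y' - LinearMap.id), fun X => ?_⟩
      have h2 := hY' X
      rw [hs] at h2
      have h3 : l • g.symm (rowL a (phi σ v) (g X)) = colL b Y' X - X := by rw [← h2]; abel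
      have h4 : g.symm (rowL a (phi σ v) (g X)) = l⁻¹ • (colL b Y' X - X) := by
        rw [← h3, smul_smul, inv_mul_cancel₀ hl0, one_smul]
      rw [h4]
      have h5 : colL b (l⁻¹ • (Y' - LinearMap.id)) = l⁻¹ • (colL b Y' - LinearMap.id) := by
        apply ext_pure
        intro u v
        rw [colL_pure]
        show vecMulVec (l⁻¹ • (Y' u - u)) v = l⁻¹ • (colL b Y' (vecMulVec u v) - vecMulVec u v)
        rw [colL_pure, Matrix.smul_vecMulVec, Matrix.sub_vecMulVec]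
      exact (LinearMap.congr_fun h5 X).symm
  intro T
  obtain ⟨Y', hY'⟩ := comm_iso hσ hσ2 (by omega) ((g : Mat a b F →ₗ[F] Mat a b F) ∘ₗ rowL a T ∘ₗ
    (g.symm : Mat a b F →ₗ[F] Mat a b F)) (by
    intro v hv0 hv X
    show g (rowL a T (g.symm (rowL a (phi σ v) X))) = rowL a (phi σ v) (g (rowL a T (g.symm X)))
    obtain ⟨Y', hY'⟩ := h1 v hv0 hv
    have h2 := hY' (g.symm X)
    rw [LinearEquiv.apply_symm_apply] at h2
    rw [h2, row_col_comm, ← hY', LinearEquiv.apply_symm_apply])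
  exact ⟨Y', fun X => LinearMap.congr_fun hY' X⟩

/-- If `g⁻¹ (1 + l x_w) g` is a tensor then `g` is a tensor or `g 𝔄 g⁻¹` commutes with `𝔄`. -/
theorem fixed_cl (hσ : σ ≠ RingHom.id F) (hσ2 : ∀ x : F, σ (σ x) = x) (ha : 1 ≤ a) (hb : 3 ≤ b)
    (hqb : 4 ≤ b ∨ ∃ c : F, c ≠ 0 ∧ σ c * c ≠ 1) {S : Set ((Fin a → F) ≃ₗ[F] (Fin a → F))} (hM : OverC σ M S)
    {g : Mat a b F ≃ₗ[F] Mat a b F} (hg : g ∈ M) {w : Fin b → F} (hw0 : w ≠ 0) (hw : stB σ b w w = 0)
    {l : F} (hl0 : l ≠ 0) {t : Mat a b F ≃ₗ[F] Mat a b F} (ht : ∀ X, t X = X + l • rowL a (phi σ w) X)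
    (hst : IsTens (g⁻¹ * t * g)) : IsTens g ∨ Com g := by
  have hs : ∀ X, (g⁻¹ * t * g) X = X + l • g.symm (rowL a (phi σ w) (g X)) := by
    intro X
    show g.symm (t (g X)) = _
    rw [ht, map_add, map_smul, LinearEquiv.symm_apply_apply]
  have hr : finrank F (LinearMap.range (((g⁻¹ * t * g : Mat a b F ≃ₗ[F] Mat a b F) :
      Mat a b F →ₗ[F] Mat a b F) - LinearMap.id)) ≤ a := by
    have h2 : ((g⁻¹ * t * g : Mat a b F ≃ₗ[F] Mat a b F) : Mat a b F →ₗ[F] Mat a b F) - LinearMap.id =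
        (g.symm : Mat a b F →ₗ[F] Mat a b F) ∘ₗ (l • rowL a (phi σ w)) ∘ₗ
          (g.symm.symm : Mat a b F →ₗ[F] Mat a b F) := by
      refine LinearMap.ext fun X => ?_
      show (g⁻¹ * t * g) X - X = g.symm (l • rowL a (phi σ w) (g X))
      rw [hs, add_sub_cancel_left, map_smul]
    rw [h2, finrank_range_conj]
    refine le_trans ?_ (finrank_range_phi (a := a) (σ := σ) (v := w))
    apply Submodule.finrank_mono
    rintro _ ⟨X, rfl⟩
    exact ⟨l • X, map_smul _ _ _⟩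
  rcases tens_rank ha hb hst hr with ⟨A, hA⟩ | ⟨Y', hY'⟩
  · left
    apply tens_of_row hσ hσ2 ha hb hqb hM hg hw0 hw (A := l⁻¹ • (A - LinearMap.id))
    intro X
    have h2 := hA X
    rw [hs] at h2
    have h3 : l • g.symm (rowL a (phi σ w) (g X)) = rowL a A X - X := by rw [← h2]; abel
    have h4 : g.symm (rowL a (phi σ w) (g X)) = l⁻¹ • (rowL a A X - X) := by
      rw [← h3, smul_smul, inv_mul_cancel₀ hl0, one_smul]
    rw [h4]
    rfl
  · have h5 : colL b (l⁻¹ • (Y' - LinearMap.id)) = l⁻¹ • (colL b Y' - LinearMap.id) := by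
      apply ext_pure
      intro u v
      rw [colL_pure]
      show vecMulVec (l⁻¹ • (Y' u - u)) v = l⁻¹ • (colL b Y' (vecMulVec u v) - vecMulVec u v)
      rw [colL_pure, Matrix.smul_vecMulVec, Matrix.sub_vecMulVec]
    rcases com_of_col hσ hσ2 ha hb hqb hM (M.inv_mem hg) hw0 hw (Y := l⁻¹ • (Y' - LinearMap.id)) (by
      intro X
      show g.symm (rowL a (phi σ w) (g X)) = _
      have h2 := hY' X
      rw [hs] at h2
      have h3 : l • g.symm (rowL a (phi σ w) (g X)) = colL b Y' X - X := by rw [← h2]; abel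
      have h4 : g.symm (rowL a (phi σ w) (g X)) = l⁻¹ • (colL b Y' X - X) := by
        rw [← h3, smul_smul, inv_mul_cancel₀ hl0, one_smul]
      rw [h4]
      exact (LinearMap.congr_fun h5 X).symm) with h | h
    · left
      have := h.inv
      rwa [inv_inv] at this
    · right
      have := h.inv (by omega)
      rwa [inv_inv] at this

end

end Cfsg.Agent.H881
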