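import Cfsg.Agent.H881.CompD
import Cfsg.Agent.H880.UAdj

/-!
Partial traces, conjugation, sums over orbits of a free action.
-/

set_option autoImplicit false
set_option linter.unusedSectionVars false

namespace Cfsg.Agent.H881

open Module Cfsg.Agent.ClassicalGeometry Cfsg.Agent.H880 Matrix

section Trace

variable {F : Type*} [Field F] {a b : ℕ}

/-- Partial trace over `F^a`. -/
def ptr : (Mat a b F →ₗ[F] Mat a b F) →ₗ[F] ((Fin b → F) →ₗ[F] (Fin b → F)) where
  toFun z :=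
    { toFun := fun v => ∑ i, z (vecMulVec (Pi.single i 1) v) i
      map_add' := fun v v' => by
        rw [← Finset.sum_add_distrib]
        refine Finset.sum_congr rfl fun i _ => ?_
        rw [Matrix.vecMulVec_add, map_add]; rfl
      map_smul' := fun c v => by
        rw [RingHom.id_apply, Finset.smul_sum]
        refine Finset.sum_congr rfl fun i _ => ?_
        rw [Matrix.vecMulVec_smul, map_smul]; rfl }
  map_add' z z' := by
    refine LinearMap.ext fun v => ?_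
    show ∑ i, (z + z') (vecMulVec (Pi.single i 1) v) i = ∑ i, z (vecMulVec (Pi.single i 1) v) i + ∑ i, z' (vecMulVec (Pi.single i 1) v) i
    rw [← Finset.sum_add_distrib]
    rfl
  map_smul' c z := by
    refine LinearMap.ext fun v => ?_
    show ∑ i, (c • z) (vecMulVec (Pi.single i 1) v) i = c • ∑ i, z (vecMulVec (Pi.single i 1) v) i
    rw [Finset.smul_sum]
    rfl

theorem ptr_apply (z : Mat a b F →ₗ[F] Mat a b F) (v : Fin b → F) :
    ptr z v = ∑ i, z (vecMulVec (Pi.single i 1) v) i := rfl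

theorem ptr_row_left (T : (Fin b → F) →ₗ[F] (Fin b → F)) (z : Mat a b F →ₗ[F] Mat a b F) :
    ptr (rowL a T ∘ₗ z) = T ∘ₗ ptr z := by
  refine LinearMap.ext fun v => ?_
  rw [LinearMap.comp_apply, ptr_apply, ptr_apply, map_sum]
  rfl

theorem ptr_row_right (T : (Fin b → F) →ₗ[F] (Fin b → F)) (z : Mat a b F →ₗ[F] Mat a b F) :
    ptr (z ∘ₗ rowL a T) = ptr z ∘ₗ T := by
  refine LinearMap.ext fun v => ?_
  rw [LinearMap.comp_apply, ptr_apply, ptr_apply]
  refine Finset.sum_congr rfl fun i _ => ?_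
  rw [LinearMap.comp_apply, rowL_pure]

theorem colL_row (Y : (Fin a → F) →ₗ[F] (Fin a → F)) (X : Mat a b F) (i : Fin a) :
    colL b Y X i = ∑ j, Y (Pi.single j 1) i • X j := by
  conv_lhs => rw [sum_rows X, map_sum]
  have h1 : (∑ j, colL b Y (vecMulVec (Pi.single j 1) (X j))) i = ∑ j, (colL b Y (vecMulVec (Pi.single j 1) (X j))) i :=
    Finset.sum_apply _ _ _
  rw [h1]
  refine Finset.sum_congr rfl fun j _ => ?_
  rw [colL_pure, pure_row]

theorem ptr_col_comm (Y : (Fin a → F) →ₗ[F] (Fin a → F)) (z : Mat a b F →ₗ[F] Mat a b F) :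
    ptr (colL b Y ∘ₗ z) = ptr (z ∘ₗ colL b Y) := by
  refine LinearMap.ext fun v => ?_
  rw [ptr_apply, ptr_apply]
  have h1 : ∀ i : Fin a, Y (Pi.single i 1) = ∑ j, Y (Pi.single i 1) j • (Pi.single j 1 : Fin a → F) := by
    intro i
    exact pi_eq_sum_univ' _
  have h2 : ∀ i : Fin a, (z ∘ₗ colL b Y) (vecMulVec (Pi.single i 1) v) i =
      ∑ j, Y (Pi.single i 1) j • z (vecMulVec (Pi.single j 1) v) i := by
    intro i
    have h3 : (vecMulVec (Y (Pi.single i 1)) v : Mat a b F) =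
        ∑ j, Y (Pi.single i 1) j • vecMulVec (Pi.single j 1 : Fin a → F) v := by
      ext i' j'
      rw [Matrix.sum_apply, vecMulVec_apply]
      simp only [Matrix.smul_apply, vecMulVec_apply, smul_eq_mul, Pi.single_apply]
      rw [Finset.sum_eq_single i']
      · rw [if_pos rfl]; ring
      · intro k _ hk
        rw [if_neg (fun h => hk h.symm)]; ring
      · intro h; exact absurd (Finset.mem_univ _) h
    rw [LinearMap.comp_apply, colL_pure, h3, map_sum]
    have h4 : (∑ j, z (Y (Pi.single i 1) j • vecMulVec (Pi.single j 1 : Fin a → F) v)) i =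
        ∑ j, (z (Y (Pi.single i 1) j • vecMulVec (Pi.single j 1 : Fin a → F) v)) i := Finset.sum_apply _ _ _
    rw [h4]
    refine Finset.sum_congr rfl fun j _ => ?_
    rw [map_smul]
    rfl
  simp only [h2, LinearMap.comp_apply, colL_row]
  rw [Finset.sum_comm]

theorem ptr_pure (z : Mat a b F →ₗ[F] Mat a b F) (β : (Fin a → F) →ₗ[F] (Fin a → F)) (T : (Fin b → F) →ₗ[F] (Fin b → F))
    (hz : ∀ u v, z (vecMulVec u v) = vecMulVec (β u) (T v)) : ptr z = (∑ i, β (Pi.single i 1) i) • T := by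
  refine LinearMap.ext fun v => ?_
  rw [ptr_apply, LinearMap.smul_apply, Finset.sum_smul]
  refine Finset.sum_congr rfl fun i _ => ?_
  rw [hz, pure_row]

/-- Conjugation. -/
def cj (g : Mat a b F ≃ₗ[F] Mat a b F) : (Mat a b F →ₗ[F] Mat a b F) →ₗ[F] (Mat a b F →ₗ[F] Mat a b F) where
  toFun z := (g : Mat a b F →ₗ[F] Mat a b F) ∘ₗ z ∘ₗ (g.symm : Mat a b F →ₗ[F] Mat a b F)
  map_add' z z' := by
    refine LinearMap.ext fun X => ?_
    exact map_add g _ _
  map_smul' c z := by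
    refine LinearMap.ext fun X => ?_
    exact map_smul g _ _

theorem cj_apply (g : Mat a b F ≃ₗ[F] Mat a b F) (z : Mat a b F →ₗ[F] Mat a b F) (X : Mat a b F) :
    cj g z X = g (z (g.symm X)) := rfl

theorem cj_mul (g h : Mat a b F ≃ₗ[F] Mat a b F) (z : Mat a b F →ₗ[F] Mat a b F) : cj (g * h) z = cj g (cj h z) := rfl

theorem cj_inv_cj (g : Mat a b F ≃ₗ[F] Mat a b F) (z : Mat a b F →ₗ[F] Mat a b F) : cj g⁻¹ (cj g z) = z := by
  refine LinearMap.ext fun X => ?_
  show g.symm (g (z (g.symm (g X)))) = z X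
  rw [LinearEquiv.symm_apply_apply, LinearEquiv.symm_apply_apply]

theorem cj_cj_inv (g : Mat a b F ≃ₗ[F] Mat a b F) (z : Mat a b F →ₗ[F] Mat a b F) : cj g (cj g⁻¹ z) = z := by
  refine LinearMap.ext fun X => ?_
  show g (g.symm (z (g (g.symm X)))) = z X
  rw [LinearEquiv.apply_symm_apply, LinearEquiv.apply_symm_apply]

theorem cj_comp (g : Mat a b F ≃ₗ[F] Mat a b F) (z z' : Mat a b F →ₗ[F] Mat a b F) :
    cj g (z ∘ₗ z') = cj g z ∘ₗ cj g z' := by
  refine LinearMap.ext fun X => ?_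
  show g (z (z' (g.symm X))) = g (z (g.symm (g (z' (g.symm X)))))
  rw [LinearEquiv.symm_apply_apply]

/-- `rowL` as a linear map. -/
def rowLL (a b : ℕ) (F : Type*) [Field F] : ((Fin b → F) →ₗ[F] (Fin b → F)) →ₗ[F] (Mat a b F →ₗ[F] Mat a b F) where
  toFun T := rowL a T
  map_add' _ _ := rfl
  map_smul' _ _ := rfl

theorem rowLL_apply (T : (Fin b → F) →ₗ[F] (Fin b → F)) : rowLL a b F T = rowL a T := rfl

/-- The projection `T_g` onto `g 𝔄 g⁻¹`. -/
def TT (g : Mat a b F ≃ₗ[F] Mat a b F) : (Mat a b F →ₗ[F] Mat a b F) →ₗ[F] (Mat a b F →ₗ[F] Mat a b F) :=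
  cj g ∘ₗ rowLL a b F ∘ₗ ptr ∘ₗ cj g⁻¹

theorem TT_apply (g : Mat a b F ≃ₗ[F] Mat a b F) (z : Mat a b F →ₗ[F] Mat a b F) :
    TT g z = cj g (rowL a (ptr (cj g⁻¹ z))) := rfl

theorem TT_mul (h g : Mat a b F ≃ₗ[F] Mat a b F) (z : Mat a b F →ₗ[F] Mat a b F) :
    TT (h * g) z = cj h (TT g (cj h⁻¹ z)) := by
  rw [TT_apply, TT_apply, _root_.mul_inv_rev, cj_mul, cj_mul]

theorem TT_one (z : Mat a b F →ₗ[F] Mat a b F) : TT 1 z = rowL a (ptr z) := rfl

theorem TT_tens {n : Mat a b F ≃ₗ[F] Mat a b F} (hn : IsTens n) (z : Mat a b F →ₗ[F] Mat a b F) :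
    TT n z = rowL a (ptr z) := by
  obtain ⟨y, t, hyt⟩ := hn
  have e1 : (n : Mat a b F →ₗ[F] Mat a b F) = colL b (y : (Fin a → F) →ₗ[F] (Fin a → F)) ∘ₗ
      rowL a (t : (Fin b → F) →ₗ[F] (Fin b → F)) := by
    apply ext_pure
    intro u v
    rw [LinearMap.comp_apply, rowL_pure, colL_pure]
    exact hyt u v
  have e2 : (n.symm : Mat a b F →ₗ[F] Mat a b F) = rowL a (t.symm : (Fin b → F) →ₗ[F] (Fin b → F)) ∘ₗ
      colL b (y.symm : (Fin a → F) →ₗ[F] (Fin a → F)) := by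
    apply ext_pure
    intro u v
    rw [LinearMap.comp_apply, colL_pure, rowL_pure]
    show n.symm (vecMulVec u v) = vecMulVec (y.symm u) (t.symm v)
    rw [LinearEquiv.symm_apply_eq, hyt, LinearEquiv.apply_symm_apply, LinearEquiv.apply_symm_apply]
  have e3 : ptr (cj n⁻¹ z) = (t.symm : (Fin b → F) →ₗ[F] (Fin b → F)) ∘ₗ ptr z ∘ₗ (t : (Fin b → F) →ₗ[F] (Fin b → F)) := by
    have h1 : cj n⁻¹ z = (n.symm : Mat a b F →ₗ[F] Mat a b F) ∘ₗ z ∘ₗ (n : Mat a b F →ₗ[F] Mat a b F) := rfl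
    rw [h1, e1, e2]
    have h2 : (rowL a (t.symm : (Fin b → F) →ₗ[F] (Fin b → F)) ∘ₗ colL b (y.symm : (Fin a → F) →ₗ[F] (Fin a → F))) ∘ₗ
        z ∘ₗ colL b (y : (Fin a → F) →ₗ[F] (Fin a → F)) ∘ₗ rowL a (t : (Fin b → F) →ₗ[F] (Fin b → F)) =
        rowL a (t.symm : (Fin b → F) →ₗ[F] (Fin b → F)) ∘ₗ ((colL b (y.symm : (Fin a → F) →ₗ[F] (Fin a → F)) ∘ₗ
        (z ∘ₗ colL b (y : (Fin a → F) →ₗ[F] (Fin a → F)))) ∘ₗ rowL a (t : (Fin b → F) →ₗ[F] (Fin b → F))) := rfl
    rw [h2, ptr_row_left, ptr_row_right, ptr_col_comm]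
    have h3 : (z ∘ₗ colL b (y : (Fin a → F) →ₗ[F] (Fin a → F))) ∘ₗ colL b (y.symm : (Fin a → F) →ₗ[F] (Fin a → F)) = z := by
      apply ext_pure
      intro u v
      rw [LinearMap.comp_apply, LinearMap.comp_apply, colL_pure, colL_pure]
      show z (vecMulVec (y (y.symm u)) v) = _
      rw [LinearEquiv.apply_symm_apply]
    rw [h3]
  rw [TT_apply, e3]
  apply ext_pure
  intro u v
  rw [cj_apply]
  have h1 : n.symm (vecMulVec u v) = vecMulVec (y.symm u) (t.symm v) := by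
    rw [LinearEquiv.symm_apply_eq, hyt, LinearEquiv.apply_symm_apply, LinearEquiv.apply_symm_apply]
  rw [h1, rowL_pure, rowL_pure, hyt]
  show vecMulVec (y (y.symm u)) (t (t.symm (ptr z (t (t.symm v))))) = _
  rw [LinearEquiv.apply_symm_apply, LinearEquiv.apply_symm_apply, LinearEquiv.apply_symm_apply]

end Trace

section Free

theorem free_sum {Ω Λ E : Type*} [DecidableEq Ω] [Fintype Λ] [AddCommGroup Λ] [AddCommGroup E] (act : Λ → Ω → Ω)
    (h0 : ∀ ω, act 0 ω = ω) (hadd : ∀ l m ω, act (l + m) ω = act l (act m ω))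
    (ρ : Λ → E →+ E) (f : Ω → E) (hf : ∀ l, ∀ ω, f (act l ω) = ρ l (f ω)) (S : Finset Ω)
    (hS : ∀ l, ∀ ω ∈ S, act l ω ∈ S) (hfree : ∀ l, ∀ ω ∈ S, act l ω = ω → l = 0) :
    ∃ y : E, ∑ ω ∈ S, f ω = ∑ l, ρ l y := by
  induction hn : S.card using Nat.strong_induction_on generalizing S with
  | _ n ih =>
    rcases S.eq_empty_or_nonempty with rfl | ⟨ω₀, hω₀⟩
    · exact ⟨0, by simp⟩
    let O : Finset Ω := Finset.univ.image (fun l => act l ω₀)
    have hO : ∀ ω, ω ∈ O ↔ ∃ l, act l ω₀ = ω := by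
      intro ω
      simp [O]
    have hOS : O ⊆ S := by
      intro ω hω
      obtain ⟨l, rfl⟩ := (hO ω).mp hω
      exact hS l _ hω₀
    have hω₀O : ω₀ ∈ O := (hO ω₀).mpr ⟨0, h0 ω₀⟩
    obtain ⟨y, hy⟩ := ih (S \ O).card (by
      rw [← hn]
      apply Finset.card_lt_card
      refine ⟨Finset.sdiff_subset, fun h => ?_⟩
      exact (Finset.mem_sdiff.mp (h hω₀)).2 hω₀O) (S \ O) (by
      intro l ω hω
      obtain ⟨h1, h2⟩ := Finset.mem_sdiff.mp hω
      refine Finset.mem_sdiff.mpr ⟨hS l ω h1, fun h3 => h2 ?_⟩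
      obtain ⟨m, hm⟩ := (hO _).mp h3
      rw [hO]
      refine ⟨-l + m, ?_⟩
      rw [hadd, hm, ← hadd, neg_add_cancel, h0]) (by
      intro l ω hω
      exact hfree l ω (Finset.mem_sdiff.mp hω).1) rfl
    refine ⟨y + f ω₀, ?_⟩
    rw [← Finset.sum_sdiff hOS, hy]
    have h1 : ∑ ω ∈ O, f ω = ∑ l, f (act l ω₀) := by
      apply Finset.sum_image
      intro l _ m _ hlm
      have h2 : act l ω₀ = act m ω₀ := hlm
      have h3 : act (-m + l) ω₀ = ω₀ := by
        rw [hadd, h2, ← hadd, neg_add_cancel, h0]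
      have h4 := hfree _ _ hω₀ h3
      have h5 : l = m := by
        have h6 := congrArg (fun x => m + x) h4
        simp only [add_neg_cancel_left, add_zero] at h6
        exact h6
      exact h5
    rw [h1, ← Finset.sum_add_distrib]
    refine Finset.sum_congr rfl fun l _ => ?_
    rw [map_add, hf]

end Free

section Skew

variable {F : Type*} [Field F]

/-- The elements of trace zero. -/
def skewG (σ : F →+* F) : AddSubgroup F where
  carrier := {l | l + σ l = 0}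
  zero_mem' := by
    show (0 : F) + σ 0 = 0
    rw [map_zero, add_zero]
  add_mem' {x y} hx hy := by
    have hx' : x + σ x = 0 := hx
    have hy' : y + σ y = 0 := hy
    show x + y + σ (x + y) = 0
    rw [map_add]
    linear_combination hx' + hy'
  neg_mem' {x} hx := by
    have hx' : x + σ x = 0 := hx
    show -x + σ (-x) = 0
    rw [map_neg]
    linear_combination -hx'

theorem skew_card {σ : F →+* F} [Fintype (skewG σ)] (hσ : σ ≠ RingHom.id F) (hσ2 : ∀ x : F, σ (σ x) = x) :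
    ∑ _l : skewG σ, (1 : F) = 0 := by
  obtain ⟨l₀, hl0, hl⟩ := exists_skew hσ hσ2
  have h1 : ∑ l : skewG σ, ((l + ⟨l₀, hl⟩ : skewG σ) : F) = ∑ l : skewG σ, (l : F) :=
    Equiv.sum_comp (Equiv.addRight (⟨l₀, hl⟩ : skewG σ)) (fun l => (l : F))
  have h2 : ∑ l : skewG σ, ((l + ⟨l₀, hl⟩ : skewG σ) : F) = ∑ l : skewG σ, (l : F) + (∑ _l : skewG σ, (1 : F)) * l₀ := by
    rw [Finset.sum_mul, ← Finset.sum_add_distrib]
    refine Finset.sum_congr rfl fun l _ => ?_
    rw [one_mul]; rfl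
  rw [h1, left_eq_add] at h2
  exact (mul_eq_zero.mp h2).resolve_right hl0

theorem skew_sum {σ : F →+* F} [Fintype (skewG σ)] (hσ2 : ∀ x : F, σ (σ x) = x)
    (hc : ∃ c : F, c ≠ 0 ∧ σ c * c ≠ 1) : ∑ l : skewG σ, (l : F) = 0 := by
  obtain ⟨c, hc0, hc1⟩ := hc
  set d : F := σ c * c with hd
  have hd0 : d ≠ 0 := mul_ne_zero ((map_ne_zero σ).mpr hc0) hc0
  have hdσ : σ d = d := by rw [hd, map_mul, hσ2, mul_comm]
  have hmem : ∀ (e : F), σ e = e → ∀ l : skewG σ, e * (l : F) ∈ skewG σ := by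
    intro e he l
    have hl : (l : F) + σ l = 0 := l.2
    show e * (l : F) + σ (e * (l : F)) = 0
    rw [map_mul, he, ← mul_add, hl, mul_zero]
  let E : skewG σ ≃ skewG σ :=
    { toFun := fun l => ⟨d * l, hmem d hdσ l⟩
      invFun := fun l => ⟨d⁻¹ * l, hmem d⁻¹ (by rw [map_inv₀, hdσ]) l⟩
      left_inv := fun l => by
        apply Subtype.ext
        show d⁻¹ * (d * (l : F)) = l
        rw [inv_mul_cancel_left₀ hd0]
      right_inv := fun l => by
        apply Subtype.ext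
        show d * (d⁻¹ * (l : F)) = l
        rw [mul_inv_cancel_left₀ hd0] }
  have h1 : ∑ l : skewG σ, (E l : F) = ∑ l : skewG σ, (l : F) := Equiv.sum_comp E (fun l => (l : F))
  have h2 : ∑ l : skewG σ, (E l : F) = d * ∑ l : skewG σ, (l : F) := by
    rw [Finset.mul_sum]
    rfl
  rw [h1] at h2
  have h3 : (1 - d) * ∑ l : skewG σ, (l : F) = 0 := by linear_combination h2
  exact (mul_eq_zero.mp h3).resolve_left (sub_ne_zero.mpr (Ne.symm hc1))

end Skew

end Cfsg.Agent.H881
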