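import Cfsg.Agent.H881.CompE

/-!
The sum of the projections `T_q` over the cosets of `M` modulo the tensors: the part over the cosets that neither are
trivial nor commute vanishes (trace trick).
-/

set_option autoImplicit false
set_option linter.unusedSectionVars false

namespace Cfsg.Agent.H881

open Module Cfsg.Agent.ClassicalGeometry Cfsg.Agent.H880 Matrix

section Cosets

variable {F : Type*} [Field F] {σ : F →+* F} [Finite F] {a b : ℕ} {M : Subgroup (Mat a b F ≃ₗ[F] Mat a b F)}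

theorem tens_conj_row {n : Mat a b F ≃ₗ[F] Mat a b F} (hn : IsTens n) (T : (Fin b → F) →ₗ[F] (Fin b → F)) :
    ∃ T', ∀ X, n (rowL a T (n.symm X)) = rowL a T' X := by
  obtain ⟨y, t, hyt⟩ := hn
  refine ⟨(t : (Fin b → F) →ₗ[F] (Fin b → F)) ∘ₗ T ∘ₗ (t.symm : (Fin b → F) →ₗ[F] (Fin b → F)), fun X => ?_⟩
  have h1 : (n : Mat a b F →ₗ[F] Mat a b F) ∘ₗ rowL a T ∘ₗ (n.symm : Mat a b F →ₗ[F] Mat a b F) =
      rowL a ((t : (Fin b → F) →ₗ[F] (Fin b → F)) ∘ₗ T ∘ₗ (t.symm : (Fin b → F) →ₗ[F] (Fin b → F))) := by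
    apply ext_pure
    intro u v
    have h1 : n.symm (vecMulVec u v) = vecMulVec (y.symm u) (t.symm v) := by
      rw [LinearEquiv.symm_apply_eq, hyt, LinearEquiv.apply_symm_apply, LinearEquiv.apply_symm_apply]
    show n (rowL a T (n.symm (vecMulVec u v))) = _
    rw [h1, rowL_pure, hyt, rowL_pure, LinearEquiv.apply_symm_apply]
    rfl
  exact LinearMap.congr_fun h1 X

theorem tens_conj_col {n : Mat a b F ≃ₗ[F] Mat a b F} (hn : IsTens n) (Y : (Fin a → F) →ₗ[F] (Fin a → F)) :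
    ∃ Y', ∀ X, n (colL b Y (n.symm X)) = colL b Y' X := by
  obtain ⟨y, t, hyt⟩ := hn
  refine ⟨(y : (Fin a → F) →ₗ[F] (Fin a → F)) ∘ₗ Y ∘ₗ (y.symm : (Fin a → F) →ₗ[F] (Fin a → F)), fun X => ?_⟩
  have h1 : (n : Mat a b F →ₗ[F] Mat a b F) ∘ₗ colL b Y ∘ₗ (n.symm : Mat a b F →ₗ[F] Mat a b F) =
      colL b ((y : (Fin a → F) →ₗ[F] (Fin a → F)) ∘ₗ Y ∘ₗ (y.symm : (Fin a → F) →ₗ[F] (Fin a → F))) := by
    apply ext_pure
    intro u v
    have h1 : n.symm (vecMulVec u v) = vecMulVec (y.symm u) (t.symm v) := by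
      rw [LinearEquiv.symm_apply_eq, hyt, LinearEquiv.apply_symm_apply, LinearEquiv.apply_symm_apply]
    show n (colL b Y (n.symm (vecMulVec u v))) = _
    rw [h1, colL_pure, hyt, colL_pure, LinearEquiv.apply_symm_apply]
    rfl
  exact LinearMap.congr_fun h1 X

theorem Com.mul_tens {g n : Mat a b F ≃ₗ[F] Mat a b F} (h : Com g) (hn : IsTens n) : Com (g * n) := by
  intro T
  obtain ⟨T', hT'⟩ := tens_conj_row hn T
  obtain ⟨Y, hY⟩ := h T'
  refine ⟨Y, fun X => ?_⟩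
  show g (n (rowL a T (n.symm (g.symm X)))) = _
  rw [hT', hY]

theorem Com.tens_mul {g n : Mat a b F ≃ₗ[F] Mat a b F} (h : Com g) (hn : IsTens n) : Com (n * g) := by
  intro T
  obtain ⟨Y, hY⟩ := h T
  obtain ⟨Y', hY'⟩ := tens_conj_col hn Y
  refine ⟨Y', fun X => ?_⟩
  show n (g (rowL a T (g.symm (n.symm X)))) = _
  rw [hY, hY']

/-- The tensors in `M` as a subgroup of `M`. -/
abbrev NN (M : Subgroup (Mat a b F ≃ₗ[F] Mat a b F)) : Subgroup M := (tensM M).subgroupOf M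

theorem mem_NN {g : M} : g ∈ NN M ↔ IsTens (g : Mat a b F ≃ₗ[F] Mat a b F) := by
  rw [Subgroup.mem_subgroupOf, mem_tensM]
  exact ⟨fun h => h.2, fun h => ⟨g.2, h⟩⟩

/-- `T_q` for a coset `q`. -/
noncomputable def TQ (q : M ⧸ NN M) : (Mat a b F →ₗ[F] Mat a b F) →ₗ[F] (Mat a b F →ₗ[F] Mat a b F) :=
  TT ((Quotient.out q : M) : Mat a b F ≃ₗ[F] Mat a b F)

theorem TQ_mk (g : M) (z : Mat a b F →ₗ[F] Mat a b F) :
    TQ (g : M ⧸ NN M) z = TT (g : Mat a b F ≃ₗ[F] Mat a b F) z := by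
  obtain ⟨n, hn⟩ := QuotientGroup.mk_out_eq_mul (NN M) g
  show TT ((Quotient.out (g : M ⧸ NN M) : M) : Mat a b F ≃ₗ[F] Mat a b F) z = _
  rw [hn]
  show TT ((g : Mat a b F ≃ₗ[F] Mat a b F) * ((n : M) : Mat a b F ≃ₗ[F] Mat a b F)) z = _
  rw [TT_mul, TT_tens (mem_NN.mp n.2)]
  rfl

theorem TQ_smul (h : M) (q : M ⧸ NN M) (z : Mat a b F →ₗ[F] Mat a b F) :
    TQ (h • q) z = cj (h : Mat a b F ≃ₗ[F] Mat a b F) (TQ q (cj (h : Mat a b F ≃ₗ[F] Mat a b F)⁻¹ z)) := by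
  induction q using QuotientGroup.induction_on with
  | H g =>
    have h1 : h • (g : M ⧸ NN M) = ((h * g : M) : M ⧸ NN M) := rfl
    rw [h1, TQ_mk, TQ_mk]
    exact TT_mul _ _ z

/-- The non-trivial non-commuting cosets. -/
noncomputable def Sset (M : Subgroup (Mat a b F ≃ₗ[F] Mat a b F)) : Finset (M ⧸ NN M) :=
  (Set.toFinite {q : M ⧸ NN M | q ≠ ((1 : M) : M ⧸ NN M) ∧
    ¬ Com ((Quotient.out q : M) : Mat a b F ≃ₗ[F] Mat a b F)}).toFinset

theorem mem_Sset {q : M ⧸ NN M} : q ∈ Sset M ↔ q ≠ ((1 : M) : M ⧸ NN M) ∧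
    ¬ Com ((Quotient.out q : M) : Mat a b F ≃ₗ[F] Mat a b F) := by
  rw [Sset, Set.Finite.mem_toFinset]
  rfl

theorem rowL_phi (w : Fin b → F) (X : Mat a b F) : rowL a (phi σ w) X = vecMulVec (con σ w X) w := by
  funext i
  rw [rowL_apply, phi_apply, pure_row]
  rfl

theorem e_trace (hσ : σ ≠ RingHom.id F) (hσ2 : ∀ x : F, σ (σ x) = x) (ha : 1 ≤ a) (hb : 3 ≤ b)
    (hqb : 4 ≤ b ∨ ∃ c : F, c ≠ 0 ∧ σ c * c ≠ 1) {S : Set ((Fin a → F) ≃ₗ[F] (Fin a → F))} (hM : OverC σ M S)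
    [Fintype (skewG σ)] {w : Fin b → F} (hw0 : w ≠ 0) (hw : stB σ b w w = 0) (z : Mat a b F →ₗ[F] Mat a b F)
    (hz : ∀ X, z (rowL a (phi σ w) X) = rowL a (phi σ w) (z X)) :
    ∃ y : Mat a b F →ₗ[F] Mat a b F, ∀ X, (∑ q ∈ Sset M, TQ q z) X =
      ∑ l : skewG σ, (y (X - (l : F) • rowL a (phi σ w) X) + (l : F) • rowL a (phi σ w) (y (X - (l : F) • rowL a (phi σ w) X))) := by
  classical
  have hxx : ∀ X : Mat a b F, rowL a (phi σ w) (rowL a (phi σ w) X) = 0 := by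
    intro X
    rw [rowL_phi, rowL_phi, con_pure, hw, zero_smul, zero_pure]
  have hex : ∀ l : skewG σ, ∃ t ∈ M, ∀ X, t X = X + (l : F) • rowL a (phi σ w) X := fun l =>
    exists_t hσ2 hM.toRowG hw l.2
  choose τ hτM hτ using hex
  have hτs : ∀ l X, (τ l).symm X = X - (l : F) • rowL a (phi σ w) X := by
    intro l X
    rw [LinearEquiv.symm_apply_eq, hτ, map_sub, map_smul, hxx, smul_zero, sub_zero, sub_add_cancel]
  have hτ0 : τ 0 = 1 := by
    refine LinearEquiv.ext fun X => ?_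
    rw [hτ]
    show X + (0 : F) • rowL a (phi σ w) X = X
    rw [zero_smul, add_zero]
  have hτadd : ∀ l m, τ (l + m) = τ l * τ m := by
    intro l m
    refine LinearEquiv.ext fun X => ?_
    show τ (l + m) X = τ l (τ m X)
    rw [hτ, hτ l, hτ m, map_add, map_smul, hxx, smul_zero, add_zero]
    show X + ((l : F) + (m : F)) • rowL a (phi σ w) X = _
    rw [add_smul]
    abel
  have hcomm : ∀ l, cj (τ l)⁻¹ z = z := by
    intro l
    refine LinearMap.ext fun X => ?_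
    show (τ l).symm (z (τ l X)) = z X
    rw [LinearEquiv.symm_apply_eq, hτ, hτ, map_add, map_smul, hz]
  have hten : ∀ l, IsTens (τ l) := by
    intro l
    obtain ⟨t, ht, _, _, _⟩ := exists_tv (B := stB σ b) (stB_symm hσ2 b) hw l.2
    refine ⟨1, t, fun u v => ?_⟩
    rw [hτ, rowL_pure, phi_apply, ht, Matrix.vecMulVec_add, Matrix.vecMulVec_smul, Matrix.vecMulVec_smul, smul_smul]
    rfl
  obtain ⟨y, hy⟩ := free_sum (Λ := skewG σ) (Ω := M ⧸ NN M) (E := Mat a b F →ₗ[F] Mat a b F)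
    (fun l q => (⟨τ l, hτM l⟩ : M) • q)
    (fun q => by
      have : (⟨τ 0, hτM 0⟩ : M) = 1 := Subtype.ext hτ0
      show (⟨τ 0, hτM 0⟩ : M) • q = q
      rw [this, one_smul])
    (fun l m q => by
      have : (⟨τ (l + m), hτM (l + m)⟩ : M) = ⟨τ l, hτM l⟩ * ⟨τ m, hτM m⟩ := Subtype.ext (hτadd l m)
      show (⟨τ (l + m), hτM (l + m)⟩ : M) • q = (⟨τ l, hτM l⟩ : M) • (⟨τ m, hτM m⟩ : M) • q
      rw [this, mul_smul])
    (fun l => (cj (τ l)).toAddMonoidHom)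
    (fun q => TQ q z)
    (fun l q => by
      show TQ ((⟨τ l, hτM l⟩ : M) • q) z = cj (τ l) (TQ q z)
      rw [TQ_smul]
      show cj (τ l) (TQ q (cj (τ l)⁻¹ z)) = _
      rw [hcomm])
    (Sset M)
    (fun l q hq => by
      rw [mem_Sset] at hq ⊢
      obtain ⟨hq1, hq2⟩ := hq
      refine ⟨fun h => hq1 ?_, fun h => hq2 ?_⟩
      · have h1 : q = (⟨τ l, hτM l⟩ : M)⁻¹ • ((1 : M) : M ⧸ NN M) := by
          rw [← h, smul_smul, inv_mul_cancel, one_smul]
        rw [h1]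
        have h2 : (⟨τ l, hτM l⟩ : M)⁻¹ • ((1 : M) : M ⧸ NN M) = (((⟨τ l, hτM l⟩ : M)⁻¹ * 1 : M) : M ⧸ NN M) := rfl
        rw [h2, mul_one, QuotientGroup.eq, inv_inv, mul_one, mem_NN]
        exact hten l
      · have h1 : (((Quotient.out ((⟨τ l, hτM l⟩ : M) • q) : M)) : M ⧸ NN M) =
            (((⟨τ l, hτM l⟩ : M) * (Quotient.out q : M) : M) : M ⧸ NN M) := by
          rw [QuotientGroup.out_eq']
          have h2 : (((⟨τ l, hτM l⟩ : M) * (Quotient.out q : M) : M) : M ⧸ NN M) =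
              (⟨τ l, hτM l⟩ : M) • ((Quotient.out q : M) : M ⧸ NN M) := rfl
          rw [h2, QuotientGroup.out_eq']
        rw [QuotientGroup.eq, mem_NN] at h1
        have h2 := (h.mul_tens h1).tens_mul (hten l).inv
        have h3 : (τ l)⁻¹ * (((Quotient.out ((⟨τ l, hτM l⟩ : M) • q) : M) : Mat a b F ≃ₗ[F] Mat a b F) *
            (((Quotient.out ((⟨τ l, hτM l⟩ : M) • q) : M)⁻¹ * ((⟨τ l, hτM l⟩ : M) * (Quotient.out q : M)) : M) :
              Mat a b F ≃ₗ[F] Mat a b F)) = ((Quotient.out q : M) : Mat a b F ≃ₗ[F] Mat a b F) := by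
          rw [← Subgroup.coe_mul, mul_inv_cancel_left, Subgroup.coe_mul]
          exact inv_mul_cancel_left _ _
        rwa [h3] at h2)
    (fun l q hq h => by
      by_contra hl0
      rw [mem_Sset] at hq
      have hl0' : (l : F) ≠ 0 := fun h => hl0 (Subtype.ext h)
      have h1 : ((Quotient.out q : M) : M ⧸ NN M) = (((⟨τ l, hτM l⟩ : M) * (Quotient.out q : M) : M) : M ⧸ NN M) := by
        have h2 : (((⟨τ l, hτM l⟩ : M) * (Quotient.out q : M) : M) : M ⧸ NN M) =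
            (⟨τ l, hτM l⟩ : M) • ((Quotient.out q : M) : M ⧸ NN M) := rfl
        rw [h2, QuotientGroup.out_eq']
        exact h.symm
      rw [QuotientGroup.eq, mem_NN, ← mul_assoc] at h1
      rcases fixed_cl hσ hσ2 ha hb hqb hM (Quotient.out q : M).2 hw0 hw hl0' (hτ l) h1 with h2 | h2
      · apply hq.1
        rw [← QuotientGroup.out_eq' q, QuotientGroup.eq, mul_one, mem_NN]
        exact h2.inv
      · exact hq.2 h2)
  refine ⟨y, fun X => ?_⟩
  have h1 : (∑ q ∈ Sset M, TQ q z) = ∑ l : skewG σ, cj (τ l) y := hy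
  rw [h1, LinearMap.sum_apply]
  refine Finset.sum_congr rfl fun l _ => ?_
  rw [cj_apply, hτs, hτ]

end Cosets

end Cfsg.Agent.H881
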