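import Cfsg.Agent.H881.CompF

/-!
**Component theorem**: every `g ∈ M` is a tensor or `g 𝔄 g⁻¹` commutes with `𝔄 = 1 ⊗ End(F^b)`.
-/

set_option autoImplicit false
set_option linter.unusedSectionVars false

namespace Cfsg.Agent.H881

open Module Cfsg.Agent.ClassicalGeometry Cfsg.Agent.H880 Matrix

section

variable {F : Type*} [Field F] {σ : F →+* F} [Finite F] {a b : ℕ} {M : Subgroup (Mat a b F ≃ₗ[F] Mat a b F)}

theorem e_P1 (hσ : σ ≠ RingHom.id F) (hσ2 : ∀ x : F, σ (σ x) = x) (ha : 1 ≤ a) (hb : 3 ≤ b)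
    (hqb : 4 ≤ b ∨ ∃ c : F, c ≠ 0 ∧ σ c * c ≠ 1) {S : Set ((Fin a → F) ≃ₗ[F] (Fin a → F))} (hM : OverC σ M S)
    {w : Fin b → F} (hw0 : w ≠ 0) (hw : stB σ b w w = 0) (z : Mat a b F →ₗ[F] Mat a b F)
    (hz : ∀ X, z (rowL a (phi σ w) X) = rowL a (phi σ w) (z X)) {X : Mat a b F} (hX : con σ w X = 0) :
    ∃ u', (∑ q ∈ Sset M, TQ q z) X = vecMulVec u' w := by
  have : Fintype (skewG σ) := Fintype.ofFinite _
  obtain ⟨y, hy⟩ := e_trace hσ hσ2 ha hb hqb hM hw0 hw z hz
  refine ⟨(∑ l : skewG σ, (l : F)) • con σ w (y X), ?_⟩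
  have hx : rowL a (phi σ w) X = 0 := by rw [rowL_phi, hX, zero_pure]
  rw [hy]
  simp only [hx, smul_zero, sub_zero]
  rw [Finset.sum_add_distrib, ← Finset.sum_smul, rowL_phi, Matrix.smul_vecMulVec]
  have h1 : ∑ _l : skewG σ, y X = (∑ _l : skewG σ, (1 : F)) • y X := by
    rw [Finset.sum_smul]
    refine Finset.sum_congr rfl fun l _ => ?_
    rw [one_smul]
  rw [h1, skew_card hσ hσ2, zero_smul, zero_add]

theorem e_P2 (hσ : σ ≠ RingHom.id F) (hσ2 : ∀ x : F, σ (σ x) = x) (ha : 1 ≤ a) (hb : 3 ≤ b)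
    (hc : ∃ c : F, c ≠ 0 ∧ σ c * c ≠ 1) {S : Set ((Fin a → F) ≃ₗ[F] (Fin a → F))} (hM : OverC σ M S)
    {w : Fin b → F} (hw0 : w ≠ 0) (hw : stB σ b w w = 0) (z : Mat a b F →ₗ[F] Mat a b F)
    (hz : ∀ X, z (rowL a (phi σ w) X) = rowL a (phi σ w) (z X)) (X : Mat a b F) :
    ∃ u', (∑ q ∈ Sset M, TQ q z) X = vecMulVec u' w := by
  have : Fintype (skewG σ) := Fintype.ofFinite _
  obtain ⟨y, hy⟩ := e_trace hσ hσ2 ha hb (Or.inr hc) hM hw0 hw z hz
  refine ⟨∑ l : skewG σ, (l : F) • con σ w (y (X - (l : F) • rowL a (phi σ w) X)), ?_⟩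
  have h0 : (∑ l : skewG σ, (l : F) • con σ w (y (X - (l : F) • rowL a (phi σ w) X))) =
      ∑ l : skewG σ, con σ w ((l : F) • y (X - (l : F) • rowL a (phi σ w) X)) := by
    refine Finset.sum_congr rfl fun l _ => ?_
    rw [map_smul]
  rw [hy, h0, ← map_sum, ← rowL_phi, map_sum, Finset.sum_add_distrib]
  have h1 : ∑ l : skewG σ, y (X - (l : F) • rowL a (phi σ w) X) =
      (∑ _l : skewG σ, (1 : F)) • y X - (∑ l : skewG σ, (l : F)) • y (rowL a (phi σ w) X) := by
    rw [Finset.sum_smul, Finset.sum_smul, ← Finset.sum_sub_distrib]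
    refine Finset.sum_congr rfl fun l _ => ?_
    rw [one_smul, map_sub, map_smul]
  rw [h1, skew_card hσ hσ2, skew_sum hσ2 hc, zero_smul, zero_smul, sub_zero, zero_add]
  refine Finset.sum_congr rfl fun l _ => ?_
  rw [map_smul]

/-- Hyperbolic pairs orthogonal to an orthogonal family of non-isotropic vectors. -/
theorem exists_hyp_perp (hσ : σ ≠ RingHom.id F) (hσ2 : ∀ x : F, σ (σ x) = x) {m : ℕ} (s : Fin m → Fin b → F)
    (hs : ∀ i, stB σ b (s i) (s i) ≠ 0) (hso : ∀ i j, i ≠ j → stB σ b (s i) (s j) = 0) (hm : m + 2 ≤ b) :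
    ∃ w₁ w₂, (∀ i, stB σ b (s i) w₁ = 0) ∧ (∀ i, stB σ b (s i) w₂ = 0) ∧ stB σ b w₁ w₁ = 0 ∧ stB σ b w₂ w₂ = 0 ∧
      stB σ b w₁ w₂ = 1 := by
  have hS := stB_symm hσ2 b
  have hdim := finrank_perp_range (B := stB σ b) s
  rw [Fintype.card_fin, finrank_fin_fun] at hdim
  obtain ⟨w₁, hw1, hw10, hw11⟩ := exists_isotropic (B := stB σ b) hσ hσ2 hS (perp (stB σ b) (Set.range s)) (by omega)
  have e1 : ∀ i, stB σ b (s i) w₁ = 0 := fun i => hw1 _ ⟨i, rfl⟩
  have e1' : ∀ i, stB σ b w₁ (s i) = 0 := fun i => symm_zero hS (e1 i)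
  obtain ⟨z, hz⟩ : ∃ z, stB σ b w₁ z ≠ 0 := by
    by_contra h
    push Not at h
    exact hw10 (stB_sepLeft b w₁ h)
  obtain ⟨z', hz'1, hz'2⟩ : ∃ z', (∀ i, stB σ b (s i) z' = 0) ∧ stB σ b w₁ z' ≠ 0 := by
    refine ⟨z - ∑ j, (stB σ b (s j) z / stB σ b (s j) (s j)) • s j, fun i => ?_, ?_⟩
    · rw [map_sub, map_sum, Finset.sum_eq_single i]
      · rw [map_smul, smul_eq_mul, div_mul_cancel₀ _ (hs i), sub_self]
      · intro j _ hj
        rw [map_smul, hso i j (Ne.symm hj), smul_zero]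
      · intro h; exact absurd (Finset.mem_univ _) h
    · rw [map_sub, map_sum]
      have : ∑ j, stB σ b w₁ ((stB σ b (s j) z / stB σ b (s j) (s j)) • s j) = 0 := by
        apply Finset.sum_eq_zero
        intro j _
        rw [map_smul, e1', smul_zero]
      rw [this, sub_zero]
      exact hz
  obtain ⟨c, d, h1, h2⟩ := exists_partner hσ hσ2 hS hw11 hz'2
  refine ⟨w₁, c • z' + d • w₁, e1, fun i => ?_, hw11, h2, h1⟩
  rw [map_add, map_smul, map_smul, hz'1, e1, smul_zero, smul_zero, add_zero]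

theorem ne_of_hyp {w₁ w₂ : Fin b → F} (h : stB σ b w₁ w₂ = 1) : w₁ ≠ 0 ∧ w₂ ≠ 0 := by
  constructor
  · rintro rfl
    rw [map_zero, LinearMap.zero_apply] at h
    exact zero_ne_one h
  · rintro rfl
    rw [map_zero] at h
    exact zero_ne_one h

theorem J_inter {w₁ w₂ : Fin b → F} (hw : stB σ b w₁ w₁ = 0) (h : stB σ b w₁ w₂ = 1) {X : Mat a b F}
    (h1 : ∃ u, X = vecMulVec u w₁) (h2 : ∃ u, X = vecMulVec u w₂) : X = 0 := by
  obtain ⟨u₁, rfl⟩ := h1
  obtain ⟨u₂, hu⟩ := h2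
  have h3 := congrArg (con σ w₁) hu
  rw [con_pure, con_pure, hw, h, zero_smul, one_smul] at h3
  rw [hu, ← h3, zero_pure]

/-- The sum over the non-trivial cosets vanishes at `β ⊗ φ_x`, `x` non-isotropic. -/
theorem e_zero_noniso (hσ : σ ≠ RingHom.id F) (hσ2 : ∀ x : F, σ (σ x) = x) (ha : 1 ≤ a) (hb : 3 ≤ b)
    (hqb : 4 ≤ b ∨ ∃ c : F, c ≠ 0 ∧ σ c * c ≠ 1) {S : Set ((Fin a → F) ≃ₗ[F] (Fin a → F))} (hM : OverC σ M S)
    (β : (Fin a → F) →ₗ[F] (Fin a → F)) {x : Fin b → F} (hx : stB σ b x x ≠ 0) :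
    ∑ q ∈ Sset M, TQ q (colL b β ∘ₗ rowL a (phi σ x)) = 0 := by
  have hS := stB_symm hσ2 b
  set z : Mat a b F →ₗ[F] Mat a b F := colL b β ∘ₗ rowL a (phi σ x) with hz
  have hcomm : ∀ w, stB σ b x w = 0 → ∀ X, z (rowL a (phi σ w) X) = rowL a (phi σ w) (z X) := by
    intro w hw X
    have h1 : rowL a (phi σ x) (rowL a (phi σ w) X) = 0 := by
      rw [rowL_phi, rowL_phi, con_pure, hw, zero_smul, zero_pure]
    have h2 : rowL a (phi σ w) (rowL a (phi σ x) X) = 0 := by
      rw [rowL_phi, rowL_phi, con_pure, symm_zero hS hw, zero_smul, zero_pure]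
    show colL b β (rowL a (phi σ x) (rowL a (phi σ w) X)) = rowL a (phi σ w) (colL b β (rowL a (phi σ x) X))
    rw [h1, row_col_comm, h2]
  obtain ⟨v₁, v₂, hv1, hv2, hv11, hv22, hv12⟩ := exists_hyp_perp (σ := σ) (b := b) hσ hσ2 (fun _ : Fin 1 => x)
    (fun _ => hx) (fun i j hij => absurd (Subsingleton.elim i j) hij) (by omega)
  have hv1' := hv1 0
  have hv2' := hv2 0
  obtain ⟨hv10, hv20⟩ := ne_of_hyp hv12
  rcases hqb with h4 | hc
  · -- dimension at least four
    have hqb : 4 ≤ b ∨ ∃ c : F, c ≠ 0 ∧ σ c * c ≠ 1 := Or.inl h4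
    -- `v = x`
    have k1 : ∀ p, (∑ q ∈ Sset M, TQ q z) (vecMulVec p x) = 0 := by
      intro p
      apply J_inter hv11 hv12
      · exact e_P1 hσ hσ2 ha hb hqb hM hv10 hv11 z (hcomm _ hv1')
          (by rw [con_pure, symm_zero hS hv1', zero_smul])
      · exact e_P1 hσ hσ2 ha hb hqb hM hv20 hv22 z (hcomm _ hv2')
          (by rw [con_pure, symm_zero hS hv2', zero_smul])
    -- `v ⟂ x` non-isotropic
    have k2 : ∀ p v, stB σ b x v = 0 → stB σ b v v ≠ 0 → (∑ q ∈ Sset M, TQ q z) (vecMulVec p v) = 0 := by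
      intro p v hv hvv
      obtain ⟨w₁, w₂, h1, h2, h11, h22, h12⟩ := exists_hyp_perp (σ := σ) (b := b) hσ hσ2 ![x, v]
        (fun i => by fin_cases i; exacts [hx, hvv]) (fun i j hij => by
          fin_cases i <;> fin_cases j
          · exact absurd rfl hij
          · exact hv
          · exact symm_zero hS hv
          · exact absurd rfl hij) (by omega)
      have h1x : stB σ b x w₁ = 0 := h1 0
      have h1v : stB σ b v w₁ = 0 := h1 1
      have h2x : stB σ b x w₂ = 0 := h2 0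
      have h2v : stB σ b v w₂ = 0 := h2 1
      obtain ⟨h10, h20⟩ := ne_of_hyp h12
      apply J_inter h11 h12
      · exact e_P1 hσ hσ2 ha hb hqb hM h10 h11 z (hcomm _ h1x)
          (by rw [con_pure, symm_zero hS h1v, zero_smul])
      · exact e_P1 hσ hσ2 ha hb hqb hM h20 h22 z (hcomm _ h2x)
          (by rw [con_pure, symm_zero hS h2v, zero_smul])
    -- `v ⟂ x`
    have k3 : ∀ p v, stB σ b x v = 0 → (∑ q ∈ Sset M, TQ q z) (vecMulVec p v) = 0 := by
      intro p v hv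
      by_cases hvv : stB σ b v v = 0
      · by_cases hv0 : v = 0
        · rw [hv0, pure_zero, map_zero]
        obtain ⟨y, hy⟩ : ∃ y, stB σ b v y ≠ 0 := by
          by_contra h
          push Not at h
          exact hv0 (stB_sepLeft b v h)
        obtain ⟨c, d, h1, h2⟩ := exists_partner hσ hσ2 hS hvv (z := y - (stB σ b x y / stB σ b x x) • x) (by
          rw [map_sub, map_smul, symm_zero hS hv, smul_zero, sub_zero]; exact hy)
        set v' := c • (y - (stB σ b x y / stB σ b x x) • x) + d • v with hv'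
        have h3 : stB σ b x v' = 0 := by
          rw [hv', map_add, map_smul, map_smul, map_sub, map_smul, hv, smul_eq_mul, smul_eq_mul, div_mul_cancel₀ _ hx,
            sub_self, mul_zero, smul_zero, add_zero]
        have h4' : stB σ b v' v = 1 := by rw [← hS.eq, h1, map_one]
        obtain ⟨μ, hμ⟩ := HermWitt.trace_surj σ hσ hσ2 1 (map_one σ)
        obtain ⟨l, hl0, hl⟩ := exists_skew hσ hσ2
        have hn : ∀ m : F, m + σ m = 1 → (∑ q ∈ Sset M, TQ q z) (vecMulVec p (v + m • v')) = 0 := by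
          intro m hm
          apply k2
          · rw [map_add, map_smul, hv, h3, smul_zero, add_zero]
          · have : stB σ b (v + m • v') (v + m • v') = 1 := by
              simp only [map_add, LinearMap.add_apply, LinearMap.map_smulₛₗ₂, map_smul, smul_eq_mul, hvv, h1, h4', h2]
              linear_combination hm
            rw [this]
            exact one_ne_zero
        have e1 := hn μ hμ
        have e2 := hn (μ + l) (by rw [map_add]; linear_combination hμ + hl)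
        rw [Matrix.vecMulVec_add, Matrix.vecMulVec_smul, map_add, map_smul] at e1 e2
        have e3 : l • (∑ q ∈ Sset M, TQ q z) (vecMulVec p v') = 0 := by
          rw [add_smul] at e2
          have : l • (∑ q ∈ Sset M, TQ q z) (vecMulVec p v') =
            ((∑ q ∈ Sset M, TQ q z) (vecMulVec p v) + (μ • (∑ q ∈ Sset M, TQ q z) (vecMulVec p v') +
              l • (∑ q ∈ Sset M, TQ q z) (vecMulVec p v'))) - ((∑ q ∈ Sset M, TQ q z) (vecMulVec p v) +
              μ • (∑ q ∈ Sset M, TQ q z) (vecMulVec p v')) := by abel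
          rw [this, e1, e2, sub_zero]
        have e4 := (smul_eq_zero.mp e3).resolve_left hl0
        rw [e4, smul_zero, add_zero] at e1
        exact e1
      · exact k2 p v hv hvv
    apply ext_pure
    intro p v
    rw [LinearMap.zero_apply]
    have h1 : v = (stB σ b x v / stB σ b x x) • x + (v - (stB σ b x v / stB σ b x x) • x) := by abel
    rw [h1, Matrix.vecMulVec_add, Matrix.vecMulVec_smul, map_add, map_smul, k1, smul_zero, zero_add]
    apply k3
    rw [map_sub, map_smul, smul_eq_mul, div_mul_cancel₀ _ hx, sub_self]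
  · refine LinearMap.ext fun X => ?_
    rw [LinearMap.zero_apply]
    apply J_inter hv11 hv12
    · exact e_P2 hσ hσ2 ha hb hc hM hv10 hv11 z (hcomm _ hv1') X
    · exact e_P2 hσ hσ2 ha hb hc hM hv20 hv22 z (hcomm _ hv2') X

end

end Cfsg.Agent.H881
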