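import Cfsg.Agent.H881.PA2

/-!
Part A: the interface between the two halves.
-/

set_option autoImplicit false
set_option linter.unusedSectionVars false

namespace Cfsg.Agent.H881

open Matrix Cfsg.Agent.ClassicalGeometry Cfsg.Agent.H880 Cfsg.Agent.H919

/-- Up to a common scalar `M` contains `1 + c φ_{v_j} ⊗ ⋯` (over the slots `j ∈ S`) for all nonzero isotropic `v_j`. -/
def PureS {F : Type*} [Field F] {k s : ℕ} (σ : F →+* F)
    (M : Subgroup (Matrix.GeneralLinearGroup (Fin (s + 1) → Fin k) F)) (S : Finset (Fin (s + 1))) : Prop :=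
  ∃ c : F, c ≠ 0 ∧ ∀ v : Fin (s + 1) → Fin k → F, (∀ i ∈ S, v i ≠ 0 ∧ stB σ k (v i) (v i) = 0) →
    ∃ g ∈ M, (g : Matrix (Fin (s + 1) → Fin k) (Fin (s + 1) → Fin k) F) =
      1 + c • pureMat (fun j => if j ∈ S then ee σ (v j) (v j) else 1)

end Cfsg.Agent.H881
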