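import Cfsg.Agent.H881.PA5
import Cfsg.Agent.H594.TensGenMain
import Cfsg.Agent.H891.C7.Grow

/-!
Maximality of the tensor-wreath stabilisers in `SU_n(q)`, `n = k ^ t`, `k ≥ 3`, `t ≥ 2`, `(q, k) ≠ (2, 3)`.
-/

set_option autoImplicit false
set_option linter.unusedSectionVars false

namespace Cfsg.Agent.H881

open Module Matrix Cfsg.Agent.ClassicalGeometry Cfsg.Agent.H880 Cfsg.Agent.H919 Cfsg.Geo
open Cfsg.Agent.LieClassical.HermBasic

/-- **Part A.** -/
theorem partA {F : Type*} [Field F] [Finite F] {σ : F →+* F} {k s : ℕ} (hσ : σ ≠ RingHom.id F)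
    (hσ2 : ∀ x : F, σ (σ x) = x) (hk : 3 ≤ k) (hs : 1 ≤ s) (hqk : 4 ≤ k ∨ ∃ c : F, c ≠ 0 ∧ σ c * c ≠ 1)
    {M : Subgroup (Matrix.GeneralLinearGroup (Fin (s + 1) → Fin k) F)} (hM : OverT σ M) : LayerT σ M ∨ TransvT σ M := by
  rcases partA_first hσ hσ2 hk hqk hM with h | ⟨S, hS, h⟩
  · exact Or.inl h
  · exact Or.inr (H594.TensGen.transvT_of_pureT hσ hσ2 hk hs hqk hM
      (H891.C7.pureT_of_pureS hσ hσ2 hk hqk hM hS h))

/-- `4 ≤ k` or `q ≥ 3`. -/
theorem hqk_of {F : Type*} [Field F] [Fintype F] {q : ℕ} (hF : Fintype.card F = q ^ 2) {k : ℕ} (hk : 3 ≤ k)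
    (hex : ¬ (q = 2 ∧ k = 3)) :
    4 ≤ k ∨ ∃ c : F, c ≠ 0 ∧ ((conj hF : F ≃+* F) : F →+* F) c * c ≠ 1 := by
  set σ : F →+* F := ((conj hF : F ≃+* F) : F →+* F) with hσ_def
  have hσx : ∀ x, σ x = x ^ q := fun x => rfl
  have hσ : σ ≠ RingHom.id F := by
    intro h
    obtain ⟨x, hx⟩ := exists_not_fixed hF
    exact hx (by rw [← hσx, h]; rfl)
  have hσ2 : ∀ x, σ (σ x) = x := fun x => by rw [hσx, hσx, pow_q_pow_q hF]
  by_cases h4 : 4 ≤ k
  · exact Or.inl h4
  · right
    have hq3 : 3 ≤ q := by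
      have := two_le hF
      by_contra hlt
      exact hex ⟨by omega, by omega⟩
    by_contra hcon
    push Not at hcon
    have hcard := card_fixed hF
    have hle : Nat.card {x : F // x ^ q = x} ≤ 2 := by
      classical
      have hsub : ∀ x : {x : F // x ^ q = x}, (x : F) = 0 ∨ (x : F) = 1 := by
        intro x
        by_cases h0 : (x : F) = 0
        · exact Or.inl h0
        · right
          obtain ⟨d, hd0, hd⟩ := HermWitt.norm_surj σ hσ hσ2 (x : F) (by rw [hσx]; exact x.2) h0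
          rw [← hd, mul_comm]
          exact hcon d hd0
      let φ : {x : F // x ^ q = x} → Bool := fun x => decide ((x : F) = 0)
      have hφ : Function.Injective φ := by
        intro x y hxy
        have h5 : ((x : F) = 0) ↔ ((y : F) = 0) := by simpa [φ] using hxy
        apply Subtype.ext
        rcases hsub x with hx | hx
        · rw [hx, h5.mp hx]
        · rcases hsub y with hy | hy
          · rw [h5.mpr hy] at hx
            exact absurd hx zero_ne_one
          · rw [hx, hy]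
      have := Nat.card_le_card_of_injective φ hφ
      simpa using this
    omega

/-- **Maximality of the tensor-wreath stabilisers in `SU_n(q)`.** -/
theorem wreath_maximal_all {F : Type*} [Field F] [Fintype F] {n q : ℕ} (hF : Fintype.card F = q ^ 2) {k t : ℕ}
    (hk : 3 ≤ k) (ht : 2 ≤ t) (hex : ¬ (q = 2 ∧ k = 3)) (e : Fin n ≃ (Fin t → Fin k))
    (P : Matrix.GeneralLinearGroup (Fin n) F) (f₁ : (Fin k → F) → (Fin k → F) → F) (hf₁ : IsUnitaryFormPow q f₁)
    (hT : IsTensorPowerFormStructure (fun x : F => x ^ q) (Cfsg.hermForm n F q) f₁ e P) :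
    IsMaximalIn (Cfsg.GU n F q ⊓ Cfsg.Geo.specialLinear (Fin n) F)
      (tensorWreathSubgroup k t e P ⊓ (Cfsg.GU n F q ⊓ Cfsg.Geo.specialLinear (Fin n) F)) := by
  obtain ⟨s, rfl⟩ : ∃ s, t = s + 1 := ⟨t - 1, by omega⟩
  have hσx : ∀ x, ((conj hF : F ≃+* F) : F →+* F) x = x ^ q := fun x => rfl
  have hσ : ((conj hF : F ≃+* F) : F →+* F) ≠ RingHom.id F := by
    intro h
    obtain ⟨x, hx⟩ := exists_not_fixed hF
    exact hx (by rw [← hσx, h]; rfl)
  have hσ2 : ∀ x, ((conj hF : F ≃+* F) : F →+* F) (((conj hF : F ≃+* F) : F →+* F) x) = x := fun x => by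
    rw [hσx, hσx, pow_q_pow_q hF]
  exact wreath_maximal hF hk (by omega) hex e P f₁ hf₁ hT fun M hM =>
    partA hσ hσ2 hk (by omega) (hqk_of hF hk hex) (overT_of_overW hM)

end Cfsg.Agent.H881
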