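import Cfsg.Agent.H881.Wrap2

/-!
Part A, the basic step: an additive set `𝒦` of operators closed under conjugation by the transvections
`1 + l E(b,b)` and scaling by the fixed field contains `E(d,a) K E(a,d)` for `K ∈ 𝒦`, `a` isotropic, some isotropic `d`.
-/

set_option autoImplicit false
set_option linter.unusedSectionVars false

namespace Cfsg.Agent.H881

open Module Matrix Cfsg.Agent.ClassicalGeometry Cfsg.Agent.H880

section

variable {F : Type*} [Field F] [Finite F] {σ : F →+* F} {k : ℕ} {R : Type*} [Ring R] [Algebra F R]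

/-- Operators `E x y = |x⟩⟨y|`. -/
structure EFam (σ : F →+* F) (E : (Fin k → F) → (Fin k → F) → R) : Prop where
  mul : ∀ x y x' y', E x y * E x' y' = stB σ k y x' • E x y'
  add_left : ∀ x x' y, E (x + x') y = E x y + E x' y
  add_right : ∀ x y y', E x (y + y') = E x y + E x y'
  smul_left : ∀ (c : F) x y, E (c • x) y = c • E x y
  smul_right : ∀ (c : F) x y, E x (c • y) = σ c • E x y

theorem EFam.mul' {E : (Fin k → F) → (Fin k → F) → R} (hE : EFam σ E) (x y x' y' : Fin k → F) (Z : R) :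
    E x y * (E x' y' * Z) = stB σ k y x' • (E x y' * Z) := by
  rw [← mul_assoc, hE.mul, smul_mul_assoc]

/-- The hypotheses on `𝒦`. -/
structure KSet (σ : F →+* F) (E : (Fin k → F) → (Fin k → F) → R) (K : AddSubgroup R) : Prop where
  scal : ∀ ρ : F, σ ρ = ρ → ∀ x ∈ K, ρ • x ∈ K
  tv : ∀ b : Fin k → F, stB σ k b b = 0 → ∀ l : F, l + σ l = 0 → ∀ x ∈ K, (1 + l • E b b) * x * (1 - l • E b b) ∈ K

/-- The case `q ≥ 3`. -/
theorem T_step_three (hσ : σ ≠ RingHom.id F) (hσ2 : ∀ x : F, σ (σ x) = x)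
    (hc : ∃ c : F, c ≠ 0 ∧ σ c * c ≠ 1) {E : (Fin k → F) → (Fin k → F) → R} {K : AddSubgroup R} (hK : KSet σ E K)
    {a : Fin k → F} (ha : stB σ k a a = 0) {x : R} (hx : x ∈ K) : E a a * x * E a a ∈ K := by
  obtain ⟨c, hc0, hc1⟩ := hc
  set ρ : F := σ c * c with hρ
  have hρ0 : ρ ≠ 0 := mul_ne_zero ((map_ne_zero σ).mpr hc0) hc0
  have hρσ : σ ρ = ρ := by rw [hρ, map_mul, hσ2, mul_comm]
  obtain ⟨l, hl0, hl⟩ := exists_skew hσ hσ2
  have hσl : σ l = -l := by linear_combination hl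
  have h1 := K.sub_mem (hK.tv a ha l hl x hx) hx
  have h2 := K.sub_mem (hK.tv a ha (ρ * l) (by rw [map_mul, hρσ, hσl]; ring) x hx) hx
  have h3 := K.sub_mem h2 (hK.scal ρ hρσ _ h1)
  have h4 : (1 + (ρ * l) • E a a) * x * (1 - (ρ * l) • E a a) - x - ρ • ((1 + l • E a a) * x * (1 - l • E a a) - x) =
      (-(ρ ^ 2 - ρ) * l ^ 2) • (E a a * x * E a a) := by
    simp only [add_mul, mul_sub, one_mul, mul_one, smul_mul_assoc, mul_smul_comm, smul_smul, smul_sub, smul_add]
    module
  rw [h4] at h3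
  set τ : F := -(ρ ^ 2 - ρ) * l ^ 2 with hτ
  have hτ0 : τ ≠ 0 := by
    refine mul_ne_zero (neg_ne_zero.mpr ?_) (pow_ne_zero 2 hl0)
    intro h5
    have h6 : ρ * (ρ - 1) = 0 := by linear_combination h5
    rcases mul_eq_zero.mp h6 with h7 | h7
    · exact hρ0 h7
    · exact hc1 (sub_eq_zero.mp h7)
  have hτσ : σ τ = τ := by
    rw [hτ, map_mul, map_neg, map_sub, map_pow, map_pow, hρσ, hσl]
    ring
  have h5 := hK.scal τ⁻¹ (by rw [map_inv₀, hτσ]) _ h3
  rwa [smul_smul, inv_mul_cancel₀ hτ0, one_smul] at h5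

/-- Second differences. -/
theorem T_second (hσ : σ ≠ RingHom.id F) (hσ2 : ∀ x : F, σ (σ x) = x)
    {E : (Fin k → F) → (Fin k → F) → R} (hE : EFam σ E) {K : AddSubgroup R} (hK : KSet σ E K)
    {a b : Fin k → F} (ha : stB σ k a a = 0) (hb : stB σ k b b = 0) (hab : stB σ k a b = 0) (hba : stB σ k b a = 0)
    {x : R} (hx : x ∈ K) : E a a * x * E b b + E b b * x * E a a ∈ K := by
  obtain ⟨l, hl0, hl⟩ := exists_skew hσ hσ2
  have hσl : σ l = -l := by linear_combination hl
  have h1 := K.sub_mem (hK.tv b hb l hl x hx) hx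
  have h2 := K.sub_mem (hK.tv a ha l hl _ h1) h1
  have h3 : (1 + l • E a a) * ((1 + l • E b b) * x * (1 - l • E b b) - x) * (1 - l • E a a) -
      ((1 + l • E b b) * x * (1 - l • E b b) - x) = (-l ^ 2) • (E a a * x * E b b + E b b * x * E a a) := by
    have e1 : E a a * E b b = 0 := by rw [hE.mul, hab, zero_smul]
    have e2 : E b b * E a a = 0 := by rw [hE.mul, hba, zero_smul]
    have e3 : ∀ Z : R, E a a * (E b b * Z) = 0 := fun Z => by rw [← mul_assoc, e1, zero_mul]
    simp only [add_mul, mul_sub, sub_mul, one_mul, mul_one, smul_mul_assoc, mul_smul_comm, smul_smul, smul_sub, smul_add,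
      mul_add, mul_assoc, e2, e3, mul_zero, smul_zero, add_zero, sub_zero]
    module
  rw [h3] at h2
  have hl2 : -l ^ 2 ≠ 0 := neg_ne_zero.mpr (pow_ne_zero 2 hl0)
  have h5 := hK.scal (-l ^ 2)⁻¹ (by rw [map_inv₀, map_neg, map_pow, hσl]; ring) _ h2
  rwa [smul_smul, inv_mul_cancel₀ hl2, one_smul] at h5

/-- Polarised second differences. -/
theorem T_polar (hσ : σ ≠ RingHom.id F) (hσ2 : ∀ x : F, σ (σ x) = x)
    {E : (Fin k → F) → (Fin k → F) → R} (hE : EFam σ E) {K : AddSubgroup R} (hK : KSet σ E K)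
    {a b : Fin k → F} (ha : stB σ k a a = 0) (hb : stB σ k b b = 0) (hab : stB σ k a b = 0) (hba : stB σ k b a = 0)
    (m : F) {x : R} (hx : x ∈ K) : m • (E a a * x * E a b + E a b * x * E a a) +
      σ m • (E a a * x * E b a + E b a * x * E a a) + (2 * (m * σ m)) • (E a a * x * E a a) ∈ K := by
  have h1 := T_second hσ hσ2 hE hK ha hb hab hba hx
  have h2 := T_second hσ hσ2 hE hK ha (b := b + m • a) (by
      simp only [map_add, LinearMap.add_apply, LinearMap.map_smulₛₗ₂, map_smul, smul_eq_mul, ha, hb, hab, hba]; ring) (by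
      simp only [map_add, map_smul, smul_eq_mul, ha, hab]; ring) (by
      simp only [map_add, LinearMap.add_apply, LinearMap.map_smulₛₗ₂, smul_eq_mul, ha, hba]; ring) hx
  have h3 := K.sub_mem h2 h1
  have h4 : E a a * x * E (b + m • a) (b + m • a) + E (b + m • a) (b + m • a) * x * E a a -
      (E a a * x * E b b + E b b * x * E a a) = m • (E a a * x * E a b + E a b * x * E a a) +
      σ m • (E a a * x * E b a + E b a * x * E a a) + (2 * (m * σ m)) • (E a a * x * E a a) := by
    simp only [hE.add_left, hE.add_right, hE.smul_left, hE.smul_right, mul_add, add_mul, smul_mul_assoc, mul_smul_comm,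
      smul_smul, smul_add]
    module
  rwa [h4] at h3

/-- The case `k ≥ 4`. -/
theorem T_step_four (hσ : σ ≠ RingHom.id F) (hσ2 : ∀ x : F, σ (σ x) = x)
    {E : (Fin k → F) → (Fin k → F) → R} (hE : EFam σ E) {K : AddSubgroup R} (hK : KSet σ E K)
    {a b c d : Fin k → F} (haa : stB σ k a a = 0) (hbb : stB σ k b b = 0) (hcc : stB σ k c c = 0) (hdd : stB σ k d d = 0)
    (hac : stB σ k a c = 1) (hbd : stB σ k b d = 1) (hab : stB σ k a b = 0) (had : stB σ k a d = 0)
    (hcb : stB σ k c b = 0) (hcd : stB σ k c d = 0) {x : R} (hx : x ∈ K) : E d a * x * E a d ∈ K := by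
  have hS := stB_symm hσ2 k
  have hba := symm_zero hS hab
  have hda := symm_zero hS had
  have hbc := symm_zero hS hcb
  have hdc := symm_zero hS hcd
  have hca : stB σ k c a = 1 := by rw [← hS.eq, hac, map_one]
  have hdb : stB σ k d b = 1 := by rw [← hS.eq, hbd, map_one]
  obtain ⟨m, hm⟩ := HermWitt.trace_surj σ hσ hσ2 1 (map_one σ)
  have h1 := T_polar hσ hσ2 hE hK haa hbb hab hba m hx
  have h2 := T_polar hσ hσ2 hE hK hdd hcc hdc hcd 1 h1
  have e1 : σ m = 1 - m := by linear_combination hm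
  convert h2 using 1
  simp only [mul_add, add_mul, smul_mul_assoc, mul_smul_comm, mul_assoc, hE.mul, hE.mul', hda, hdb, had, hbd, hca, hac,
    hcb, zero_smul, one_smul, smul_zero, mul_zero, add_zero, zero_add, map_one]
  rw [e1]
  module

end

end Cfsg.Agent.H881
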