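import Cfsg.Agent.H881.PA1

/-!
Part A: the set of `K`, commuting with the slot `i`, with `1 + K φ_w ∈ M`.
-/

set_option autoImplicit false
set_option linter.unusedSectionVars false

namespace Cfsg.Agent.H881

open Module Matrix Cfsg.Agent.ClassicalGeometry Cfsg.Agent.H880 Cfsg.Agent.H919

section

variable {F : Type*} [Field F] [Finite F] {σ : F →+* F} {k s : ℕ}

/-- `|x⟩⟨y|` as a matrix. -/
def ee (σ : F →+* F) (x y : Fin k → F) : Matrix (Fin k) (Fin k) F := vecMulVec x (σ ∘ y)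

theorem ee_mul (x y x' y' : Fin k → F) : ee σ x y * ee σ x' y' = stB σ k y x' • ee σ x y' := by
  unfold ee
  rw [Matrix.vecMulVec_mul_vecMulVec]
  ext i j
  simp only [vecMulVec_apply, Matrix.smul_apply, Pi.smul_apply, smul_eq_mul, Function.comp_apply]
  have h1 : (⇑σ ∘ y) ⬝ᵥ x' = stB σ k y x' := rfl
  rw [h1]
  ring

theorem ee_add_left (x x' y : Fin k → F) : ee σ (x + x') y = ee σ x y + ee σ x' y := Matrix.add_vecMulVec _ _ _

theorem ee_add_right (x y y' : Fin k → F) : ee σ x (y + y') = ee σ x y + ee σ x y' := by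
  unfold ee
  rw [← Matrix.vecMulVec_add]
  congr 1
  funext j
  exact map_add σ _ _

theorem ee_smul_left (c : F) (x y : Fin k → F) : ee σ (c • x) y = c • ee σ x y := Matrix.smul_vecMulVec _ _ _

theorem ee_smul_right (c : F) (x y : Fin k → F) : ee σ x (c • y) = σ c • ee σ x y := by
  unfold ee
  rw [← Matrix.vecMulVec_smul]
  congr 1
  funext j
  exact map_mul σ _ _

theorem eFam (i : Fin (s + 1)) : EFam σ (fun x y => (slotMat i (ee σ x y) :
    Matrix (Fin (s + 1) → Fin k) (Fin (s + 1) → Fin k) F)) where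
  mul x y x' y' := by rw [← slotMat_mul, ee_mul, slotMat_smul]
  add_left x x' y := by rw [ee_add_left, slotMat_add]
  add_right x y y' := by rw [ee_add_right, slotMat_add]
  smul_left c x y := by rw [ee_smul_left, slotMat_smul]
  smul_right c x y := by rw [ee_smul_right, slotMat_smul]

variable {M : Subgroup (Matrix.GeneralLinearGroup (Fin (s + 1) → Fin k) F)}

/-- `K` commutes with the slot `i` and `1 + K φ_w ∈ M`. -/
def KI (M : Subgroup (Matrix.GeneralLinearGroup (Fin (s + 1) → Fin k) F)) (σ : F →+* F) (i : Fin (s + 1))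
    (w : Fin k → F) (K : Matrix (Fin (s + 1) → Fin k) (Fin (s + 1) → Fin k) F) : Prop :=
  (∀ x, K * slotMat i x = slotMat i x * K) ∧
    ∃ g ∈ M, (g : Matrix (Fin (s + 1) → Fin k) (Fin (s + 1) → Fin k) F) = 1 + K * slotMat i (ee σ w w)

/-- Isometries of `F^k` of determinant one as elements of `M`. -/
theorem exists_slot (hM : OverT σ M) (m : Fin (s + 1)) {z : (Fin k → F) ≃ₗ[F] (Fin k → F)}
    (hz : ∀ x y, stB σ k (z x) (z y) = stB σ k x y) (hzd : LinearMap.det (z : (Fin k → F) →ₗ[F] (Fin k → F)) = 1) :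
    ∃ (A A' : Matrix (Fin k) (Fin k) F) (g : Matrix.GeneralLinearGroup (Fin (s + 1) → Fin k) F), g ∈ M ∧
      (g : Matrix (Fin (s + 1) → Fin k) (Fin (s + 1) → Fin k) F) = slotMat m A ∧
      ((g⁻¹ : Matrix.GeneralLinearGroup (Fin (s + 1) → Fin k) F) :
        Matrix (Fin (s + 1) → Fin k) (Fin (s + 1) → Fin k) F) = slotMat m A' ∧
      (∀ x y, A * ee σ x y = ee σ (z x) y) ∧ (∀ x y, ee σ x y * A' = ee σ x (z y)) ∧ A * A' = 1 ∧ A' * A = 1 := by
  have h1 : ∀ x, (LinearMap.toMatrix' (z : (Fin k → F) →ₗ[F] (Fin k → F))) *ᵥ x = z x := by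
    intro x
    rw [LinearMap.toMatrix'_mulVec]
    rfl
  set A := LinearMap.toMatrix' (z : (Fin k → F) →ₗ[F] (Fin k → F)) with hA
  have hu : (A.map σ)ᵀ * A = 1 := iso_unit (fun x y => by rw [h1, h1, hz])
  have hu' : A * (A.map σ)ᵀ = 1 := mul_eq_one_comm.mp hu
  obtain ⟨g, hg, hgA⟩ := hM.slot m A hu (by rw [hA, LinearMap.det_toMatrix', hzd])
  refine ⟨A, (A.map σ)ᵀ, g, hg, hgA, ?_, fun x y => ?_, fun x y => ?_, hu', hu⟩
  · have h2 : slotMat m ((A.map σ)ᵀ) * (g : Matrix (Fin (s + 1) → Fin k) (Fin (s + 1) → Fin k) F) = 1 := by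
      rw [hgA, ← slotMat_mul, hu, slotMat_one]
    calc ((g⁻¹ : Matrix.GeneralLinearGroup (Fin (s + 1) → Fin k) F) :
        Matrix (Fin (s + 1) → Fin k) (Fin (s + 1) → Fin k) F)
        = (slotMat m ((A.map σ)ᵀ) * (g : Matrix (Fin (s + 1) → Fin k) (Fin (s + 1) → Fin k) F)) *
          ((g⁻¹ : Matrix.GeneralLinearGroup (Fin (s + 1) → Fin k) F) :
            Matrix (Fin (s + 1) → Fin k) (Fin (s + 1) → Fin k) F) := by rw [h2, one_mul]
      _ = _ := by rw [mul_assoc, Units.mul_inv, mul_one]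
  · unfold ee
    rw [Matrix.mul_vecMulVec, h1]
  · unfold ee
    rw [Matrix.vecMulVec_mul, Matrix.vecMul_transpose]
    congr 1
    funext j
    rw [← h1]
    simp only [Matrix.mulVec, dotProduct, Function.comp_apply, map_sum, map_mul, Matrix.map_apply]

theorem KI.add {i : Fin (s + 1)} {w : Fin k → F} (hw : stB σ k w w = 0)
    {K K' : Matrix (Fin (s + 1) → Fin k) (Fin (s + 1) → Fin k) F} (h : KI M σ i w K) (h' : KI M σ i w K') :
    KI M σ i w (K + K') := by
  obtain ⟨h1, g, hg, hgK⟩ := h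
  obtain ⟨h1', g', hg', hgK'⟩ := h'
  refine ⟨fun x => by rw [add_mul, mul_add, h1, h1'], g * g', M.mul_mem hg hg', ?_⟩
  have h0 : slotMat i (ee σ w w) * slotMat i (ee σ w w) =
      (0 : Matrix (Fin (s + 1) → Fin k) (Fin (s + 1) → Fin k) F) := by
    rw [(eFam (σ := σ) i).mul, hw, zero_smul]
  have h2 : (K * slotMat i (ee σ w w)) * (K' * slotMat i (ee σ w w)) = 0 := by
    rw [mul_assoc, ← mul_assoc (slotMat i (ee σ w w)) K', ← h1', mul_assoc K', h0, mul_zero, mul_zero]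
  rw [Units.val_mul, hgK, hgK', add_mul, mul_add, mul_add, h2, one_mul, mul_one, one_mul, add_zero, add_mul]
  abel

theorem KI.neg {i : Fin (s + 1)} {w : Fin k → F} (hw : stB σ k w w = 0)
    {K : Matrix (Fin (s + 1) → Fin k) (Fin (s + 1) → Fin k) F} (h : KI M σ i w K) : KI M σ i w (-K) := by
  obtain ⟨h1, g, hg, hgK⟩ := h
  refine ⟨fun x => by rw [neg_mul, mul_neg, h1], g⁻¹, M.inv_mem hg, ?_⟩
  have h0 : slotMat i (ee σ w w) * slotMat i (ee σ w w) =
      (0 : Matrix (Fin (s + 1) → Fin k) (Fin (s + 1) → Fin k) F) := by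
    rw [(eFam (σ := σ) i).mul, hw, zero_smul]
  have h2 : (K * slotMat i (ee σ w w)) * (K * slotMat i (ee σ w w)) = 0 := by
    rw [mul_assoc, ← mul_assoc (slotMat i (ee σ w w)) K, ← h1, mul_assoc K, h0, mul_zero, mul_zero]
  have h3 : (1 + -K * slotMat i (ee σ w w)) * (g : Matrix (Fin (s + 1) → Fin k) (Fin (s + 1) → Fin k) F) = 1 := by
    rw [hgK, neg_mul, add_mul, mul_add, one_mul, one_mul, neg_mul, mul_add, h2, mul_one]
    simp
  calc ((g⁻¹ : Matrix.GeneralLinearGroup (Fin (s + 1) → Fin k) F) :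
      Matrix (Fin (s + 1) → Fin k) (Fin (s + 1) → Fin k) F)
      = ((1 + -K * slotMat i (ee σ w w)) * (g : Matrix (Fin (s + 1) → Fin k) (Fin (s + 1) → Fin k) F)) *
        ((g⁻¹ : Matrix.GeneralLinearGroup (Fin (s + 1) → Fin k) F) :
          Matrix (Fin (s + 1) → Fin k) (Fin (s + 1) → Fin k) F) := by rw [h3, one_mul]
    _ = _ := by rw [mul_assoc, Units.mul_inv, mul_one]

theorem KI.zero {i : Fin (s + 1)} {w : Fin k → F} : KI M σ i w 0 :=
  ⟨fun x => by rw [zero_mul, mul_zero], 1, M.one_mem, by rw [zero_mul, add_zero, Units.val_one]⟩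

/-- Conjugation by elements of the slot `i` itself. -/
theorem KI.move (hM : OverT σ M) {i : Fin (s + 1)} {w : Fin k → F}
    {K : Matrix (Fin (s + 1) → Fin k) (Fin (s + 1) → Fin k) F} (h : KI M σ i w K)
    {z : (Fin k → F) ≃ₗ[F] (Fin k → F)} (hz : ∀ x y, stB σ k (z x) (z y) = stB σ k x y)
    (hzd : LinearMap.det (z : (Fin k → F) →ₗ[F] (Fin k → F)) = 1) : KI M σ i (z w) K := by
  obtain ⟨A, A', a, ha, haA, haA', hA, hA', hAA', _⟩ := exists_slot hM i hz hzd
  obtain ⟨h1, g, hg, hgK⟩ := h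
  refine ⟨h1, a * g * a⁻¹, M.mul_mem (M.mul_mem ha hg) (M.inv_mem ha), ?_⟩
  rw [Units.val_mul, Units.val_mul, haA, haA', hgK, mul_add, add_mul, mul_one, ← slotMat_mul, hAA', slotMat_one,
    ← mul_assoc, ← h1, mul_assoc, mul_assoc, ← slotMat_mul, ← slotMat_mul, hA', hA]

theorem KI.scal (hσ : σ ≠ RingHom.id F) (hσ2 : ∀ x : F, σ (σ x) = x) (hk : 3 ≤ k) (hM : OverT σ M)
    {i : Fin (s + 1)} {w : Fin k → F} (hw0 : w ≠ 0) (hw : stB σ k w w = 0)
    {K : Matrix (Fin (s + 1) → Fin k) (Fin (s + 1) → Fin k) F} (h : KI M σ i w K) {ρ : F} (hρ : σ ρ = ρ) :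
    KI M σ i w (ρ • K) := by
  by_cases hρ0 : ρ = 0
  · rw [hρ0, zero_smul]
    exact KI.zero
  obtain ⟨c, hc0, hc⟩ := HermWitt.norm_surj σ hσ hσ2 ρ hρ hρ0
  obtain ⟨z, hz, hzd, hzw⟩ := exists_su hσ hσ2 hk hw0 (smul_ne_zero hc0 hw0) (by
    rw [LinearMap.map_smulₛₗ₂, map_smul, hw, smul_zero, smul_zero])
  obtain ⟨h1, g, hg, hgK⟩ := h.move hM hz hzd
  refine ⟨fun x => by rw [Matrix.smul_mul, h1, Matrix.mul_smul], g, hg, ?_⟩
  rw [hgK, hzw, ee_smul_left, ee_smul_right, smul_smul, slotMat_smul, Matrix.mul_smul, Matrix.smul_mul, hc]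

/-- Conjugation by elements of the other slots. -/
theorem KI.conj (hM : OverT σ M) {i m : Fin (s + 1)} (hmi : m ≠ i) {w : Fin k → F}
    {K : Matrix (Fin (s + 1) → Fin k) (Fin (s + 1) → Fin k) F} (h : KI M σ i w K)
    {z : (Fin k → F) ≃ₗ[F] (Fin k → F)} (hz : ∀ x y, stB σ k (z x) (z y) = stB σ k x y)
    (hzd : LinearMap.det (z : (Fin k → F) →ₗ[F] (Fin k → F)) = 1) :
    ∃ A A' : Matrix (Fin k) (Fin k) F, (∀ x y, A * ee σ x y = ee σ (z x) y) ∧ (∀ x y, ee σ x y * A' = ee σ x (z y)) ∧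
      KI M σ i w (slotMat m A * K * slotMat m A') := by
  obtain ⟨A, A', a, ha, haA, haA', hA, hA', hAA', _⟩ := exists_slot hM m hz hzd
  obtain ⟨h1, g, hg, hgK⟩ := h
  refine ⟨A, A', hA, hA', fun x => ?_, a * g * a⁻¹, M.mul_mem (M.mul_mem ha hg) (M.inv_mem ha), ?_⟩
  · have e1 : slotMat m A' * slotMat i x = slotMat i x * slotMat m A' := slotMat_commute hmi A' x
    have e2 : slotMat m A * slotMat i x = slotMat i x * slotMat m A := slotMat_commute hmi A x
    rw [mul_assoc, mul_assoc, e1, ← mul_assoc K, h1, mul_assoc (slotMat i x) K, ← mul_assoc (slotMat m A), e2,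
      mul_assoc (slotMat i x), mul_assoc (slotMat m A)]
  · have e1 : slotMat i (ee σ w w) * slotMat m A' = slotMat m A' * slotMat i (ee σ w w) := slotMat_commute (Ne.symm hmi) _ _
    rw [Units.val_mul, Units.val_mul, haA, haA', hgK, mul_add, add_mul, mul_one, ← slotMat_mul, hAA', slotMat_one,
      mul_assoc (slotMat m A), mul_assoc K, e1]
    simp only [mul_assoc]

/-- The additive group of the `K`. -/
def KIgrp (M : Subgroup (Matrix.GeneralLinearGroup (Fin (s + 1) → Fin k) F)) (σ : F →+* F) (i : Fin (s + 1))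
    {w : Fin k → F} (hw : stB σ k w w = 0) : AddSubgroup (Matrix (Fin (s + 1) → Fin k) (Fin (s + 1) → Fin k) F) where
  carrier := {K | KI M σ i w K}
  zero_mem' := KI.zero
  add_mem' h h' := h.add hw h'
  neg_mem' h := h.neg hw

theorem KIset (hσ : σ ≠ RingHom.id F) (hσ2 : ∀ x : F, σ (σ x) = x) (hk : 3 ≤ k) (hM : OverT σ M)
    {i m : Fin (s + 1)} (hmi : m ≠ i) {w : Fin k → F} (hw0 : w ≠ 0) (hw : stB σ k w w = 0) :
    KSet σ (fun x y => (slotMat m (ee σ x y) : Matrix (Fin (s + 1) → Fin k) (Fin (s + 1) → Fin k) F))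
      (KIgrp M σ i hw) where
  scal ρ hρ x hx := KI.scal hσ hσ2 hk hM hw0 hw hx hρ
  tv b hb l hl x hx := by
    obtain ⟨h1, h2, _⟩ := tv_mat hσ2 hb hl
    have h3 : (1 + l • ee σ b b : Matrix (Fin k) (Fin k) F) * (1 - l • ee σ b b) = 1 := by
      have h5 : ee σ b b * ee σ b b = 0 := by rw [ee_mul, hb, zero_smul]
      rw [mul_sub, mul_one, add_mul, one_mul, Matrix.smul_mul, Matrix.mul_smul, h5, smul_zero, smul_zero, add_zero]
      abel
    obtain ⟨a, ha, haA⟩ := hM.slot m _ h1 h2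
    have haA' : ((a⁻¹ : Matrix.GeneralLinearGroup (Fin (s + 1) → Fin k) F) :
        Matrix (Fin (s + 1) → Fin k) (Fin (s + 1) → Fin k) F) = slotMat m (1 - l • ee σ b b) := by
      have h4 : (a : Matrix (Fin (s + 1) → Fin k) (Fin (s + 1) → Fin k) F) * slotMat m (1 - l • ee σ b b) = 1 := by
        rw [haA, ← slotMat_mul]
        show slotMat m ((1 + l • ee σ b b) * (1 - l • ee σ b b)) = 1
        rw [h3, slotMat_one]
      calc ((a⁻¹ : Matrix.GeneralLinearGroup (Fin (s + 1) → Fin k) F) :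
          Matrix (Fin (s + 1) → Fin k) (Fin (s + 1) → Fin k) F)
          = ((a⁻¹ : Matrix.GeneralLinearGroup (Fin (s + 1) → Fin k) F) :
            Matrix (Fin (s + 1) → Fin k) (Fin (s + 1) → Fin k) F) *
            ((a : Matrix (Fin (s + 1) → Fin k) (Fin (s + 1) → Fin k) F) * slotMat m (1 - l • ee σ b b)) := by
              rw [h4, mul_one]
        _ = _ := by rw [← mul_assoc, Units.inv_mul, one_mul]
    obtain ⟨hx1, g, hg, hgK⟩ := hx
    have e0 : (1 + l • slotMat m (ee σ b b) : Matrix (Fin (s + 1) → Fin k) (Fin (s + 1) → Fin k) F) =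
        slotMat m (1 + l • ee σ b b) := by rw [slotMat_add, slotMat_one, slotMat_smul]
    have e0' : (1 - l • slotMat m (ee σ b b) : Matrix (Fin (s + 1) → Fin k) (Fin (s + 1) → Fin k) F) =
        slotMat m (1 - l • ee σ b b) := by
      have : (1 - l • ee σ b b : Matrix (Fin k) (Fin k) F) = 1 + (-l) • ee σ b b := by rw [neg_smul]; abel
      rw [this, slotMat_add, slotMat_one, slotMat_smul, neg_smul]
      abel
    show KI M σ i w ((1 + l • slotMat m (ee σ b b)) * x * (1 - l • slotMat m (ee σ b b)))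
    rw [e0, e0']
    set A := (1 + l • ee σ b b : Matrix (Fin k) (Fin k) F)
    set A' := (1 - l • ee σ b b : Matrix (Fin k) (Fin k) F)
    refine ⟨fun y => ?_, a * g * a⁻¹, M.mul_mem (M.mul_mem ha hg) (M.inv_mem ha), ?_⟩
    · have e1 : slotMat m A' * slotMat i y = slotMat i y * slotMat m A' := slotMat_commute hmi A' y
      have e2 : slotMat m A * slotMat i y = slotMat i y * slotMat m A := slotMat_commute hmi A y
      rw [mul_assoc, mul_assoc, e1, ← mul_assoc x, hx1, mul_assoc (slotMat i y) x, ← mul_assoc (slotMat m A), e2,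
        mul_assoc (slotMat i y), mul_assoc (slotMat m A)]
    · have e1 : slotMat i (ee σ w w) * slotMat m A' = slotMat m A' * slotMat i (ee σ w w) :=
        slotMat_commute (Ne.symm hmi) _ _
      have haA2 : (a : Matrix (Fin (s + 1) → Fin k) (Fin (s + 1) → Fin k) F) = slotMat m A := haA
      rw [Units.val_mul, Units.val_mul, haA2, haA', hgK, mul_add, add_mul, mul_one, ← slotMat_mul, h3, slotMat_one,
        mul_assoc (slotMat m A), mul_assoc x, e1]
      simp only [mul_assoc]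

/-- **The basic step in slots.** -/
theorem KI.step (hσ : σ ≠ RingHom.id F) (hσ2 : ∀ x : F, σ (σ x) = x) (hk : 3 ≤ k)
    (hqk : 4 ≤ k ∨ ∃ c : F, c ≠ 0 ∧ σ c * c ≠ 1) (hM : OverT σ M)
    {i m : Fin (s + 1)} (hmi : m ≠ i) {w : Fin k → F} (hw0 : w ≠ 0) (hw : stB σ k w w = 0)
    {K : Matrix (Fin (s + 1) → Fin k) (Fin (s + 1) → Fin k) F} (h : KI M σ i w K)
    {b d : Fin k → F} (hb0 : b ≠ 0) (hb : stB σ k b b = 0) (hd0 : d ≠ 0) (hd : stB σ k d d = 0) :
    KI M σ i w (slotMat m (ee σ d b) * K * slotMat m (ee σ b d)) := by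
  have hS := stB_symm hσ2 k
  have hset := KIset hσ hσ2 hk hM hmi hw0 hw
  have hK : K ∈ KIgrp M σ i hw := h
  obtain ⟨d₀, hd₀0, hd₀, h1⟩ : ∃ d₀ : Fin k → F, d₀ ≠ 0 ∧ stB σ k d₀ d₀ = 0 ∧
      KI M σ i w (slotMat m (ee σ d₀ b) * K * slotMat m (ee σ b d₀)) := by
    rcases hqk with h4 | hc
    · -- four dimensions
      obtain ⟨c, hbc, hcc⟩ := exists_partner_std hσ hσ2 hb0 hb
      have hcb : stB σ k c b = 1 := by rw [← hS.eq, hbc, map_one]
      have hdim := finrank_perp_range (B := stB σ k) ![b, c]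
      rw [Fintype.card_fin, finrank_fin_fun] at hdim
      obtain ⟨f, hf, hf0, hff⟩ := exists_isotropic (B := stB σ k) hσ hσ2 hS (perp (stB σ k) (Set.range ![b, c]))
        (by omega)
      have hbf : stB σ k b f = 0 := hf _ ⟨0, rfl⟩
      have hcf : stB σ k c f = 0 := hf _ ⟨1, rfl⟩
      have hfb := symm_zero hS hbf
      have hfc := symm_zero hS hcf
      obtain ⟨z, hz⟩ : ∃ z, stB σ k f z ≠ 0 := by
        by_contra h
        push Not at h
        exact hf0 (stB_sepLeft k f h)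
      obtain ⟨z', hz'1, hz'2, hz'3⟩ : ∃ z', stB σ k b z' = 0 ∧ stB σ k c z' = 0 ∧ stB σ k f z' ≠ 0 := by
        refine ⟨z - stB σ k c z • b - stB σ k b z • c, ?_, ?_, ?_⟩
        · simp only [map_sub, map_smul, hb, hbc, smul_eq_mul]; ring
        · simp only [map_sub, map_smul, hcc, hcb, smul_eq_mul]; ring
        · simp only [map_sub, map_smul, hfb, hfc, smul_eq_mul, mul_zero, sub_zero]; exact hz
      obtain ⟨r, r', h5, h6⟩ := exists_partner hσ hσ2 hS hff hz'3
      set d := r • z' + r' • f with hd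
      have hbd : stB σ k b d = 0 := by rw [hd, map_add, map_smul, map_smul, hz'1, hbf, smul_zero, smul_zero, add_zero]
      have hcd : stB σ k c d = 0 := by rw [hd, map_add, map_smul, map_smul, hz'2, hcf, smul_zero, smul_zero, add_zero]
      refine ⟨d, ?_, h6, ?_⟩
      · intro h7
        rw [h7, map_zero] at h5
        exact zero_ne_one h5
      · exact T_step_four hσ hσ2 (eFam m) hset (a := b) (b := f) (c := c) (d := d) hb hff hcc h6 hbc h5 hbf hbd hcf hcd hK
    · exact ⟨b, hb0, hb, T_step_three hσ hσ2 hc hset hb hK⟩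
  obtain ⟨z, hz, hzd, hzw⟩ := exists_su hσ hσ2 hk hd₀0 hd0 (by rw [hd₀, hd])
  obtain ⟨A, A', hA, hA', h2⟩ := h1.conj hM hmi hz hzd
  have h3 : slotMat m A * (slotMat m (ee σ d₀ b) * K * slotMat m (ee σ b d₀)) * slotMat m A' =
      slotMat m (ee σ d b) * K * slotMat m (ee σ b d) := by
    have e1 : slotMat m A * (slotMat m (ee σ d₀ b) * K * slotMat m (ee σ b d₀)) * slotMat m A' =
        (slotMat m A * slotMat m (ee σ d₀ b)) * K * (slotMat m (ee σ b d₀) * slotMat m A') := by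
      simp only [mul_assoc]
    rw [e1, ← slotMat_mul, ← slotMat_mul, hA, hA', hzw]
  rwa [h3] at h2

end

end Cfsg.Agent.H881
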