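import Cfsg.Agent.H881.PureS

/-!
Part A: contraction of an operator along a slot.
-/

set_option autoImplicit false
set_option linter.unusedSectionVars false

namespace Cfsg.Agent.H881

open Module Matrix Cfsg.Agent.ClassicalGeometry Cfsg.Agent.H880 Cfsg.Agent.H919

section Entries

variable {F : Type*} [Field F] {k t : ℕ}

theorem slotMat_update (m : Fin t) (x : Matrix (Fin k) (Fin k) F) (f : Fin t → Fin k) (c : Fin k) :
    slotMat m x f (Function.update f m c) = x (f m) c := by
  rw [slotMat, pureMat_apply, ← Finset.mul_prod_erase _ _ (Finset.mem_univ m), Function.update_self,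
    Function.update_self, Finset.prod_eq_one, mul_one]
  intro j hj
  have hjm := Finset.ne_of_mem_erase hj
  rw [Function.update_of_ne hjm, Function.update_of_ne hjm, Matrix.one_apply_eq]

theorem slotMat_update' (m : Fin t) (x : Matrix (Fin k) (Fin k) F) (g : Fin t → Fin k) (c : Fin k) :
    slotMat m x (Function.update g m c) g = x c (g m) := by
  rw [slotMat, pureMat_apply, ← Finset.mul_prod_erase _ _ (Finset.mem_univ m), Function.update_self,
    Function.update_self, Finset.prod_eq_one, mul_one]
  intro j hj
  have hjm := Finset.ne_of_mem_erase hj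
  rw [Function.update_of_ne hjm, Function.update_of_ne hjm, Matrix.one_apply_eq]

theorem slotMat_eq_zero (m : Fin t) (x : Matrix (Fin k) (Fin k) F) {f g : Fin t → Fin k} {j : Fin t} (hj : j ≠ m)
    (hfg : f j ≠ g j) : slotMat m x f g = 0 := by
  rw [slotMat, pureMat_apply]
  exact Finset.prod_eq_zero (Finset.mem_univ j) (by rw [Function.update_of_ne hj, Matrix.one_apply_ne hfg])

theorem exists_ne_of_not_range (m : Fin t) {f h : Fin t → Fin k} (hh : h ∉ Set.range fun c => Function.update f m c) :
    ∃ j, j ≠ m ∧ f j ≠ h j := by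
  by_contra hcon
  push Not at hcon
  refine hh ⟨h m, funext fun j => ?_⟩
  by_cases hj : j = m
  · subst hj
    exact Function.update_self ..
  · show Function.update f m (h m) j = h j
    rw [Function.update_of_ne hj, hcon j hj]

theorem slotMat_mul_apply (m : Fin t) (x : Matrix (Fin k) (Fin k) F) (L : Matrix (Fin t → Fin k) (Fin t → Fin k) F)
    (f g : Fin t → Fin k) : (slotMat m x * L) f g = ∑ c, x (f m) c * L (Function.update f m c) g := by
  rw [Matrix.mul_apply]
  refine (Fintype.sum_of_injective (fun c => Function.update f m c) (Function.update_injective f m) _ _ ?_ ?_).symm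
  · intro h hh
    obtain ⟨j, hj, hfj⟩ := exists_ne_of_not_range m hh
    rw [slotMat_eq_zero m x hj hfj, zero_mul]
  · intro c
    rw [slotMat_update]

theorem mul_slotMat_apply (m : Fin t) (x : Matrix (Fin k) (Fin k) F) (L : Matrix (Fin t → Fin k) (Fin t → Fin k) F)
    (f g : Fin t → Fin k) : (L * slotMat m x) f g = ∑ c, L f (Function.update g m c) * x c (g m) := by
  rw [Matrix.mul_apply]
  refine (Fintype.sum_of_injective (fun c => Function.update g m c) (Function.update_injective g m) _ _ ?_ ?_).symm
  · intro h hh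
    obtain ⟨j, hj, hfj⟩ := exists_ne_of_not_range m hh
    rw [slotMat_eq_zero m x hj (Ne.symm hfj), mul_zero]
  · intro c
    rw [slotMat_update']

end Entries

section Ctr

variable {F : Type*} [Field F] [Finite F] {σ : F →+* F} {k t : ℕ}

theorem slotMat_sum {ι : Type*} (S : Finset ι) (m : Fin t) (x : ι → Matrix (Fin k) (Fin k) F) :
    slotMat m (∑ j ∈ S, x j) = ∑ j ∈ S, slotMat m (x j) := by
  have := map_sum (slotEmb (F := F) (m := k) m) x S
  simpa only [slotEmb_apply] using this

theorem sum_ee_right (b v : Fin k → F) :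
    ∑ j, stB σ k v (Pi.single j 1) • ee σ b (Pi.single j (1 : F) : Fin k → F) = ee σ b v := by
  ext p q
  rw [Matrix.sum_apply, Finset.sum_eq_single q]
  · rw [stB_single_right, Matrix.smul_apply]
    simp only [ee, vecMulVec_apply, Function.comp_apply, Pi.single_eq_same, map_one, mul_one, smul_eq_mul]
    exact mul_comm _ _
  · intro j _ hj
    rw [Matrix.smul_apply]
    simp only [ee, vecMulVec_apply, Function.comp_apply, Pi.single_eq_of_ne (Ne.symm hj), map_zero, mul_zero, smul_zero]
  · intro h; exact absurd (Finset.mem_univ _) h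

theorem sum_ee_left (b u : Fin k → F) :
    ∑ j, stB σ k (Pi.single j 1) u • ee σ (Pi.single j (1 : F) : Fin k → F) b = ee σ u b := by
  ext p q
  rw [Matrix.sum_apply, Finset.sum_eq_single p]
  · rw [stB_single_left, Matrix.smul_apply]
    simp only [ee, vecMulVec_apply, Function.comp_apply, Pi.single_eq_same, one_mul, smul_eq_mul]
  · intro j _ hj
    rw [Matrix.smul_apply]
    simp only [ee, vecMulVec_apply, Function.comp_apply, Pi.single_eq_of_ne (Ne.symm hj), zero_mul, smul_zero]
  · intro h; exact absurd (Finset.mem_univ _) h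

theorem sum_ee (x : Matrix (Fin k) (Fin k) F) :
    ∑ j, ee σ (x *ᵥ (Pi.single j 1)) (Pi.single j (1 : F) : Fin k → F) = x := by
  ext p q
  rw [Matrix.sum_apply, Finset.sum_eq_single q]
  · simp only [ee, vecMulVec_apply, Function.comp_apply, Pi.single_eq_same, map_one, mul_one,
      Matrix.mulVec_single_one, Matrix.col_apply]
  · intro j _ hj
    simp only [ee, vecMulVec_apply, Function.comp_apply, Pi.single_eq_of_ne (Ne.symm hj), map_zero, mul_zero]
  · intro h; exact absurd (Finset.mem_univ _) h

/-- Contraction of `L` along the slot `m`. -/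
def ctr (σ : F →+* F) (m : Fin t) (b b' : Fin k → F) (L : Matrix (Fin t → Fin k) (Fin t → Fin k) F) :
    Matrix (Fin t → Fin k) (Fin t → Fin k) F :=
  ∑ j, slotMat m (ee σ (Pi.single j 1) b) * L * slotMat m (ee σ b' (Pi.single j 1))

theorem ee_mul_ctr (m : Fin t) (b b' u v : Fin k → F) (L : Matrix (Fin t → Fin k) (Fin t → Fin k) F) :
    slotMat m (ee σ u v) * ctr σ m b b' L = slotMat m (ee σ u b) * L * slotMat m (ee σ b' v) := by
  unfold ctr
  rw [Finset.mul_sum]
  calc ∑ j, slotMat m (ee σ u v) * (slotMat m (ee σ (Pi.single j 1) b) * L * slotMat m (ee σ b' (Pi.single j 1)))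
      = ∑ j, slotMat m (ee σ u b) * L * slotMat m (stB σ k v (Pi.single j 1) • ee σ b' (Pi.single j (1 : F) : Fin k → F)) := by
        refine Finset.sum_congr rfl fun j _ => ?_
        rw [mul_assoc (slotMat m (ee σ (Pi.single j 1) b)), ← mul_assoc, ← slotMat_mul, ee_mul, slotMat_smul,
          slotMat_smul, Matrix.smul_mul, Matrix.mul_smul, mul_assoc]
    _ = _ := by rw [← Finset.mul_sum, ← slotMat_sum, sum_ee_right]

theorem ctr_mul_ee (m : Fin t) (b b' u v : Fin k → F) (L : Matrix (Fin t → Fin k) (Fin t → Fin k) F) :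
    ctr σ m b b' L * slotMat m (ee σ u v) = slotMat m (ee σ u b) * L * slotMat m (ee σ b' v) := by
  unfold ctr
  rw [Finset.sum_mul]
  calc ∑ j, slotMat m (ee σ (Pi.single j 1) b) * L * slotMat m (ee σ b' (Pi.single j 1)) * slotMat m (ee σ u v)
      = ∑ j, slotMat m (stB σ k (Pi.single j 1) u • ee σ (Pi.single j (1 : F) : Fin k → F) b) *
        (L * slotMat m (ee σ b' v)) := by
        refine Finset.sum_congr rfl fun j _ => ?_
        rw [mul_assoc, ← slotMat_mul, ee_mul, slotMat_smul, slotMat_smul, Matrix.smul_mul, Matrix.mul_smul, mul_assoc]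
    _ = _ := by rw [← Finset.sum_mul, ← slotMat_sum, sum_ee_left, mul_assoc]

theorem comm_of_ee (m : Fin t) {L : Matrix (Fin t → Fin k) (Fin t → Fin k) F}
    (h : ∀ u v, L * slotMat m (ee σ u v) = slotMat m (ee σ u v) * L) (x : Matrix (Fin k) (Fin k) F) :
    L * slotMat m x = slotMat m x * L := by
  rw [← sum_ee (σ := σ) x, slotMat_sum, Finset.mul_sum, Finset.sum_mul]
  exact Finset.sum_congr rfl fun j _ => h _ _

theorem ctr_comm (m : Fin t) (b b' : Fin k → F) (L : Matrix (Fin t → Fin k) (Fin t → Fin k) F)
    (x : Matrix (Fin k) (Fin k) F) : ctr σ m b b' L * slotMat m x = slotMat m x * ctr σ m b b' L := by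
  apply comm_of_ee (σ := σ) m
  intro u v
  rw [ee_mul_ctr, ctr_mul_ee]

theorem ctr_comm_other {m j : Fin t} (hmj : m ≠ j) (b b' : Fin k → F) {L : Matrix (Fin t → Fin k) (Fin t → Fin k) F}
    (h : ∀ x, L * slotMat j x = slotMat j x * L) (x : Matrix (Fin k) (Fin k) F) :
    ctr σ m b b' L * slotMat j x = slotMat j x * ctr σ m b b' L := by
  have h1 : Commute (slotMat j x) (ctr σ m b b' L) := by
    refine Commute.sum_right _ _ _ fun i _ => ?_
    refine Commute.mul_right (Commute.mul_right (slotMat_commute (Ne.symm hmj) _ _) ?_) (slotMat_commute (Ne.symm hmj) _ _)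
    exact (h x).symm
  exact h1.symm

/-- **Scalar lemma.** -/
theorem comm_of_ctr (hσ : σ ≠ RingHom.id F) (hσ2 : ∀ x : F, σ (σ x) = x) (m : Fin t)
    {L : Matrix (Fin t → Fin k) (Fin t → Fin k) F}
    (h : ∀ b, stB σ k b b = 0 → ctr σ m b b L = 0) (x : Matrix (Fin k) (Fin k) F) :
    L * slotMat m x = slotMat m x * L := by
  have h1 : ∀ f g : Fin t → Fin k, ∃ c : F, ∀ p q, L (Function.update f m p) (Function.update g m q) =
      if p = q then c else 0 := by
    intro f g
    obtain ⟨c, hc⟩ := scalar_of_isotropic hσ hσ2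
      (Matrix.mulVecLin (Matrix.of fun p q => L (Function.update f m p) (Function.update g m q)))
      (fun b hb => by
        have h2 : (slotMat m (ee σ (fun _ => (1 : F)) b) * L * slotMat m (ee σ b (fun _ => (1 : F)))) f g = 0 := by
          rw [← ee_mul_ctr, h b hb, mul_zero]
          rfl
        rw [mul_slotMat_apply] at h2
        rw [stB_apply]
        simp only [slotMat_mul_apply] at h2
        simp only [ee, vecMulVec_apply, Function.comp_apply, map_one, mul_one, one_mul, Finset.sum_mul] at h2
        rw [Finset.sum_comm] at h2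
        rw [← h2]
        refine Finset.sum_congr rfl fun p _ => ?_
        rw [Matrix.mulVecLin_apply]
        show σ (b p) * ∑ q, L (Function.update f m p) (Function.update g m q) * b q = _
        rw [Finset.mul_sum]
        refine Finset.sum_congr rfl fun q _ => ?_
        ring)
    refine ⟨c, fun p q => ?_⟩
    have h3 := congrFun (hc (Pi.single q 1)) p
    rw [Matrix.mulVecLin_apply, Matrix.mulVec_single_one] at h3
    rw [show L (Function.update f m p) (Function.update g m q) =
      (Matrix.of fun p q => L (Function.update f m p) (Function.update g m q)).col q p from rfl, h3, Pi.smul_apply,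
      smul_eq_mul, Pi.single_apply]
    split_ifs <;> simp
  ext f g
  obtain ⟨c, hc⟩ := h1 f g
  rw [mul_slotMat_apply, slotMat_mul_apply]
  have e1 : ∀ q, L f (Function.update g m q) = if f m = q then c else 0 := by
    intro q
    have := hc (f m) q
    rwa [Function.update_eq_self] at this
  have e2 : ∀ p, L (Function.update f m p) g = if p = g m then c else 0 := by
    intro p
    have := hc p (g m)
    rwa [Function.update_eq_self m g] at this
  simp only [e1, e2]
  simp [mul_comm]

end Ctr

end Cfsg.Agent.H881
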