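import Cfsg.Agent.H881.PA3

/-!
Part A, first half: if the layer is not scalar then `M` contains `1 + c φ ⊗ ⋯` over at least two slots.
-/

set_option autoImplicit false
set_option linter.unusedSectionVars false

namespace Cfsg.Agent.H881

open Module Matrix Cfsg.Agent.ClassicalGeometry Cfsg.Agent.H880 Cfsg.Agent.H919

section PS

variable {F : Type*} [Field F] [Finite F] {σ : F →+* F} {k t : ℕ}

theorem slot_mul_pureMat (m : Fin t) (x : Matrix (Fin k) (Fin k) F) (D : Fin t → Matrix (Fin k) (Fin k) F) :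
    slotMat m x * pureMat D = pureMat (Function.update D m (x * D m)) := by
  rw [slotMat, pureMat_mul]
  congr 1
  funext j
  by_cases hj : j = m
  · subst hj
    rw [Function.update_self, Function.update_self]
  · rw [Function.update_of_ne hj, Function.update_of_ne hj, one_mul]

theorem pureMat_mul_slot (m : Fin t) (x : Matrix (Fin k) (Fin k) F) (D : Fin t → Matrix (Fin k) (Fin k) F) :
    pureMat D * slotMat m x = pureMat (Function.update D m (D m * x)) := by
  rw [slotMat, pureMat_mul]
  congr 1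
  funext j
  by_cases hj : j = m
  · subst hj
    rw [Function.update_self, Function.update_self]
  · rw [Function.update_of_ne hj, Function.update_of_ne hj, mul_one]

theorem pureMat_slot_comm {m : Fin t} {D : Fin t → Matrix (Fin k) (Fin k) F} (hD : D m = 1)
    (x : Matrix (Fin k) (Fin k) F) : pureMat D * slotMat m x = slotMat m x * pureMat D := by
  rw [slot_mul_pureMat, pureMat_mul_slot, hD, mul_one, one_mul]

/-- `φ_{v_j}` in the slots `j ∈ S`. -/
def pS (σ : F →+* F) (S : Finset (Fin t)) (v : Fin t → Fin k → F) : Matrix (Fin t → Fin k) (Fin t → Fin k) F :=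
  pureMat (fun j => if j ∈ S then ee σ (v j) (v j) else 1)

theorem pS_congr {S : Finset (Fin t)} {v v' : Fin t → Fin k → F} (h : ∀ j ∈ S, v j = v' j) : pS σ S v = pS σ S v' := by
  unfold pS
  congr 1
  funext j
  by_cases hj : j ∈ S
  · rw [if_pos hj, if_pos hj, h j hj]
  · rw [if_neg hj, if_neg hj]

theorem pS_comm {S : Finset (Fin t)} {m : Fin t} (hm : m ∉ S) (v : Fin t → Fin k → F) (x : Matrix (Fin k) (Fin k) F) :
    pS σ S v * slotMat m x = slotMat m x * pS σ S v := pureMat_slot_comm (if_neg hm) x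

theorem pS_insert {S : Finset (Fin t)} {m : Fin t} (hm : m ∉ S) (v : Fin t → Fin k → F) (d : Fin k → F) :
    pS σ S v * slotMat m (ee σ d d) = pS σ (insert m S) (Function.update v m d) := by
  unfold pS
  rw [pureMat_mul_slot]
  congr 1
  funext j
  by_cases hj : j = m
  · subst hj
    rw [Function.update_self, Function.update_self, if_neg hm, one_mul, if_pos (Finset.mem_insert_self _ _)]
  · rw [Function.update_of_ne hj, Function.update_of_ne hj]
    by_cases hjS : j ∈ S
    · rw [if_pos hjS, if_pos (Finset.mem_insert_of_mem hjS)]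
    · rw [if_neg hjS, if_neg (by rw [Finset.mem_insert]; tauto)]

theorem pS_erase {S : Finset (Fin t)} {i : Fin t} (hi : i ∈ S) (v : Fin t → Fin k → F) :
    pS σ (S.erase i) v * slotMat i (ee σ (v i) (v i)) = pS σ S v := by
  rw [pS_insert (Finset.notMem_erase i S), Function.update_eq_self, Finset.insert_erase hi]

theorem ctr_zero_vec (m : Fin t) (L : Matrix (Fin t → Fin k) (Fin t → Fin k) F) : ctr σ m 0 0 L = 0 := by
  unfold ctr
  refine Finset.sum_eq_zero fun j _ => ?_
  have h1 : ee σ (0 : Fin k → F) (Pi.single j (1 : F) : Fin k → F) = 0 := by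
    unfold ee
    exact Matrix.zero_vecMulVec _
  have h2 : slotMat m (0 : Matrix (Fin k) (Fin k) F) = (0 : Matrix (Fin t → Fin k) (Fin t → Fin k) F) := by
    have := slotMat_smul m (0 : F) (0 : Matrix (Fin k) (Fin k) F)
    rwa [zero_smul, zero_smul] at this
  rw [h1, h2, mul_zero]

theorem exists_ctr_ne (hσ : σ ≠ RingHom.id F) (hσ2 : ∀ x : F, σ (σ x) = x) {m : Fin t}
    {L : Matrix (Fin t → Fin k) (Fin t → Fin k) F} (h : ¬ ∀ x, L * slotMat m x = slotMat m x * L) :
    ∃ b : Fin k → F, b ≠ 0 ∧ stB σ k b b = 0 ∧ ctr σ m b b L ≠ 0 := by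
  by_contra hcon
  push Not at hcon
  refine h (comm_of_ctr hσ hσ2 m fun b hb => ?_)
  by_cases hb0 : b = 0
  · rw [hb0, ctr_zero_vec]
  · exact hcon b hb0 hb

end PS

section Process

variable {F : Type*} [Field F] [Finite F] {σ : F →+* F} {k s : ℕ}
  {M : Subgroup (Matrix.GeneralLinearGroup (Fin (s + 1) → Fin k) F)}

/-- One more slot is made pure. -/
theorem pS_step (hσ : σ ≠ RingHom.id F) (hσ2 : ∀ x : F, σ (σ x) = x) (hk : 3 ≤ k)
    (hqk : 4 ≤ k ∨ ∃ c : F, c ≠ 0 ∧ σ c * c ≠ 1) (hM : OverT σ M) {i m : Fin (s + 1)} {T : Finset (Fin (s + 1))}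
    (hi : i ∈ T) (hm : m ∉ T) {v : Fin (s + 1) → Fin k → F} (hv : ∀ j ∈ T, v j ≠ 0 ∧ stB σ k (v j) (v j) = 0)
    {L : Matrix (Fin (s + 1) → Fin k) (Fin (s + 1) → Fin k) F} (hL : ∀ j ∈ T, ∀ x, L * slotMat j x = slotMat j x * L)
    (h : ∃ g ∈ M, (g : Matrix (Fin (s + 1) → Fin k) (Fin (s + 1) → Fin k) F) = 1 + pS σ T v * L)
    {b d : Fin k → F} (hb0 : b ≠ 0) (hb : stB σ k b b = 0) (hd0 : d ≠ 0) (hd : stB σ k d d = 0) :
    ∃ g ∈ M, (g : Matrix (Fin (s + 1) → Fin k) (Fin (s + 1) → Fin k) F) =
      1 + pS σ (insert m T) (Function.update v m d) * ctr σ m b b L := by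
  have hmi : m ≠ i := fun h => hm (h ▸ hi)
  obtain ⟨g, hg, hgL⟩ := h
  have hiT : i ∉ T.erase i := Finset.notMem_erase i T
  have hmT : m ∉ T.erase i := fun h => hm (Finset.mem_of_mem_erase h)
  have h1 : KI M σ i (v i) (pS σ (T.erase i) v * L) := by
    refine ⟨fun x => ?_, g, hg, ?_⟩
    · rw [mul_assoc, hL i hi, ← mul_assoc, pS_comm hiT, mul_assoc]
    · rw [hgL, mul_assoc, hL i hi, ← mul_assoc, pS_erase hi]
  obtain ⟨_, g', hg', hgK⟩ := h1.step hσ hσ2 hk hqk hM hmi (hv i hi).1 (hv i hi).2 hb0 hb hd0 hd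
  refine ⟨g', hg', ?_⟩
  rw [hgK]
  congr 1
  have e1 : slotMat m (ee σ d b) * (pS σ (T.erase i) v * L) * slotMat m (ee σ b d) =
      pS σ (T.erase i) v * (slotMat m (ee σ d b) * L * slotMat m (ee σ b d)) := by
    rw [← mul_assoc, ← pS_comm hmT]
    simp only [mul_assoc]
  rw [e1, ← ee_mul_ctr, mul_assoc, mul_assoc, ctr_comm_other hmi b b (hL i hi), ← mul_assoc (slotMat m (ee σ d d)),
    (slotMat_commute hmi (ee σ d d) (ee σ (v i) (v i))).eq, mul_assoc (slotMat i _), ← mul_assoc (pS σ (T.erase i) v),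
    pS_erase hi, ← mul_assoc, pS_insert hm]

open Classical in
theorem pS_process (hσ : σ ≠ RingHom.id F) (hσ2 : ∀ x : F, σ (σ x) = x) (hk : 3 ≤ k)
    (hqk : 4 ≤ k ∨ ∃ c : F, c ≠ 0 ∧ σ c * c ≠ 1) (hM : OverT σ M) {i : Fin (s + 1)} (n : ℕ) :
    ∀ (T : Finset (Fin (s + 1))) (v : Fin (s + 1) → Fin k → F)
      (L : Matrix (Fin (s + 1) → Fin k) (Fin (s + 1) → Fin k) F), i ∈ T →
      (∀ j ∈ T, v j ≠ 0 ∧ stB σ k (v j) (v j) = 0) → L ≠ 0 → (∀ j ∈ T, ∀ x, L * slotMat j x = slotMat j x * L) →
      (Finset.univ.filter fun m => ¬ ∀ x, L * slotMat m x = slotMat m x * L).card ≤ n →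
      (∃ g ∈ M, (g : Matrix (Fin (s + 1) → Fin k) (Fin (s + 1) → Fin k) F) = 1 + pS σ T v * L) →
      ∃ (T' : Finset (Fin (s + 1))) (v' : Fin (s + 1) → Fin k → F) (c : F), T ⊆ T' ∧ c ≠ 0 ∧
        (∀ j ∈ T', v' j ≠ 0 ∧ stB σ k (v' j) (v' j) = 0) ∧
        ∃ g ∈ M, (g : Matrix (Fin (s + 1) → Fin k) (Fin (s + 1) → Fin k) F) = 1 + c • pS σ T' v' := by
  induction n with
  | zero =>
    intro T v L hi hv hL0 hL hn h
    rw [Nat.le_zero, Finset.card_eq_zero, Finset.filter_eq_empty_iff] at hn
    obtain ⟨c, hc⟩ := scalar_of_commute_slots (M := L) (fun j x => by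
      have := hn (Finset.mem_univ j)
      push Not at this
      exact this x)
    refine ⟨T, v, c, Finset.Subset.refl _, ?_, hv, ?_⟩
    · rintro rfl
      exact hL0 (by rw [hc, zero_smul])
    · obtain ⟨g, hg, hgL⟩ := h
      exact ⟨g, hg, by rw [hgL, hc, Matrix.mul_smul, mul_one]⟩
  | succ n ih =>
    intro T v L hi hv hL0 hL hn h
    by_cases hall : ∀ m x, L * slotMat m x = slotMat m x * L
    · obtain ⟨c, hc⟩ := scalar_of_commute_slots (M := L) hall
      refine ⟨T, v, c, Finset.Subset.refl _, ?_, hv, ?_⟩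
      · rintro rfl
        exact hL0 (by rw [hc, zero_smul])
      · obtain ⟨g, hg, hgL⟩ := h
        exact ⟨g, hg, by rw [hgL, hc, Matrix.mul_smul, mul_one]⟩
    · push Not at hall
      obtain ⟨m, x, hx⟩ := hall
      have hmL : ¬ ∀ x, L * slotMat m x = slotMat m x * L := fun h => hx (h x)
      have hmT : m ∉ T := fun h => hmL (hL m h)
      obtain ⟨b, hb0, hb, hbL⟩ := exists_ctr_ne hσ hσ2 hmL
      have h1 := pS_step hσ hσ2 hk hqk hM hi hmT hv hL h hb0 hb hb0 hb
      obtain ⟨T', v', c, hT, hc, hv', hg⟩ := ih (insert m T) (Function.update v m b) (ctr σ m b b L)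
        (Finset.mem_insert_of_mem hi) (by
          intro j hj
          rcases Finset.mem_insert.mp hj with rfl | hjT
          · rw [Function.update_self]
            exact ⟨hb0, hb⟩
          · rw [Function.update_of_ne (by rintro rfl; exact hmT hjT)]
            exact hv j hjT) hbL (by
          intro j hj
          rcases Finset.mem_insert.mp hj with rfl | hjT
          · exact ctr_comm _ b b L
          · exact ctr_comm_other (by rintro rfl; exact hmT hjT) b b (hL j hjT)) (by
          have hlt : (Finset.univ.filter fun j => ¬ ∀ x, ctr σ m b b L * slotMat j x = slotMat j x * ctr σ m b b L).card <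
              (Finset.univ.filter fun m => ¬ ∀ x, L * slotMat m x = slotMat m x * L).card := by
            apply Finset.card_lt_card
            rw [Finset.ssubset_iff_of_subset]
            · refine ⟨m, by simpa using ⟨x, hx⟩, ?_⟩
              rw [Finset.mem_filter]
              push Not
              exact fun _ => ctr_comm m b b L
            · intro j hj
              rw [Finset.mem_filter] at hj ⊢
              refine ⟨hj.1, fun hjL => hj.2 ?_⟩
              by_cases hmj : m = j
              · subst hmj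
                exact ctr_comm m b b L
              · exact ctr_comm_other hmj b b hjL
          omega) h1
      exact ⟨T', v', c, (Finset.subset_insert _ _).trans hT, hc, hv', hg⟩

theorem pureS_of_one (hσ : σ ≠ RingHom.id F) (hσ2 : ∀ x : F, σ (σ x) = x) (hk : 3 ≤ k) (hM : OverT σ M)
    {S : Finset (Fin (s + 1))} {c : F} (hc : c ≠ 0) {v : Fin (s + 1) → Fin k → F}
    (hv : ∀ j ∈ S, v j ≠ 0 ∧ stB σ k (v j) (v j) = 0)
    (h : ∃ g ∈ M, (g : Matrix (Fin (s + 1) → Fin k) (Fin (s + 1) → Fin k) F) = 1 + c • pS σ S v) : PureS σ M S := by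
  refine ⟨c, hc, fun v' hv' => ?_⟩
  have key : ∀ U : Finset (Fin (s + 1)), ∃ g ∈ M, (g : Matrix (Fin (s + 1) → Fin k) (Fin (s + 1) → Fin k) F) =
      1 + c • pS σ S (fun j => if j ∈ U then v' j else v j) := by
    intro U
    induction U using Finset.induction_on with
    | empty => simpa using h
    | insert m U hmU ih =>
      obtain ⟨g, hg, hgc⟩ := ih
      by_cases hmS : m ∈ S
      · obtain ⟨z, hz, hzd, hzv⟩ := exists_su hσ hσ2 hk (hv m hmS).1 (hv' m hmS).1 (by rw [(hv m hmS).2, (hv' m hmS).2])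
        obtain ⟨A, A', a, ha, haA, haA', hA, hA', hAA', _⟩ := exists_slot hM m hz hzd
        refine ⟨a * g * a⁻¹, M.mul_mem (M.mul_mem ha hg) (M.inv_mem ha), ?_⟩
        rw [Units.val_mul, Units.val_mul, haA, haA', hgc, mul_add, add_mul, mul_one, ← slotMat_mul, hAA', slotMat_one,
          Matrix.mul_smul, Matrix.smul_mul]
        congr 2
        unfold pS
        rw [slot_mul_pureMat, pureMat_mul_slot]
        congr 1
        funext j
        by_cases hj : j = m
        · subst hj
          simp only [Function.update_self, if_pos hmS, if_neg hmU, if_pos (Finset.mem_insert_self j U)]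
          rw [hA, hA', hzv]
        · simp only [Function.update_of_ne hj]
          by_cases hjU : j ∈ U
          · simp only [if_pos hjU, if_pos (Finset.mem_insert_of_mem hjU)]
          · have hjU' : j ∉ insert m U := by rw [Finset.mem_insert]; tauto
            simp only [if_neg hjU, if_neg hjU']
      · refine ⟨g, hg, ?_⟩
        rw [hgc, pS_congr (v' := fun j => if j ∈ insert m U then v' j else v j)]
        intro j hj
        have hjm : j ≠ m := by rintro rfl; exact hmS hj
        by_cases hjU : j ∈ U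
        · simp only [if_pos hjU, if_pos (Finset.mem_insert_of_mem hjU)]
        · have hjU' : j ∉ insert m U := by rw [Finset.mem_insert]; tauto
          simp only [if_neg hjU, if_neg hjU']
  obtain ⟨g, hg, hgc⟩ := key S
  refine ⟨g, hg, ?_⟩
  rw [hgc, pS_congr (v' := v')]
  · rfl
  · intro j hj
    rw [if_pos hj]

/-- **Part A, first half.** -/
theorem partA_first (hσ : σ ≠ RingHom.id F) (hσ2 : ∀ x : F, σ (σ x) = x) (hk : 3 ≤ k)
    (hqk : 4 ≤ k ∨ ∃ c : F, c ≠ 0 ∧ σ c * c ≠ 1) (hM : OverT σ M) :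
    LayerT σ M ∨ ∃ S : Finset (Fin (s + 1)), 2 ≤ S.card ∧ PureS σ M S := by
  by_cases hL : LayerT σ M
  · exact Or.inl hL
  right
  unfold LayerT at hL
  push Not at hL
  obtain ⟨i, w, hw0, hw, K, hK, hgK, hKs⟩ := hL
  have hw' : stB σ k w w = 0 := hw
  have hK0 : K ≠ 0 := by
    rintro rfl
    exact hKs 0 (zero_smul _ _).symm
  obtain ⟨m, hm⟩ : ∃ m, ¬ ∀ x, K * slotMat m x = slotMat m x * K := by
    by_contra hcon
    push Not at hcon
    obtain ⟨c, hc⟩ := scalar_of_commute_slots (M := K) hcon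
    exact hKs c hc
  have hmi : m ≠ i := by
    rintro rfl
    exact hm hK
  have hv : ∀ j ∈ ({i} : Finset (Fin (s + 1))), (fun _ => w : Fin (s + 1) → Fin k → F) j ≠ 0 ∧
      stB σ k ((fun _ => w : Fin (s + 1) → Fin k → F) j) ((fun _ => w : Fin (s + 1) → Fin k → F) j) = 0 :=
    fun _ _ => ⟨hw0, hw'⟩
  obtain ⟨b, hb0, hb, hbL⟩ := exists_ctr_ne hσ hσ2 hm
  have h1 := pS_step (i := i) (m := m) (T := {i}) hσ hσ2 hk hqk hM (Finset.mem_singleton_self i)
    (by rwa [Finset.mem_singleton]) hv (L := K) (by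
      intro j hj
      rw [Finset.mem_singleton] at hj
      subst hj
      exact hK) (by
      obtain ⟨g, hg, hgK'⟩ := hgK
      refine ⟨g, hg, ?_⟩
      rw [hgK']
      have e1 : pS σ {i} (fun _ => w) = (slotMat i (ee σ w w) : Matrix (Fin (s + 1) → Fin k) (Fin (s + 1) → Fin k) F) := by
        unfold pS slotMat
        congr 1
        funext j
        by_cases hj : j = i
        · subst hj
          rw [Function.update_self, if_pos (Finset.mem_singleton_self _)]
        · rw [Function.update_of_ne hj, if_neg (by rwa [Finset.mem_singleton])]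
      rw [e1, ← hK]
      rfl) hb0 hb hb0 hb
  obtain ⟨T', v', c, hT, hc, hv', hg⟩ := pS_process hσ hσ2 hk hqk hM (i := i) _ (insert m {i})
    (Function.update (fun _ => w) m b) (ctr σ m b b K) (by simp) (by
      intro j hj
      rcases Finset.mem_insert.mp hj with rfl | hjT
      · rw [Function.update_self]
        exact ⟨hb0, hb⟩
      · rw [Finset.mem_singleton] at hjT
        subst hjT
        rw [Function.update_of_ne (Ne.symm hmi)]
        exact ⟨hw0, hw'⟩) hbL (by
      intro j hj
      rcases Finset.mem_insert.mp hj with rfl | hjT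
      · exact ctr_comm _ b b K
      · rw [Finset.mem_singleton] at hjT
        subst hjT
        exact ctr_comm_other hmi b b hK) le_rfl h1
  refine ⟨T', ?_, pureS_of_one hσ hσ2 hk hM hc hv' hg⟩
  calc 2 = (insert m {i} : Finset (Fin (s + 1))).card := by
        rw [Finset.card_insert_of_notMem (by rwa [Finset.mem_singleton]), Finset.card_singleton]
    _ ≤ T'.card := Finset.card_le_card hT

end Process

end Cfsg.Agent.H881
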