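import Cfsg.Agent.H881.PA4

/-!
Part A: from `PureS` over all slots to `PureT`.
-/

set_option autoImplicit false
set_option linter.unusedSectionVars false

namespace Cfsg.Agent.H881

open Module Matrix Cfsg.Agent.ClassicalGeometry Cfsg.Agent.H880 Cfsg.Agent.H919

section

variable {F : Type*} [Field F] [Finite F] {σ : F →+* F} {k s : ℕ}
  {M : Subgroup (Matrix.GeneralLinearGroup (Fin (s + 1) → Fin k) F)}

theorem pureMat_ee (u v : Fin (s + 1) → Fin k → F) :
    pureMat (fun j => ee σ (u j) (v j)) = vecMulVec (pvec u) (σ ∘ pvec v) := by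
  ext f g
  rw [pureMat_apply, vecMulVec_apply]
  simp only [ee, vecMulVec_apply, Function.comp_apply, pvec, map_prod, Finset.prod_mul_distrib]

theorem pvec_form (u v : Fin (s + 1) → Fin k → F) :
    (⇑σ ∘ pvec u) ⬝ᵥ pvec v = ∏ j, stB σ k (u j) (v j) := by
  simp only [stB_apply]
  rw [Finset.prod_univ_sum, Fintype.piFinset_univ]
  refine Finset.sum_congr rfl fun f _ => ?_
  simp only [Function.comp_apply, pvec, map_prod, Finset.prod_mul_distrib]

/-- Coefficients of unitary transvections are skew. -/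
theorem skew_of_unit {ι : Type*} [Fintype ι] [DecidableEq ι] (hσ2 : ∀ x : F, σ (σ x) = x) {w : ι → F} (hw0 : w ≠ 0)
    (hw : (⇑σ ∘ w) ⬝ᵥ w = 0) {c : F}
    (h : ((1 + c • vecMulVec w (σ ∘ w) : Matrix ι ι F).map σ)ᵀ * (1 + c • vecMulVec w (σ ∘ w)) = 1) : c + σ c = 0 := by
  have h1 : ((1 + c • vecMulVec w (σ ∘ w) : Matrix ι ι F).map σ)ᵀ = 1 + σ c • vecMulVec w (σ ∘ w) := by
    ext a b
    rw [Matrix.transpose_apply, Matrix.map_apply, Matrix.add_apply, Matrix.add_apply, map_add, Matrix.smul_apply,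
      Matrix.smul_apply, vecMulVec_apply, vecMulVec_apply, smul_eq_mul, smul_eq_mul, map_mul, map_mul,
      Function.comp_apply, Function.comp_apply, hσ2, Matrix.one_apply, Matrix.one_apply]
    by_cases hab : a = b
    · subst hab
      rw [if_pos rfl, map_one]
      ring
    · rw [if_neg hab, if_neg (Ne.symm hab), map_zero]
      ring
  have h2 : vecMulVec w (σ ∘ w) * vecMulVec w (σ ∘ w) = 0 := by
    rw [Matrix.vecMulVec_mul_vecMulVec, hw, zero_smul]
    exact Matrix.vecMulVec_zero _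
  rw [h1, add_mul, mul_add, mul_add, one_mul, mul_one, one_mul, Matrix.smul_mul, Matrix.mul_smul, h2, smul_zero,
    smul_zero, add_zero, add_assoc, ← add_smul] at h
  have h3 : (c + σ c) • vecMulVec w (σ ∘ w) = 0 := by
    have := congrArg (fun X => X - 1) h
    simpa using this
  obtain ⟨f, hf⟩ : ∃ f, w f ≠ 0 := by
    by_contra hcon
    push Not at hcon
    exact hw0 (funext hcon)
  have h4 := congrFun (congrFun h3 f) f
  rw [Matrix.smul_apply, vecMulVec_apply, Function.comp_apply, smul_eq_mul] at h4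
  rcases mul_eq_zero.mp h4 with h5 | h5
  · exact h5
  · exact absurd h5 (mul_ne_zero hf ((map_ne_zero σ).mpr hf))

theorem pvec_ne_zero {u : Fin (s + 1) → Fin k → F} (h : ∀ j, u j ≠ 0) : pvec u ≠ 0 := by
  have h1 : ∀ j, ∃ c, u j c ≠ 0 := by
    intro j
    by_contra hcon
    push Not at hcon
    exact h j (funext hcon)
  choose f hf using h1
  intro h2
  have h3 := congrFun h2 f
  exact Finset.prod_ne_zero_iff.mpr (fun j _ => hf j) h3

theorem pvec_eq_zero {u : Fin (s + 1) → Fin k → F} {j : Fin (s + 1)} (h : u j = 0) : pvec u = 0 := by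
  funext f
  exact Finset.prod_eq_zero (Finset.mem_univ j) (by rw [h]; rfl)

/-- **Part A, last step.** -/
theorem pureT_of_univ (hσ : σ ≠ RingHom.id F) (hσ2 : ∀ x : F, σ (σ x) = x) (hM : OverT σ M)
    (h : PureS σ M Finset.univ) : PureT σ M := by
  intro u hu l hl
  by_cases hu0 : ∃ j, u j = 0
  · obtain ⟨j, hj⟩ := hu0
    refine ⟨1, M.one_mem, ?_⟩
    rw [pvec_eq_zero hj, Matrix.zero_vecMulVec, smul_zero, add_zero, Units.val_one]
  push Not at hu0
  by_cases hl0 : l = 0
  · refine ⟨1, M.one_mem, ?_⟩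
    rw [hl0, zero_smul, add_zero, Units.val_one]
  obtain ⟨c, hc, h1⟩ := h
  have h2 : ∀ v : Fin (s + 1) → Fin k → F, (∀ j, v j ≠ 0 ∧ stB σ k (v j) (v j) = 0) → ∃ g ∈ M,
      (g : Matrix (Fin (s + 1) → Fin k) (Fin (s + 1) → Fin k) F) = 1 + c • vecMulVec (pvec v) (σ ∘ pvec v) := by
    intro v hv
    obtain ⟨g, hg, hgv⟩ := h1 v (fun j _ => hv j)
    refine ⟨g, hg, ?_⟩
    rw [hgv, ← pureMat_ee]
    simp
  have hu' : ∀ j, stB σ k (u j) (u j) = 0 := hu
  obtain ⟨g, hg, hgu⟩ := h2 u (fun j => ⟨hu0 j, hu' j⟩)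
  have hcs : c + σ c = 0 := by
    refine skew_of_unit hσ2 (pvec_ne_zero hu0) ?_ (hgu ▸ hM.iso g hg)
    rw [pvec_form]
    exact Finset.prod_eq_zero (Finset.mem_univ 0) (hu' 0)
  have hρ : σ (l / c) = l / c := by
    rw [map_div₀]
    have e1 : σ l = -l := by linear_combination hl
    have e2 : σ c = -c := by linear_combination hcs
    rw [e1, e2, neg_div_neg_eq]
  obtain ⟨r, hr0, hr⟩ := HermWitt.norm_surj σ hσ hσ2 (l / c) hρ (div_ne_zero hl0 hc)
  obtain ⟨g', hg', hgu'⟩ := h2 (Function.update u 0 (r • u 0)) (by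
    intro j
    by_cases hj : j = 0
    · subst hj
      rw [Function.update_self]
      refine ⟨smul_ne_zero hr0 (hu0 0), ?_⟩
      rw [LinearMap.map_smulₛₗ₂, map_smul, hu' 0, smul_zero, smul_zero]
    · rw [Function.update_of_ne hj]
      exact ⟨hu0 j, hu' j⟩)
  refine ⟨g', hg', ?_⟩
  rw [hgu']
  congr 1
  have e3 : pvec (Function.update u 0 (r • u 0)) = r • pvec u := by
    funext f
    rw [Pi.smul_apply, smul_eq_mul]
    unfold pvec
    rw [← Finset.mul_prod_erase _ _ (Finset.mem_univ (0 : Fin (s + 1))),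
      ← Finset.mul_prod_erase _ (fun i => u i (f i)) (Finset.mem_univ (0 : Fin (s + 1))), Function.update_self,
      Pi.smul_apply, smul_eq_mul, mul_assoc]
    congr 2
    refine Finset.prod_congr rfl fun j hj => ?_
    rw [Function.update_of_ne (Finset.ne_of_mem_erase hj)]
  have e4 : (σ ∘ (r • pvec u) : (Fin (s + 1) → Fin k) → F) = σ r • (σ ∘ pvec u) := by
    funext f
    simp
  rw [e3, e4, Matrix.smul_vecMulVec, Matrix.vecMulVec_smul, smul_smul, smul_smul]
  congr 1
  have : r * σ r = l / c := by rw [← hr]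
  rw [mul_assoc, this, mul_div_cancel₀ _ hc]

end

end Cfsg.Agent.H881
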