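import Cfsg.Agent.H881.SlotD

/-!
From the `t`-slot setting to the component theorem.
-/

set_option autoImplicit false
set_option linter.unusedSectionVars false

namespace Cfsg.Agent.H881

open Module Cfsg.Agent.ClassicalGeometry Cfsg.Agent.H880 Matrix Cfsg.Agent.H919

section

variable {F : Type*} [Field F] [Finite F] {σ : F →+* F} {k s : ℕ}

/-- Transvection matrices. -/
theorem tv_mat (hσ2 : ∀ x : F, σ (σ x) = x) {w : Fin k → F} (hw : stB σ k w w = 0) {l : F} (hl : l + σ l = 0) :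
    (((1 + l • vecMulVec w (σ ∘ w) : Matrix (Fin k) (Fin k) F)).map σ)ᵀ * (1 + l • vecMulVec w (σ ∘ w)) = 1 ∧
      (1 + l • vecMulVec w (σ ∘ w) : Matrix (Fin k) (Fin k) F).det = 1 ∧
      ∀ x, (1 + l • vecMulVec w (σ ∘ w) : Matrix (Fin k) (Fin k) F) *ᵥ x = x + l • phi σ w x := by
  have h3 : ∀ x, (1 + l • vecMulVec w (σ ∘ w) : Matrix (Fin k) (Fin k) F) *ᵥ x = x + l • phi σ w x := by
    intro x
    rw [Matrix.add_mulVec, Matrix.one_mulVec, Matrix.smul_mulVec, Matrix.vecMulVec_mulVec, phi_apply]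
    congr 1
    congr 1
    funext j
    show w j * _ = _ * w j
    rw [mul_comm]
    rfl
  obtain ⟨t, ht, _, hti, htd⟩ := exists_tv (B := stB σ k) (stB_symm hσ2 k) hw hl
  have h4 : ∀ x, (1 + l • vecMulVec w (σ ∘ w) : Matrix (Fin k) (Fin k) F) *ᵥ x = t x := by
    intro x
    rw [h3, ht, phi_apply, smul_smul]
  refine ⟨iso_unit (fun x y => by rw [h4, h4, hti]), ?_, h3⟩
  rw [← htd, ← LinearMap.det_toLin']
  congr 1
  exact LinearMap.ext h4

theorem phi_mat (w : Fin k → F) : (vecMulVec w (σ ∘ w) : Matrix (Fin k) (Fin k) F).mulVecLin = phi σ w := by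
  refine LinearMap.ext fun x => ?_
  rw [Matrix.mulVecLin_apply, Matrix.vecMulVec_mulVec, phi_apply]
  funext j
  show w j * _ = _ * w j
  rw [mul_comm]
  rfl

theorem finrank_dM (i : Fin (s + 1)) (K : Matrix (Fin (s + 1) → Fin k) (Fin (s + 1) → Fin k) F) :
    finrank F (LinearMap.range (dM i K)) = finrank F (LinearMap.range K.mulVecLin) := by
  unfold dM
  rw [LinearMap.range_comp, LinearEquiv.finrank_map_eq, LinearMap.range_comp_of_range_eq_top]
  exact LinearEquiv.range _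

theorem colL_injective (hk : 1 ≤ k) {a : ℕ} {Y Y' : (Fin a → F) →ₗ[F] (Fin a → F)} (h : colL k Y = colL k Y') : Y = Y' := by
  refine LinearMap.ext fun u => ?_
  have h1 := LinearMap.congr_fun h (vecMulVec u (Pi.single ⟨0, hk⟩ 1))
  rw [colL_pure, colL_pure] at h1
  funext p
  have h2 := congrFun (congrFun h1 p) ⟨0, hk⟩
  rw [vecMulVec_apply, vecMulVec_apply, Pi.single_eq_same, mul_one, mul_one] at h2
  exact h2

theorem exists_col (hk : 1 ≤ k) (i : Fin (s + 1)) (G : Matrix.GeneralLinearGroup (Fin (s + 1) → Fin k) F)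
    (h : ∀ x, (G : Matrix (Fin (s + 1) → Fin k) (Fin (s + 1) → Fin k) F) * slotMat i x =
      slotMat i x * (G : Matrix (Fin (s + 1) → Fin k) (Fin (s + 1) → Fin k) F)) :
    ∃ y : (Fin (k ^ s) → F) ≃ₗ[F] (Fin (k ^ s) → F),
      dM i (G : Matrix (Fin (s + 1) → Fin k) (Fin (s + 1) → Fin k) F) = (colE k y : Mat (k ^ s) k F →ₗ[F] Mat (k ^ s) k F) ∧
      ofMat (Psi F k i) (colE k y) = G := by
  obtain ⟨Y, hY⟩ := comm_slot hk i h
  obtain ⟨g, hg⟩ := ofMat_surjective (Psi F k i) G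
  have hgY : (g : Mat (k ^ s) k F →ₗ[F] Mat (k ^ s) k F) = colL k Y := by
    rw [← ofMat_dM, hg, hY]
  have hYi : Function.Injective Y := by
    rw [← LinearMap.ker_eq_bot, LinearMap.ker_eq_bot']
    intro u hu
    have h1 : g (vecMulVec u (Pi.single ⟨0, hk⟩ 1)) = 0 := by
      have h2 := LinearMap.congr_fun hgY (vecMulVec u (Pi.single ⟨0, hk⟩ 1))
      rw [colL_pure, hu, zero_pure] at h2
      exact h2
    rw [LinearEquiv.map_eq_zero_iff] at h1
    by_contra hu0
    exact pure_ne_zero hu0 (single_ne_zero' _) h1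
  have h1 : dM i (G : Matrix (Fin (s + 1) → Fin k) (Fin (s + 1) → Fin k) F) =
      (colE k (LinearEquiv.ofInjectiveEndo Y hYi) : Mat (k ^ s) k F →ₗ[F] Mat (k ^ s) k F) := by
    rw [hY]
    apply ext_pure
    intro u v
    rw [colL_pure]
    exact (colE_pure (LinearEquiv.ofInjectiveEndo Y hYi) u v).symm
  exact ⟨_, h1, ofMat_eq i _ h1⟩

/-- Root elements of the other slots. -/
def SS (σ : F →+* F) (k : ℕ) {s : ℕ} (i : Fin (s + 1)) : Set ((Fin (k ^ s) → F) ≃ₗ[F] (Fin (k ^ s) → F)) :=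
  {y | ∃ (j : Fin (s + 1)) (w : Fin k → F) (l : F), j ≠ i ∧ stB σ k w w = 0 ∧ l + σ l = 0 ∧
    dM i (slotMat j (1 + l • vecMulVec w (σ ∘ w) : Matrix (Fin k) (Fin k) F)) =
      (colE k y : Mat (k ^ s) k F →ₗ[F] Mat (k ^ s) k F)}

/-- The commutant of the root elements of the other slots. -/
theorem SS_irr (hσ : σ ≠ RingHom.id F) (hσ2 : ∀ x : F, σ (σ x) = x) (hk : 1 ≤ k)
    {M : Subgroup (Matrix.GeneralLinearGroup (Fin (s + 1) → Fin k) F)} (hM : OverT σ M)
    (i : Fin (s + 1)) (f : (Fin (k ^ s) → F) →ₗ[F] (Fin (k ^ s) → F))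
    (hf : ∀ y ∈ SS σ k i, ∀ x, f (y x) = y (f x)) : ∃ c : F, ∀ x, f x = c • x := by
  obtain ⟨K, hK⟩ := dM_surj i (colL k f)
  obtain ⟨l, hl0, hl⟩ := exists_skew hσ hσ2
  have hall : ∀ j x, K * slotMat j x = slotMat j x * K := by
    intro j
    by_cases hj : j = i
    · subst hj
      exact slot_comm j hK
    obtain ⟨Y, hY⟩ := comm_iso hσ hσ2 hk (dM j K) (by
      intro v hv0 hv X
      -- the root element of slot `j`
      obtain ⟨h1, h2, h3⟩ := tv_mat hσ2 hv hl
      obtain ⟨G, hG, hGz⟩ := hM.slot j _ h1 h2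
      obtain ⟨y, hy, hy'⟩ := exists_col hk i G (fun x => by
        rw [hGz]
        exact slotMat_commute hj _ _)
      have h4 := hf y ⟨j, v, l, hj, hv, hl, by rw [← hGz, hy]⟩
      have h5 : K * slotMat j (1 + l • vecMulVec v (σ ∘ v)) = slotMat j (1 + l • vecMulVec v (σ ∘ v)) * K := by
        apply dM_inj i
        rw [dM_mul, dM_mul, hK, ← hGz, hy]
        apply ext_pure
        intro u v
        show colL k f (colE k y (vecMulVec u v)) = colE k y (colL k f (vecMulVec u v))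
        rw [colE_pure, colL_pure, colL_pure, colE_pure, h4]
      rw [slotMat_add, slotMat_one, slotMat_smul, mul_add, add_mul, mul_one, one_mul, add_right_inj,
        Matrix.mul_smul, Matrix.smul_mul] at h5
      have h6 := smul_right_injective _ hl0 h5
      have h7 : dM j K ∘ₗ rowL (k ^ s) (phi σ v) = rowL (k ^ s) (phi σ v) ∘ₗ dM j K := by
        rw [← phi_mat, ← dM_slot, ← dM_mul, ← dM_mul]
        exact congrArg _ h6
      exact LinearMap.congr_fun h7 X)
    exact slot_comm j hY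
  obtain ⟨c, hc⟩ := scalar_of_commute_slots (M := K) (fun j x => hall j x)
  refine ⟨c, fun x => ?_⟩
  have h1 : colL k f = colL k (c • LinearMap.id) := by
    rw [← hK, hc, dM_smul, dM_one]
    apply ext_pure
    intro u v
    rw [colL_pure]
    show c • vecMulVec u v = vecMulVec (c • u) v
    rw [Matrix.smul_vecMulVec]
  rw [colL_injective hk h1]
  rfl

theorem overC_of (hσ : σ ≠ RingHom.id F) (hσ2 : ∀ x : F, σ (σ x) = x) (hk : 1 ≤ k)
    {M : Subgroup (Matrix.GeneralLinearGroup (Fin (s + 1) → Fin k) F)} (hM : OverT σ M) (hL : LayerT σ M)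
    (i : Fin (s + 1)) : OverC σ (M.comap (ofMat (Psi F k i))) (SS σ k i) := by
  have hmem : ∀ g, g ∈ M.comap (ofMat (Psi F k i)) ↔ ofMat (Psi F k i) g ∈ M := fun g => Iff.rfl
  refine { iso := ?_, row := ?_, col := ?_, rk := ?_, irr := ?_, lay := ?_ }
  · intro g hg X Y
    rw [BV_Psi i, BV_Psi i, ← ofMat_mulVec, ← ofMat_mulVec]
    exact unit_iso (hM.iso _ ((hmem g).mp hg)) _ _
  · intro z hz hzd
    have h1 : ∀ x, (LinearMap.toMatrix' (z : (Fin k → F) →ₗ[F] (Fin k → F))) *ᵥ x = z x := by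
      intro x
      rw [LinearMap.toMatrix'_mulVec]
      rfl
    obtain ⟨G, hG, hGz⟩ := hM.slot i (LinearMap.toMatrix' (z : (Fin k → F) →ₗ[F] (Fin k → F)))
      (iso_unit (fun x y => by rw [h1, h1, hz])) (by rw [LinearMap.det_toMatrix', hzd])
    rw [hmem, ofMat_eq i (rowE (k ^ s) z) (G := G)]
    · exact hG
    · rw [hGz, ← row_eq_dM]
      rfl
  · rintro y ⟨j, w, l, hj, hw, hl, hy⟩
    obtain ⟨h1, h2, _⟩ := tv_mat hσ2 hw hl
    obtain ⟨G, hG, hGz⟩ := hM.slot j _ h1 h2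
    rw [hmem, ofMat_eq i (colE k y) (G := G)]
    · exact hG
    · rw [hGz, hy]
  · rintro y ⟨j, w, l, hj, hw, hl, hy⟩
    rw [← hy, ← dM_one i]
    have h1 : dM i (slotMat j (1 + l • vecMulVec w (σ ∘ w))) - dM i 1 = dM i (l • slotMat j (vecMulVec w (σ ∘ w))) := by
      rw [slotMat_add, slotMat_one, slotMat_smul, dM_add, add_sub_cancel_left]
    rw [h1, finrank_dM, ← finrank_dM j, dM_smul, dM_slot, phi_mat]
    refine le_trans ?_ (finrank_range_phi (a := k ^ s) (σ := σ) (v := w))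
    apply Submodule.finrank_mono
    rintro _ ⟨X, rfl⟩
    exact ⟨l • X, map_smul _ _ _⟩
  · exact SS_irr hσ hσ2 hk hM i
  · intro w hw0 hw κ hκ
    obtain ⟨g, hg, hgx⟩ := hκ
    obtain ⟨K, hK⟩ := dM_surj i (colL k κ)
    obtain ⟨c, hc⟩ := hL i w hw0 (by rw [← hw, stB_apply]) K (slot_comm i hK) ⟨ofMat (Psi F k i) g, hg, by
      apply dM_inj i
      rw [ofMat_dM, dM_add, dM_one, dM_mul, hK, dM_slot, phi_mat]
      refine LinearMap.ext fun X => ?_
      show g X = X + colL k κ (rowL (k ^ s) (phi σ w) X)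
      rw [hgx, rowL_phi, colL_pure]⟩
    refine ⟨c, fun x => ?_⟩
    have h1 : colL k κ = colL k (c • LinearMap.id) := by
      rw [← hK, hc, dM_smul, dM_one]
      apply ext_pure
      intro u v
      rw [colL_pure]
      show c • vecMulVec u v = vecMulVec (c • u) v
      rw [Matrix.smul_vecMulVec]
    rw [colL_injective hk h1]
    rfl

end

end Cfsg.Agent.H881
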