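import Cfsg.Agent.H881.SlotE

/-!
If the layers are scalar, `M` is contained in the standard tensor-wreath subgroup.
-/

set_option autoImplicit false
set_option linter.unusedSectionVars false

namespace Cfsg.Agent.H881

open Module Cfsg.Agent.ClassicalGeometry Cfsg.Agent.H880 Matrix Cfsg.Agent.H919 Cfsg.Geo

section

variable {F : Type*} [Field F] [Finite F] {σ : F →+* F} {k s : ℕ}

/-- The double centraliser of a slot. -/
theorem slot_of_comm (hσ : σ ≠ RingHom.id F) (hσ2 : ∀ x : F, σ (σ x) = x) (hk : 1 ≤ k)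
    {M : Subgroup (Matrix.GeneralLinearGroup (Fin (s + 1) → Fin k) F)} (hM : OverT σ M)
    (i : Fin (s + 1)) {K : Matrix (Fin (s + 1) → Fin k) (Fin (s + 1) → Fin k) F}
    (h : ∀ j ≠ i, ∀ x, K * slotMat j x = slotMat j x * K) : ∃ y, K = slotMat i y := by
  obtain ⟨T, hT⟩ := eq_rowL_of_comm (Nat.one_le_pow _ _ hk) (SS_irr hσ hσ2 hk hM i) (dM i K) (by
    rintro y ⟨j, w, l, hj, hw, hl, hy⟩ X
    have h1 : dM i K ∘ₗ (colE k y : Mat (k ^ s) k F →ₗ[F] Mat (k ^ s) k F) =
        (colE k y : Mat (k ^ s) k F →ₗ[F] Mat (k ^ s) k F) ∘ₗ dM i K := by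
      rw [← hy, ← dM_mul, ← dM_mul, h j hj]
    exact LinearMap.congr_fun h1 X)
  refine ⟨LinearMap.toMatrix' T, ?_⟩
  apply dM_inj i
  rw [hT, row_eq_dM]

theorem slot_dich (hσ : σ ≠ RingHom.id F) (hσ2 : ∀ x : F, σ (σ x) = x) (hk : 3 ≤ k)
    (hqk : 4 ≤ k ∨ ∃ c : F, c ≠ 0 ∧ σ c * c ≠ 1)
    {M : Subgroup (Matrix.GeneralLinearGroup (Fin (s + 1) → Fin k) F)} (hM : OverT σ M) (hL : LayerT σ M)
    {g : Matrix.GeneralLinearGroup (Fin (s + 1) → Fin k) F} (hg : g ∈ M) (i : Fin (s + 1)) :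
    (∀ x, ∃ y, (g : Matrix (Fin (s + 1) → Fin k) (Fin (s + 1) → Fin k) F) * slotMat i x *
      ((g⁻¹ : Matrix.GeneralLinearGroup (Fin (s + 1) → Fin k) F) : Matrix (Fin (s + 1) → Fin k) (Fin (s + 1) → Fin k) F) =
        slotMat i y) ∨
    ∀ x y, ((g : Matrix (Fin (s + 1) → Fin k) (Fin (s + 1) → Fin k) F) * slotMat i x *
      ((g⁻¹ : Matrix.GeneralLinearGroup (Fin (s + 1) → Fin k) F) : Matrix (Fin (s + 1) → Fin k) (Fin (s + 1) → Fin k) F)) *
        slotMat i y = slotMat i y *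
        ((g : Matrix (Fin (s + 1) → Fin k) (Fin (s + 1) → Fin k) F) * slotMat i x *
      ((g⁻¹ : Matrix.GeneralLinearGroup (Fin (s + 1) → Fin k) F) : Matrix (Fin (s + 1) → Fin k) (Fin (s + 1) → Fin k) F)) := by
  obtain ⟨γ, rfl⟩ := ofMat_surjective (Psi F k i) g
  have hγ : γ ∈ M.comap (ofMat (Psi F k i)) := hg
  have h1 : ∀ x, dM i (((ofMat (Psi F k i) γ : Matrix.GeneralLinearGroup (Fin (s + 1) → Fin k) F) :
      Matrix (Fin (s + 1) → Fin k) (Fin (s + 1) → Fin k) F) * slotMat i x *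
      (((ofMat (Psi F k i) γ)⁻¹ : Matrix.GeneralLinearGroup (Fin (s + 1) → Fin k) F) :
        Matrix (Fin (s + 1) → Fin k) (Fin (s + 1) → Fin k) F)) = cj γ (rowL (k ^ s) x.mulVecLin) := by
    intro x
    rw [dM_mul, dM_mul, dM_slot, ← map_inv, ofMat_dM, ofMat_dM]
    rfl
  rcases component hσ hσ2 (Nat.one_le_pow _ _ (by omega)) hk hqk (overC_of hσ hσ2 (by omega) hM hL i) hγ with h | h
  · left
    intro x
    obtain ⟨T', hT'⟩ := tens_conj_row h x.mulVecLin
    refine ⟨LinearMap.toMatrix' T', ?_⟩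
    apply dM_inj i
    rw [h1, ← row_eq_dM]
    exact LinearMap.ext hT'
  · right
    intro x y
    obtain ⟨Y, hY⟩ := h x.mulVecLin
    apply slot_comm i (Y := Y)
    rw [h1]
    exact LinearMap.ext hY

theorem slotMat_inj' (hk : 1 ≤ k) {t : ℕ} (i : Fin t) {x y : Matrix (Fin k) (Fin k) F} (h : slotMat i x = slotMat i y) :
    x = y := slotEmb_injective hk i h

/-- A slot algebra is not contained in a different slot algebra. -/
theorem slot_sub (hk : 2 ≤ k) {t : ℕ} {i m : Fin t} (h : ∀ x : Matrix (Fin k) (Fin k) F, ∃ y, slotMat i x = slotMat m y) :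
    i = m := by
  by_contra him
  have h1 : ∀ x y : Matrix (Fin k) (Fin k) F, x * y = y * x := by
    intro x y
    apply slotMat_inj' (by omega) i
    obtain ⟨y', hy'⟩ := h y
    rw [slotMat_mul, slotMat_mul, hy']
    exact slotMat_commute him x y'
  have h2 := congrFun (congrFun (h1 (Matrix.single ⟨0, by omega⟩ ⟨1, by omega⟩ 1) (Matrix.single ⟨1, by omega⟩ ⟨0, by omega⟩ 1))
    ⟨0, by omega⟩) ⟨0, by omega⟩
  rw [Matrix.single_mul_single_same, Matrix.single_mul_single_same, Matrix.single_apply, Matrix.single_apply] at h2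
  simp at h2

/-- Not every conjugate of a slot is scalar. -/
theorem slot_not_scalar (hk : 2 ≤ k) {t : ℕ} (g : Matrix.GeneralLinearGroup (Fin t → Fin k) F) (i : Fin t)
    (h : ∀ (x : Matrix (Fin k) (Fin k) F) (j : Fin t) (y : Matrix (Fin k) (Fin k) F),
      ((g : Matrix (Fin t → Fin k) (Fin t → Fin k) F) * slotMat i x *
      ((g⁻¹ : Matrix.GeneralLinearGroup (Fin t → Fin k) F) : Matrix (Fin t → Fin k) (Fin t → Fin k) F)) *
        slotMat j y = slotMat j y *
        ((g : Matrix (Fin t → Fin k) (Fin t → Fin k) F) * slotMat i x *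
      ((g⁻¹ : Matrix.GeneralLinearGroup (Fin t → Fin k) F) : Matrix (Fin t → Fin k) (Fin t → Fin k) F))) : False := by
  obtain ⟨c, hc⟩ := scalar_of_commute_slots (h (Matrix.single ⟨0, by omega⟩ ⟨1, by omega⟩ 1))
  have h1 : slotMat i (Matrix.single ⟨0, by omega⟩ ⟨1, by omega⟩ (1 : F)) = slotMat i (c • (1 : Matrix (Fin k) (Fin k) F)) := by
    have h2 := congrArg (fun Z => ((g⁻¹ : Matrix.GeneralLinearGroup (Fin t → Fin k) F) :
      Matrix (Fin t → Fin k) (Fin t → Fin k) F) * Z * (g : Matrix (Fin t → Fin k) (Fin t → Fin k) F)) hc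
    simp only [mul_assoc, Units.inv_mul_cancel_left, Units.inv_mul, mul_one] at h2
    rw [h2, slotMat_smul, slotMat_one]
    simp
  have h2 := slotMat_inj' (by omega) i h1
  have h3 := congrFun (congrFun h2 ⟨0, by omega⟩) ⟨1, by omega⟩
  simp at h3

theorem exists_even (ht : 3 ≤ s + 1) (i j : Fin (s + 1)) : ∃ π : Equiv.Perm (Fin (s + 1)), Equiv.Perm.sign π = 1 ∧ π i = j := by
  by_cases hij : i = j
  · exact ⟨1, Equiv.Perm.sign_one, hij⟩
  obtain ⟨m, hm⟩ : ∃ m : Fin (s + 1), m ∉ ({i, j} : Finset (Fin (s + 1))) := by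
    by_contra hcon
    push Not at hcon
    have h1 : (Finset.univ : Finset (Fin (s + 1))).card ≤ ({i, j} : Finset (Fin (s + 1))).card :=
      Finset.card_le_card (fun x _ => hcon x)
    rw [Finset.card_univ, Fintype.card_fin] at h1
    have h2 := Finset.card_le_two (a := i) (b := j)
    omega
  rw [Finset.mem_insert, Finset.mem_singleton, not_or] at hm
  refine ⟨Equiv.swap i j * Equiv.swap j m, ?_, ?_⟩
  · rw [Equiv.Perm.sign_mul, Equiv.Perm.sign_swap hij, Equiv.Perm.sign_swap (Ne.symm hm.2)]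
    rfl
  · rw [Equiv.Perm.mul_apply, Equiv.swap_apply_of_ne_of_ne hij (Ne.symm hm.1), Equiv.swap_apply_left]

theorem slot_map (hσ : σ ≠ RingHom.id F) (hσ2 : ∀ x : F, σ (σ x) = x) (hk : 3 ≤ k) (hs : 1 ≤ s)
    (hqk : 4 ≤ k ∨ ∃ c : F, c ≠ 0 ∧ σ c * c ≠ 1)
    {M : Subgroup (Matrix.GeneralLinearGroup (Fin (s + 1) → Fin k) F)} (hM : OverT σ M) (hL : LayerT σ M)
    {g : Matrix.GeneralLinearGroup (Fin (s + 1) → Fin k) F} (hg : g ∈ M) (i : Fin (s + 1)) :
    ∃ j, ∀ x, ∃ y, (g : Matrix (Fin (s + 1) → Fin k) (Fin (s + 1) → Fin k) F) * slotMat i x *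
      ((g⁻¹ : Matrix.GeneralLinearGroup (Fin (s + 1) → Fin k) F) : Matrix (Fin (s + 1) → Fin k) (Fin (s + 1) → Fin k) F) =
        slotMat j y := by
  by_cases hs1 : s = 1
  · subst hs1
    rcases slot_dich hσ hσ2 hk hqk hM hL hg i with h | h
    · exact ⟨i, h⟩
    · obtain ⟨j, hj⟩ : ∃ j : Fin (1 + 1), ∀ m ≠ j, m = i := by
        fin_cases i
        · exact ⟨1, fun m hm => by fin_cases m <;> simp_all⟩
        · exact ⟨0, fun m hm => by fin_cases m <;> simp_all⟩
      refine ⟨j, fun x => ?_⟩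
      apply slot_of_comm hσ hσ2 (by omega) hM j
      intro m hm y
      rw [hj m hm]
      exact h x y
  · by_contra hcon
    push Not at hcon
    apply slot_not_scalar (by omega) g i
    intro x j y
    obtain ⟨π, hπ, hπi⟩ := exists_even (by omega) i j
    have hπM := hM.perm π hπ
    have hconj : ∀ z, (facPerm F k π : Matrix (Fin (s + 1) → Fin k) (Fin (s + 1) → Fin k) F) * slotMat i z *
        (((facPerm F k π)⁻¹ : Matrix.GeneralLinearGroup (Fin (s + 1) → Fin k) F) :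
          Matrix (Fin (s + 1) → Fin k) (Fin (s + 1) → Fin k) F) = slotMat j z := by
      intro z
      rw [slotMat_apply_facPerm, hπi]
    rcases slot_dich hσ hσ2 hk hqk hM hL (M.mul_mem (M.inv_mem hπM) hg) i with h | h
    · exfalso
      obtain ⟨x', hx'⟩ := hcon j
      obtain ⟨y', hy'⟩ := h x'
      apply hx' y'
      rw [← hconj, ← hy']
      simp only [_root_.mul_inv_rev, inv_inv, Units.val_mul, mul_assoc, Units.mul_inv_cancel_left]
      simp
    · have h1 := h x y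
      rw [← hconj y]
      have h2 := congrArg (fun Z => (facPerm F k π : Matrix (Fin (s + 1) → Fin k) (Fin (s + 1) → Fin k) F) * Z *
        (((facPerm F k π)⁻¹ : Matrix.GeneralLinearGroup (Fin (s + 1) → Fin k) F) :
          Matrix (Fin (s + 1) → Fin k) (Fin (s + 1) → Fin k) F)) h1
      simp only [_root_.mul_inv_rev, inv_inv, Units.val_mul, mul_assoc, Units.mul_inv_cancel_left] at h2 ⊢
      simpa using h2

theorem wreath_of_layer (hσ : σ ≠ RingHom.id F) (hσ2 : ∀ x : F, σ (σ x) = x) (hk : 3 ≤ k) (hs : 1 ≤ s)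
    (hqk : 4 ≤ k ∨ ∃ c : F, c ≠ 0 ∧ σ c * c ≠ 1)
    {M : Subgroup (Matrix.GeneralLinearGroup (Fin (s + 1) → Fin k) F)} (hM : OverT σ M) (hL : LayerT σ M) :
    M ≤ tensorWreathStandard k (s + 1) F := by
  intro g hg
  have h1 := fun i => slot_map hσ hσ2 hk hs hqk hM hL hg i
  choose j hj using h1
  have hinj : Function.Injective j := by
    intro i i' hii'
    obtain ⟨m, hm⟩ := slot_map hσ hσ2 hk hs hqk hM hL (M.inv_mem hg) (j i)
    have h2 : ∀ r, j r = j i → r = m := by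
      intro r hr
      apply slot_sub (F := F) (k := k) (by omega)
      intro x
      obtain ⟨y, hy⟩ := hj r x
      rw [hr] at hy
      obtain ⟨z, hz⟩ := hm y
      refine ⟨z, ?_⟩
      rw [← hz, ← hy, inv_inv]
      simp [mul_assoc]
    rw [h2 i rfl, h2 i' hii'.symm]
  let π : Equiv.Perm (Fin (s + 1)) := Equiv.ofBijective j ((Finite.injective_iff_bijective).mp hinj)
  exact mem_tensorWreathStandard (by omega) (by omega) g π hj

end

end Cfsg.Agent.H881
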