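import Cfsg.Agent.H880.UScal
import Cfsg.Agent.H919.AschWreath

/-!
The setting with `t` slots: isometry groups `M` of `(F^k)^{⊗ t}` containing `SU_k` in each slot and the even
permutations of the slots. `LayerT`: the layer at isotropic points of a slot is scalar. `TransvT`: `M` contains all
unitary transvections. (Part A proves `LayerT ∨ TransvT`.)
-/

set_option autoImplicit false
set_option linter.unusedSectionVars false

namespace Cfsg.Agent.H881

open Matrix Cfsg.Agent.H919

section

variable {F : Type*} [Field F] {k t : ℕ}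

/-- `M` is a group of isometries of the standard Hermitian form of `(F^k)^{⊗ t}` containing `SU_k` in every slot and
the even permutations of the slots. -/
structure OverT (σ : F →+* F) (M : Subgroup (Matrix.GeneralLinearGroup (Fin t → Fin k) F)) : Prop where
  iso : ∀ g ∈ M, ((g : Matrix (Fin t → Fin k) (Fin t → Fin k) F).map σ)ᵀ *
    (g : Matrix (Fin t → Fin k) (Fin t → Fin k) F) = 1
  slot : ∀ (i : Fin t) (A : Matrix (Fin k) (Fin k) F), (A.map σ)ᵀ * A = 1 → A.det = 1 →
    ∃ g ∈ M, (g : Matrix (Fin t → Fin k) (Fin t → Fin k) F) = slotMat i A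
  perm : ∀ π : Equiv.Perm (Fin t), Equiv.Perm.sign π = 1 → facPerm F k π ∈ M

/-- The layer of `M` at every isotropic point of every slot is scalar: `1 + K φ_w ∈ M` with `K` commuting with the
slot `i`, `φ_w` in slot `i` implies `K` scalar. -/
def LayerT (σ : F →+* F) (M : Subgroup (Matrix.GeneralLinearGroup (Fin t → Fin k) F)) : Prop :=
  ∀ (i : Fin t) (w : Fin k → F), w ≠ 0 → ∑ j, σ (w j) * w j = 0 → ∀ K : Matrix (Fin t → Fin k) (Fin t → Fin k) F,
    (∀ x, K * slotMat i x = slotMat i x * K) →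
    (∃ g ∈ M, (g : Matrix (Fin t → Fin k) (Fin t → Fin k) F) = 1 + K * slotMat i (vecMulVec w (σ ∘ w))) →
    ∃ c : F, K = c • (1 : Matrix (Fin t → Fin k) (Fin t → Fin k) F)

/-- `M` contains all unitary transvections. -/
def TransvT (σ : F →+* F) (M : Subgroup (Matrix.GeneralLinearGroup (Fin t → Fin k) F)) : Prop :=
  ∀ w : (Fin t → Fin k) → F, ∑ f, σ (w f) * w f = 0 → ∀ l : F, l + σ l = 0 →
    ∃ g ∈ M, (g : Matrix (Fin t → Fin k) (Fin t → Fin k) F) = 1 + l • vecMulVec w (σ ∘ w)

/-- Pure tensors. -/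
def pvec {t : ℕ} (u : Fin t → Fin k → F) : (Fin t → Fin k) → F := fun f => ∏ i, u i (f i)

/-- `M` contains the unitary transvections centred at pure tensors of isotropic vectors. -/
def PureT (σ : F →+* F) (M : Subgroup (Matrix.GeneralLinearGroup (Fin t → Fin k) F)) : Prop :=
  ∀ u : Fin t → Fin k → F, (∀ i, ∑ j, σ (u i j) * u i j = 0) → ∀ l : F, l + σ l = 0 →
    ∃ g ∈ M, (g : Matrix (Fin t → Fin k) (Fin t → Fin k) F) = 1 + l • vecMulVec (pvec u) (σ ∘ pvec u)

end

end Cfsg.Agent.H881
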