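import Cfsg.Agent.H881.SlotF
import Cfsg.Agent.H919.AschWreathForm2
import Cfsg.Agent.H921.UnitWreath
import Cfsg.Agent.H921.UnitBase
import Cfsg.Agent.H918.TransvWreath
import Cfsg.Agent.H918.UProper

/-!
From the `t`-slot setting to `Cfsg.Geo.tensorWreathSubgroup`.
-/

set_option autoImplicit false
set_option linter.unusedSectionVars false

namespace Cfsg.Agent.H881

open Module Matrix Cfsg.Agent.ClassicalGeometry Cfsg.Agent.H880 Cfsg.Agent.H919 Cfsg.Geo
open Cfsg.Agent.LieClassical.HermBasic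

section Std

variable {F : Type*} [Field F] [Fintype F] {n q k t : ℕ}

theorem gram_herm (hF : Fintype.card F = q ^ 2) : gramMatrix (Cfsg.hermForm k F q) = 1 := by
  ext a b
  show Cfsg.hermForm k F q (Pi.single a 1) (Pi.single b 1) = _
  rw [herm_eq_stB hF, stB_single_left, Matrix.one_apply, Pi.single_apply]
  by_cases h : b = a
  · rw [if_pos h, if_pos h.symm]
  · rw [if_neg h, if_neg (fun h' => h h'.symm)]

theorem exists_std (hF : Fintype.card F = q ^ 2) (hk : 0 < k) (e : Fin n ≃ (Fin t → Fin k))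
    (P : Matrix.GeneralLinearGroup (Fin n) F) (f₁ : (Fin k → F) → (Fin k → F) → F) (hf₁ : IsUnitaryFormPow q f₁)
    (hT : IsTensorPowerFormStructure (fun x : F => x ^ q) (Cfsg.hermForm n F q) f₁ e P) :
    ∃ (P' : Matrix.GeneralLinearGroup (Fin n) F) (c : F), c ≠ 0 ∧ c ^ q = c ∧
      (∀ x y : (Fin t → Fin k) → F, Cfsg.hermForm n F q ((P' : Matrix (Fin n) (Fin n) F) *ᵥ (x ∘ e))
        ((P' : Matrix (Fin n) (Fin n) F) *ᵥ (y ∘ e)) = c * ∑ f, x f * (y f) ^ q) ∧
      tensorWreathSubgroup k t e P' = tensorWreathSubgroup k t e P := by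
  have hf₁' := (H921.isUnitaryFormPow_iff hF).mp hf₁
  obtain ⟨B, hB⟩ := H921.exists_isometry hF hf₁'
  have hB' := H921.gram_of_isometry hF hf₁' hB
  have hT' : IsTensorPowerFormStructure (conj hF) (Cfsg.hermForm n F q) f₁ e P := hT
  obtain ⟨c, hc0, hc⟩ := H921.isTensorPowerFormStructure_powBasis hT' B hB'
  have hform : ∀ x y : (Fin t → Fin k) → F,
      Cfsg.hermForm n F q ((H921.powBasis e P B : Matrix (Fin n) (Fin n) F) *ᵥ (x ∘ e))
        ((H921.powBasis e P B : Matrix (Fin n) (Fin n) F) *ᵥ (y ∘ e)) = c * ∑ f, x f * (y f) ^ q := by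
    intro x y
    rw [hc]
    congr 1
    refine Finset.sum_congr rfl fun f _ => ?_
    have h1 : ∀ g : Fin t → Fin k, (∏ i, gramMatrix (Cfsg.hermForm k F q) (f i) (g i)) =
        (1 : Matrix (Fin t → Fin k) (Fin t → Fin k) F) f g := by
      intro g
      rw [gram_herm hF, ← pureMat_one, pureMat_apply]
    rw [Finset.sum_eq_single f]
    · rw [h1, Matrix.one_apply_eq, mul_one]
      rfl
    · intro g _ hg
      rw [h1, Matrix.one_apply_ne (Ne.symm hg), mul_zero, zero_mul]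
    · intro h; exact absurd (Finset.mem_univ _) h
  refine ⟨H921.powBasis e P B, c, hc0, ?_, hform, H921.tensorWreathSubgroup_powBasis e P B⟩
  have f0 : Fin t → Fin k := fun _ => ⟨0, hk⟩
  have hq0 : q ≠ 0 := by
    rintro rfl
    rw [zero_pow two_ne_zero] at hF
    exact Fintype.card_ne_zero hF
  have h1 := hform (Pi.single f0 1) (Pi.single f0 1)
  have h2 : ∑ f, (Pi.single f0 (1 : F) : (Fin t → Fin k) → F) f * ((Pi.single f0 (1 : F) : (Fin t → Fin k) → F) f) ^ q = 1 := by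
    rw [Finset.sum_eq_single f0]
    · rw [Pi.single_eq_same, one_pow, mul_one]
    · intro g _ hg
      rw [Pi.single_eq_of_ne hg, zero_mul]
    · intro h; exact absurd (Finset.mem_univ _) h
  rw [h2, mul_one] at h1
  rw [← h1, herm_self_pow hF]

/-- Surjectivity of `x ↦ P (x ∘ e)`. -/
theorem frame_surj (e : Fin n ≃ (Fin t → Fin k)) (P : Matrix.GeneralLinearGroup (Fin n) F) (v : Fin n → F) :
    ∃ x : (Fin t → Fin k) → F, (P : Matrix (Fin n) (Fin n) F) *ᵥ (x ∘ e) = v := by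
  refine ⟨(((P⁻¹ : Matrix.GeneralLinearGroup (Fin n) F) : Matrix (Fin n) (Fin n) F) *ᵥ v) ∘ e.symm, ?_⟩
  have h1 : ((((P⁻¹ : Matrix.GeneralLinearGroup (Fin n) F) : Matrix (Fin n) (Fin n) F) *ᵥ v) ∘ e.symm) ∘ e =
      ((P⁻¹ : Matrix.GeneralLinearGroup (Fin n) F) : Matrix (Fin n) (Fin n) F) *ᵥ v := by
    funext i
    simp
  rw [h1, Matrix.mulVec_mulVec, ← Units.val_mul, mul_inv_cancel, Units.val_one, Matrix.one_mulVec]

theorem frameGL_mv (e : Fin n ≃ (Fin t → Fin k)) (P : Matrix.GeneralLinearGroup (Fin n) F)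
    (g : Matrix.GeneralLinearGroup (Fin t → Fin k) F) (x : (Fin t → Fin k) → F) :
    ((frameGL e P g : Matrix.GeneralLinearGroup (Fin n) F) : Matrix (Fin n) (Fin n) F) *ᵥ
      ((P : Matrix (Fin n) (Fin n) F) *ᵥ (x ∘ e)) = (P : Matrix (Fin n) (Fin n) F) *ᵥ
        (((g : Matrix (Fin t → Fin k) (Fin t → Fin k) F) *ᵥ x) ∘ e) := by
  rw [frameGL_val]
  exact frameMat_mulVec e P _ x

theorem frameGL_det (e : Fin n ≃ (Fin t → Fin k)) (P : Matrix.GeneralLinearGroup (Fin n) F)
    (g : Matrix.GeneralLinearGroup (Fin t → Fin k) F) :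
    ((frameGL e P g : Matrix.GeneralLinearGroup (Fin n) F) : Matrix (Fin n) (Fin n) F).det =
      (g : Matrix (Fin t → Fin k) (Fin t → Fin k) F).det := by
  rw [frameGL_val, frameMat, Matrix.det_units_conj, Matrix.det_reindexAlgEquiv]

theorem iso_unit' {ι : Type*} [Fintype ι] [DecidableEq ι] {σ : F →+* F} {A : Matrix ι ι F}
    (h : ∀ x y : ι → F, ∑ f, σ ((A *ᵥ x) f) * (A *ᵥ y) f = ∑ f, σ (x f) * y f) : (A.map σ)ᵀ * A = 1 := by
  classical
  ext i j
  have h1 := h (Pi.single i 1) (Pi.single j 1)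
  rw [Matrix.mul_apply, Matrix.one_apply]
  simp only [Matrix.mulVec_single_one, Matrix.transpose_apply, Matrix.map_apply, Matrix.col_apply] at h1 ⊢
  rw [h1, Finset.sum_eq_single i]
  · rw [Pi.single_eq_same, map_one, one_mul, Pi.single_apply]
  · intro b _ hb
    rw [Pi.single_eq_of_ne hb, map_zero, zero_mul]
  · intro h; exact absurd (Finset.mem_univ _) h

theorem mem_SUg_frame (hF : Fintype.card F = q ^ 2) {e : Fin n ≃ (Fin t → Fin k)}
    {P : Matrix.GeneralLinearGroup (Fin n) F} {c : F} (hc0 : c ≠ 0)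
    (hform : ∀ x y : (Fin t → Fin k) → F, Cfsg.hermForm n F q ((P : Matrix (Fin n) (Fin n) F) *ᵥ (x ∘ e))
        ((P : Matrix (Fin n) (Fin n) F) *ᵥ (y ∘ e)) = c * ∑ f, x f * (y f) ^ q)
    (g : Matrix.GeneralLinearGroup (Fin t → Fin k) F) :
    frameGL e P g ∈ H918.SUg n F q ↔
      ((g : Matrix (Fin t → Fin k) (Fin t → Fin k) F).map ((conj hF : F ≃+* F) : F →+* F))ᵀ *
        (g : Matrix (Fin t → Fin k) (Fin t → Fin k) F) = 1 ∧ (g : Matrix (Fin t → Fin k) (Fin t → Fin k) F).det = 1 := by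
  rw [H918.mem_SUg, frameGL_det]
  have hsw : ∀ x y : (Fin t → Fin k) → F, ∑ f, x f * (y f) ^ q =
      ∑ f, ((conj hF : F ≃+* F) : F →+* F) (y f) * x f := by
    intro x y
    refine Finset.sum_congr rfl fun f _ => ?_
    rw [mul_comm]
    rfl
  constructor
  · rintro ⟨h1, h2⟩
    refine ⟨iso_unit' fun x y => ?_, h2⟩
    have h3 := h1 ((P : Matrix (Fin n) (Fin n) F) *ᵥ (y ∘ e)) ((P : Matrix (Fin n) (Fin n) F) *ᵥ (x ∘ e))
    rw [frameGL_mv, frameGL_mv, hform, hform, hsw, hsw] at h3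
    exact mul_left_cancel₀ hc0 h3
  · rintro ⟨h1, h2⟩
    refine ⟨fun u v => ?_, h2⟩
    obtain ⟨x, rfl⟩ := frame_surj e P u
    obtain ⟨y, rfl⟩ := frame_surj e P v
    rw [frameGL_mv, frameGL_mv, hform, hform, hsw, hsw, unit_iso h1]

end Std

section Perm

variable {F : Type*} [Field F] {k t : ℕ}

theorem facPerm_det (π : Equiv.Perm (Fin t)) (hπ : Equiv.Perm.sign π = 1) :
    (facPerm F k π : Matrix (Fin t → Fin k) (Fin t → Fin k) F).det = 1 := by
  let D : Equiv.Perm (Fin t) →* Fˣ :=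
    (Matrix.GeneralLinearGroup.det : Matrix.GeneralLinearGroup (Fin t → Fin k) F →* Fˣ).comp
      { toFun := facPerm F k
        map_one' := by
          have h := H922.facPerm_mul (F := F) (m := k) (1 : Equiv.Perm (Fin t)) 1
          rw [mul_one] at h
          exact mul_eq_left.mp h
        map_mul' := fun σ τ => (H922.facPerm_mul σ τ).symm }
  have hD : ∀ τ, ((D τ : Fˣ) : F) = (facPerm F k τ : Matrix (Fin t → Fin k) (Fin t → Fin k) F).det := fun τ => rfl
  have hsq : ∀ τ, D τ * D τ = 1 := by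
    intro τ
    apply Units.ext
    rw [Units.val_mul, hD, Units.val_one]
    have h1 : (facPerm F k τ : Matrix (Fin t → Fin k) (Fin t → Fin k) F).det =
        (((facPerm F k τ)⁻¹ : Matrix.GeneralLinearGroup (Fin t → Fin k) F) :
          Matrix (Fin t → Fin k) (Fin t → Fin k) F).det := by
      rw [← H922.facPerm_transpose, Matrix.det_transpose]
    conv_lhs => rw [h1]
    conv_lhs =>
      arg 2
      rw [← h1]
    rw [← Matrix.det_mul, ← Units.val_mul, inv_mul_cancel, Units.val_one, Matrix.det_one]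
  have h3 : ∀ τ : Equiv.Perm (Fin t), τ.IsThreeCycle → D τ = 1 := by
    intro τ hτ
    have h1 : τ ^ 3 = 1 := by
      rw [← hτ.orderOf]
      exact pow_orderOf_eq_one τ
    have h2 : D τ ^ 3 = 1 := by rw [← map_pow, h1, map_one]
    rw [pow_succ, pow_two, hsq, one_mul] at h2
    exact h2
  have h4 : (alternatingGroup (Fin t)) ≤ D.ker := by
    rw [← Equiv.Perm.closure_three_cycles_eq_alternating, Subgroup.closure_le]
    intro τ hτ
    exact h3 τ hτ
  have h5 : D π = 1 := h4 (Equiv.Perm.mem_alternatingGroup.mpr hπ)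
  rw [← hD, h5, Units.val_one]

end Perm

end Cfsg.Agent.H881
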